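import Cfsg.Agent.MinSimple.Basic
import Cfsg.Agent.ZN.Facts
import Cfsg.Agent.Omega.NoFF.Basic
import Cfsg.Agent.Involutions.BaerSuzuki
import Cfsg.Agent.Mrg.Omega.BTwo.Str
import Cfsg.Agent.GTwoFour.Tools
import Cfsg.Agent.Mrg.Omega.Transv.Basic

section


/-!
# NO-1, Lemma T (text #11359 (0))

`V` abelian, normal in `S`, `F ≤ V` normal in `S`, `C_G(F)` of characteristic 2.  If
`V ∩ O₂(C_G(F)) ≤ F`, then `V = F`.
-/

set_option autoImplicit false

namespace Cfsg.Agent.Omega.NOne.LemmaT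

open Subgroup Cfsg Cfsg.Agent.MinSimple.VModule Cfsg.Agent.MinSimple.Basic
open Cfsg.Agent.ZN (o2)

universe u

variable {G : Type u} [Group G]

/-- If `x` moves `q` by an element commuting with `x`, then `xⁿ` moves it by the power. -/
theorem pow_conj_eq {x q f : G} (hf : x * q * x⁻¹ = f * q) (hxf : x * f = f * x) (n : ℕ) :
    x ^ n * q * (x ^ n)⁻¹ = f ^ n * q := by
  induction n with
  | zero => simp
  | succ n ih =>
    have hc : x * f ^ n = f ^ n * x := (show Commute x f from hxf).pow_right n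
    calc x ^ (n + 1) * q * (x ^ (n + 1))⁻¹ = x * (x ^ n * q * (x ^ n)⁻¹) * x⁻¹ := by
          rw [pow_succ']; group
      _ = x * (f ^ n * q) * x⁻¹ := by rw [ih]
      _ = (x * f ^ n) * q * x⁻¹ := by group
      _ = f ^ n * (x * q * x⁻¹) := by rw [hc]; group
      _ = f ^ n * (f * q) := by rw [hf]
      _ = f ^ (n + 1) * q := by rw [pow_succ]; group

theorem exists_pow_eq_one [Finite G] {F : Subgroup G} (hF : IsPGroup 2 F) :
    ∃ k : ℕ, ∀ f ∈ F, f ^ 2 ^ k = 1 := by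
  obtain ⟨k, hk⟩ := IsPGroup.iff_card.1 hF
  refine ⟨k, fun f hf => ?_⟩
  have : (⟨f, hf⟩ : F) ^ Nat.card F = 1 := pow_card_eq_one'
  rw [hk] at this
  exact congrArg Subtype.val this

/-- If `x` centralises the `2`-group `F` and moves the elements of `Q` by elements of `F`, then a
`2`-power of `x` centralises `Q`. -/
theorem exists_pow_comm [Finite G] {F : Subgroup G} (hF : IsPGroup 2 F) {x : G}
    (hxF : ∀ f ∈ F, x * f = f * x) {Q : Subgroup G} (hQ : ∀ q ∈ Q, x * q * x⁻¹ * q⁻¹ ∈ F) :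
    ∃ k : ℕ, ∀ q ∈ Q, x ^ 2 ^ k * q = q * x ^ 2 ^ k := by
  obtain ⟨k, hk⟩ := exists_pow_eq_one hF
  refine ⟨k, fun q hq => ?_⟩
  have h1 := pow_conj_eq (x := x) (q := q) (f := x * q * x⁻¹ * q⁻¹) (by group) (hxF _ (hQ q hq)) (2 ^ k)
  rw [hk _ (hQ q hq), one_mul] at h1
  calc x ^ 2 ^ k * q = (x ^ 2 ^ k * q * (x ^ 2 ^ k)⁻¹) * x ^ 2 ^ k := by group
    _ = q * x ^ 2 ^ k := by rw [h1]

/-- The elements of `C` moving the elements of `R` by elements of `F` (central in `C`). -/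
def stab (C R F : Subgroup G) (hFC : C ≤ centralizer (F : Set G)) : Subgroup G where
  carrier := {x | x ∈ C ∧ ∀ r ∈ R, x * r * x⁻¹ * r⁻¹ ∈ F}
  one_mem' := ⟨one_mem _, fun r _ => by simp⟩
  mul_mem' := by
    rintro x y ⟨hx, hxr⟩ ⟨hy, hyr⟩
    refine ⟨mul_mem hx hy, fun r hr => ?_⟩
    have h1 : x * (y * r * y⁻¹ * r⁻¹) * x⁻¹ = y * r * y⁻¹ * r⁻¹ := by
      have := mem_centralizer_iff.1 (hFC hx) _ (hyr r hr)
      rw [← this, mul_inv_cancel_right]
    have h2 : x * y * r * (x * y)⁻¹ * r⁻¹ =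
        (x * (y * r * y⁻¹ * r⁻¹) * x⁻¹) * (x * r * x⁻¹ * r⁻¹) := by group
    rw [h2, h1]
    exact mul_mem (hyr r hr) (hxr r hr)
  inv_mem' := by
    rintro x ⟨hx, hxr⟩
    refine ⟨inv_mem hx, fun r hr => ?_⟩
    have h1 : x⁻¹ * (x * r * x⁻¹ * r⁻¹)⁻¹ * x = (x * r * x⁻¹ * r⁻¹)⁻¹ := by
      have := mem_centralizer_iff.1 (hFC (inv_mem hx)) _ (inv_mem (hxr r hr))
      rw [← this, inv_mul_cancel_right]
    have h2 : x⁻¹ * r * x⁻¹⁻¹ * r⁻¹ = x⁻¹ * (x * r * x⁻¹ * r⁻¹)⁻¹ * x := by group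
    rw [h2, h1]
    exact inv_mem (hxr r hr)

theorem mem_stab {C R F : Subgroup G} {hFC : C ≤ centralizer (F : Set G)} {x : G} :
    x ∈ stab C R F hFC ↔ x ∈ C ∧ ∀ r ∈ R, x * r * x⁻¹ * r⁻¹ ∈ F := Iff.rfl

/-- The stabiliser of the chain `O₂(C) ≥ F ≥ 1` in `C` (of characteristic 2) lies in `O₂(C)`. -/
theorem le_o2_of_stab [Finite G] {C F V : Subgroup G} (hC : C ⊓ centralizer (o2 C : Set G) ≤ o2 C)
    (hF : IsPGroup 2 F) (hFC : C ≤ centralizer (F : Set G)) (hVC : V ≤ C)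
    (hV : ∀ v ∈ V, ∀ r ∈ o2 C, v * r * v⁻¹ * r⁻¹ ∈ F) : V ≤ o2 C := by
  have h1 : V ≤ stab C (o2 C) F hFC := fun v hv => ⟨hVC hv, hV v hv⟩
  refine h1.trans (le_o2 (fun x hx => hx.1) ?_ ?_)
  · rintro ⟨x, hx, hxr⟩
    have hxF : ∀ f ∈ F, x * f = f * x := fun f hf => (mem_centralizer_iff.1 (hFC hx) f hf).symm
    obtain ⟨k, hk⟩ := exists_pow_comm hF hxF hxr
    have h2 : x ^ 2 ^ k ∈ o2 C := hC ⟨pow_mem hx _, mem_centralizer_iff.2 fun r hr => (hk r hr).symm⟩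
    obtain ⟨l, hl⟩ := exists_pow_eq_one (o2_isPGroup C)
    refine ⟨k + l, Subtype.ext ?_⟩
    change x ^ 2 ^ (k + l) = 1
    rw [pow_add, pow_mul]
    exact hl _ h2
  · intro c hc
    have hcn := le_normalizer_o2 C hc
    have key : ∀ c ∈ C, ∀ x ∈ stab C (o2 C) F hFC, c * x * c⁻¹ ∈ stab C (o2 C) F hFC := by
      rintro c hc x ⟨hx, hxr⟩
      refine ⟨mul_mem (mul_mem hc hx) (inv_mem hc), fun r hr => ?_⟩
      have hr' : c⁻¹ * r * c ∈ o2 C := by
        have := (mem_normalizer_iff.1 (inv_mem (le_normalizer_o2 C hc)) r).1 hr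
        rwa [inv_inv] at this
      have h3 := hxr _ hr'
      have h4 : c * (x * (c⁻¹ * r * c) * x⁻¹ * (c⁻¹ * r * c)⁻¹) * c⁻¹ =
          x * (c⁻¹ * r * c) * x⁻¹ * (c⁻¹ * r * c)⁻¹ := by
        have := mem_centralizer_iff.1 (hFC hc) _ h3
        rw [← this, mul_inv_cancel_right]
      have h5 : c * x * c⁻¹ * r * (c * x * c⁻¹)⁻¹ * r⁻¹ =
          c * (x * (c⁻¹ * r * c) * x⁻¹ * (c⁻¹ * r * c)⁻¹) * c⁻¹ := by group
      rw [h5, h4]
      exact h3
    rw [mem_normalizer_iff]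
    intro x
    refine ⟨key c hc x, fun hx => ?_⟩
    have h6 := key c⁻¹ (inv_mem hc) _ hx
    have e : c⁻¹ * (c * x * c⁻¹) * c⁻¹⁻¹ = x := by group
    rwa [e] at h6

/-- A normal subgroup of a group of characteristic 2 has characteristic 2 (inside `G`). -/
theorem char2_of_normal [Finite G] {N X : Subgroup G}
    (hN : N ⊓ centralizer (o2 N : Set G) ≤ o2 N) (hXN : X ≤ N)
    (hn : N ≤ normalizer (X : Set G)) : X ⊓ centralizer (o2 X : Set G) ≤ o2 X := by
  set K := X ⊓ centralizer (o2 X : Set G) with hK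
  have hNo : N ≤ normalizer (o2 X : Set G) := hn.trans (Cfsg.Agent.ZN.normalizer_le_normalizer_o2 X)
  have hKn : ∀ n ∈ N, ∀ x ∈ K, n * x * n⁻¹ ∈ K := by
    rintro n hnN x ⟨hx, hxc⟩
    refine ⟨(mem_normalizer_iff.1 (hn hnN) x).1 hx, ?_⟩
    replace hxc := mem_centralizer_iff.1 hxc
    refine mem_centralizer_iff.2 fun r hr => ?_
    have hr' : n⁻¹ * r * n ∈ o2 X := by
      have := (mem_normalizer_iff.1 (inv_mem (hNo hnN)) r).1 hr
      rwa [inv_inv] at this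
    have h3 := hxc _ hr'
    calc r * (n * x * n⁻¹) = n * ((n⁻¹ * r * n) * x) * n⁻¹ := by group
      _ = n * (x * (n⁻¹ * r * n)) * n⁻¹ := by rw [h3]
      _ = n * x * n⁻¹ * r := by group
  have hKN : N ≤ normalizer (K : Set G) := by
    intro n hnN
    rw [mem_normalizer_iff]
    intro x
    refine ⟨hKn n hnN x, fun hx => ?_⟩
    have h6 := hKn n⁻¹ (inv_mem hnN) _ hx
    have e : n⁻¹ * (n * x * n⁻¹) * n⁻¹⁻¹ = x := by group
    rwa [e] at h6
  -- `K ∩ O₂(N) ≤ O₂(X)`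
  have h1 : K ⊓ o2 N ≤ o2 X := by
    refine le_o2 (inf_le_left.trans inf_le_left) ((o2_isPGroup N).to_le inf_le_right) ?_
    intro x hx
    rw [mem_normalizer_iff]
    have key : ∀ x ∈ X, ∀ y ∈ K ⊓ o2 N, x * y * x⁻¹ ∈ K ⊓ o2 N := fun x hx y hy =>
      ⟨hKn x (hXN hx) y hy.1, (mem_normalizer_iff.1 (le_normalizer_o2 N (hXN hx)) y).1 hy.2⟩
    intro y
    refine ⟨key x hx y, fun hy => ?_⟩
    have h6 := key x⁻¹ (inv_mem hx) _ hy
    have e : x⁻¹ * (x * y * x⁻¹) * x⁻¹⁻¹ = y := by group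
    rwa [e] at h6
  refine le_o2 inf_le_left ?_ (hXN.trans hKN)
  rintro ⟨x, hx⟩
  have h2 : ∀ r ∈ o2 N, x * r * x⁻¹ * r⁻¹ ∈ K ⊓ o2 N := by
    intro r hr
    refine mem_inf.2 ⟨?_, mul_mem ((mem_normalizer_iff.1 (le_normalizer_o2 N (hXN hx.1)) r).1 hr)
      (inv_mem hr)⟩
    have h3 := hKn r (o2_le N hr) x⁻¹ (inv_mem hx)
    have e : x * r * x⁻¹ * r⁻¹ = x * (r * x⁻¹ * r⁻¹) := by group
    rw [e]
    exact mul_mem hx h3
  obtain ⟨k, hk⟩ := exists_pow_comm ((o2_isPGroup N).to_le inf_le_right : IsPGroup 2 ↥(K ⊓ o2 N))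
    (fun f hf => (mem_centralizer_iff.1 hx.2 f (h1 hf)).symm) h2
  have h4 : x ^ 2 ^ k ∈ o2 N := hN ⟨pow_mem (hXN hx.1) _,
    mem_centralizer_iff.2 fun r hr => (hk r hr).symm⟩
  obtain ⟨l, hl⟩ := exists_pow_eq_one (o2_isPGroup N)
  refine ⟨k + l, Subtype.ext ?_⟩
  change x ^ 2 ^ (k + l) = 1
  rw [pow_add, pow_mul]
  exact hl _ h4

theorem normalizer_le_normalizer_centralizer (F : Subgroup G) :
    normalizer (F : Set G) ≤ normalizer (centralizer (F : Set G) : Set G) := by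
  have key : ∀ n ∈ normalizer (F : Set G), ∀ x ∈ centralizer (F : Set G),
      n * x * n⁻¹ ∈ centralizer (F : Set G) := by
    intro n hn x hx
    rw [mem_centralizer_iff] at hx ⊢
    intro f hf
    have hf' : n⁻¹ * f * n ∈ F := by
      have := (mem_normalizer_iff.1 (inv_mem hn) f).1 hf
      rwa [inv_inv] at this
    have h3 := hx _ hf'
    calc f * (n * x * n⁻¹) = n * ((n⁻¹ * f * n) * x) * n⁻¹ := by group
      _ = n * (x * (n⁻¹ * f * n)) * n⁻¹ := by rw [h3]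
      _ = n * x * n⁻¹ * f := by group
  intro n hn
  rw [mem_normalizer_iff]
  intro x
  refine ⟨key n hn x, fun hx => ?_⟩
  have h6 := key n⁻¹ (inv_mem hn) _ hx
  have e : n⁻¹ * (n * x * n⁻¹) * n⁻¹⁻¹ = x := by group
  rwa [e] at h6

theorem centralizer_le_normalizer' (F : Subgroup G) :
    centralizer (F : Set G) ≤ normalizer (F : Set G) := by
  intro x hx
  rw [mem_normalizer_iff]
  rw [mem_centralizer_iff] at hx
  intro f
  constructor
  · intro hf
    rw [← hx f hf, mul_inv_cancel_right]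
    exact hf
  · intro hf
    have h1 := hx _ hf
    have h2 : x * f * x⁻¹ = f := by
      have h3 : x * f * x⁻¹ * x = x * (x * f * x⁻¹) := h1
      have h4 : x * f = x * (x * f * x⁻¹) := by rw [← h3]; group
      exact (mul_left_cancel h4).symm
    rwa [h2] at hf

/-- `C_G(F)` has characteristic 2 in a group of characteristic 2 type. -/
theorem char2_centralizer [Finite G] (hG : IsCharacteristicTwoType G) {F : Subgroup G}
    (hF : IsPGroup 2 F) (hF1 : F ≠ ⊥) :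
    centralizer (F : Set G) ⊓ centralizer (o2 (centralizer (F : Set G)) : Set G) ≤
      o2 (centralizer (F : Set G)) :=
  char2_of_normal (char2_normalizer hG hF hF1) (centralizer_le_normalizer' F)
    (normalizer_le_normalizer_centralizer F)

/-- `O₂(C_G(F)) ≤ S` for `F` normal in the Sylow 2-subgroup `S`. -/
theorem o2_centralizer_le (S : Sylow 2 G) {F : Subgroup G}
    (hSF : (S : Subgroup G) ≤ normalizer (F : Set G)) :
    o2 (centralizer (F : Set G)) ≤ (S : Subgroup G) := by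
  have h0 : (S : Subgroup G) ≤ normalizer (o2 (centralizer (F : Set G)) : Set G) :=
    (hSF.trans (normalizer_le_normalizer_centralizer F)).trans
      (Cfsg.Agent.ZN.normalizer_le_normalizer_o2 _)
  have h1 : IsPGroup 2 ((S : Subgroup G) ⊔ o2 (centralizer (F : Set G)) : Subgroup G) :=
    IsPGroup.to_sup_of_normal_right' S.isPGroup' (o2_isPGroup _) h0
  have h2 := S.is_maximal' h1 le_sup_left
  exact le_sup_right.trans h2.le

/-- **Lemma T.** -/
theorem lemmaT [Finite G] (S : Sylow 2 G) {F V : Subgroup G}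
    (hc : centralizer (F : Set G) ⊓ centralizer (o2 (centralizer (F : Set G)) : Set G) ≤
      o2 (centralizer (F : Set G)))
    (hFV : F ≤ V) (hVS : V ≤ (S : Subgroup G)) (hSV : (S : Subgroup G) ≤ normalizer (V : Set G))
    (hSF : (S : Subgroup G) ≤ normalizer (F : Set G)) (hVV : V ≤ centralizer (V : Set G))
    (h : V ⊓ o2 (centralizer (F : Set G)) ≤ F) : V ≤ F := by
  have hF : IsPGroup 2 F := S.isPGroup'.to_le (hFV.trans hVS)
  have hVC : V ≤ centralizer (F : Set G) := hVV.trans (centralizer_le hFV)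
  have hFC : centralizer (F : Set G) ≤ centralizer (F : Set G) := le_rfl
  have h1 : V ≤ o2 (centralizer (F : Set G)) := by
    refine le_o2_of_stab hc hF hFC hVC fun v hv r hr => h (mem_inf.2 ⟨?_, ?_⟩)
    · have h2 := (mem_normalizer_iff.1 (hSV (o2_centralizer_le S hSF hr)) v⁻¹).1 (inv_mem hv)
      have e : v * r * v⁻¹ * r⁻¹ = v * (r * v⁻¹ * r⁻¹) := by group
      rw [e]
      exact mul_mem hv h2
    · have h2 := (mem_normalizer_iff.1 (le_normalizer_o2 _ (hVC hv)) r).1 hr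
      exact mul_mem h2 (inv_mem hr)
  exact (le_inf le_rfl h1).trans h

/-- **Lemma T** in a group of characteristic 2 type: `V ≤ O₂(C_G(F))` or
`F < V ∩ O₂(C_G(F)) < V`. -/
theorem lemmaT' [Finite G] (hG : IsCharacteristicTwoType G) (S : Sylow 2 G) {F V : Subgroup G}
    (hF1 : F ≠ ⊥) (hFV : F ≤ V) (hVS : V ≤ (S : Subgroup G))
    (hSV : (S : Subgroup G) ≤ normalizer (V : Set G))
    (hSF : (S : Subgroup G) ≤ normalizer (F : Set G)) (hVV : V ≤ centralizer (V : Set G)) :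
    V ≤ o2 (centralizer (F : Set G)) ∨
      (F < V ⊓ o2 (centralizer (F : Set G)) ∧ V ⊓ o2 (centralizer (F : Set G)) < V) := by
  have hF : IsPGroup 2 F := S.isPGroup'.to_le (hFV.trans hVS)
  have hc := char2_centralizer hG hF hF1
  by_cases hV : V ≤ o2 (centralizer (F : Set G))
  · exact Or.inl hV
  · refine Or.inr ⟨lt_of_le_of_ne (le_inf hFV (le_o2 ?_ hF ?_)) ?_,
      lt_of_le_of_ne inf_le_left fun h => hV (h ▸ inf_le_right)⟩
    · exact hFV.trans (hVV.trans (centralizer_le hFV))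
    · exact centralizer_le_normalizer' F
    · intro h
      have h2 := lemmaT S hc hFV hVS hSV hSF hVV h.ge
      exact hV (h2.trans (h.le.trans inf_le_right))

/-- `V ∩ O₂(C_G(F))` is invariant under everything normalising `V` and `F`. -/
theorem le_normalizer_inf (F V : Subgroup G) :
    normalizer (V : Set G) ⊓ normalizer (F : Set G) ≤
      normalizer ((V ⊓ o2 (centralizer (F : Set G)) : Subgroup G) : Set G) := by
  intro x hx
  obtain ⟨h1, h2⟩ := mem_inf.1 hx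
  have h3 := Cfsg.Agent.ZN.normalizer_le_normalizer_o2 _ (normalizer_le_normalizer_centralizer F h2)
  rw [mem_normalizer_iff] at h1 h3 ⊢
  intro y
  exact and_congr (h1 y) (h3 y)

end Cfsg.Agent.Omega.NOne.LemmaT

end

section


/-!
# NO-1, the frame for a pair `V`, `V^g` (text #11359 (1))

`V` abelian, `Q` and `V` normalise each other, `g` normalises `Q` and lies in `X = ⟨V, V^g⟩`.
`E = V ∩ Q`, `E^g`, `W = E E^g`, `D = E ∩ E^g`.
-/

set_option autoImplicit false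

namespace Cfsg.Agent.Omega.NOne.Frame

open Subgroup Cfsg.Agent.Omega.NoFF.Basic
open scoped Pointwise

universe u

variable {G : Type u} [Group G]

/-- The situation of text #11359 (1); `g` acts by `x ↦ g x g⁻¹`. -/
structure Fr (V Q : Subgroup G) (g : G) : Prop where
  comm : V ≤ centralizer (V : Set G)
  QV : Q ≤ normalizer (V : Set G)
  VQ : V ≤ normalizer (Q : Set G)
  gQ : MulAut.conj g • Q = Q
  gX : g ∈ V ⊔ MulAut.conj g • V

/-- `E = V ∩ Q` -/
abbrev E (V Q : Subgroup G) : Subgroup G := V ⊓ Q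

/-- `E^g` -/
abbrev E' (V Q : Subgroup G) (g : G) : Subgroup G := MulAut.conj g • (V ⊓ Q)

/-- `V^g` -/
abbrev V' (V : Subgroup G) (g : G) : Subgroup G := MulAut.conj g • V

/-- `X = ⟨V, V^g⟩` -/
abbrev X (V : Subgroup G) (g : G) : Subgroup G := V ⊔ MulAut.conj g • V

/-- `D = E ∩ E^g` -/
abbrev D (V Q : Subgroup G) (g : G) : Subgroup G := E V Q ⊓ E' V Q g

/-- `W = ⟨E, E^g⟩` -/
abbrev W (V Q : Subgroup G) (g : G) : Subgroup G := E V Q ⊔ E' V Q g

section General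

theorem mem_conj' {g x : G} {H : Subgroup G} : x ∈ MulAut.conj g • H ↔ ∃ h ∈ H, x = g * h * g⁻¹ := by
  rw [mem_conj]
  constructor
  · intro h
    exact ⟨_, h, by group⟩
  · rintro ⟨h, hh, rfl⟩
    have e : g⁻¹ * (g * h * g⁻¹) * g = h := by group
    rwa [e]

theorem conj_mem {g x : G} {H : Subgroup G} (h : x ∈ H) : g * x * g⁻¹ ∈ MulAut.conj g • H :=
  mem_conj'.2 ⟨x, h, rfl⟩

theorem comm_of_le_centralizer {A B : Subgroup G} (h : A ≤ centralizer (B : Set G)) {a b : G}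
    (ha : a ∈ A) (hb : b ∈ B) : a * b = b * a := (mem_centralizer_iff.1 (h ha) b hb).symm

theorem le_centralizer_of_comm {A B : Subgroup G} (h : ∀ a ∈ A, ∀ b ∈ B, a * b = b * a) :
    A ≤ centralizer (B : Set G) := fun a ha => mem_centralizer_iff.2 fun b hb => (h a ha b hb).symm

theorem norm_mem {A : Subgroup G} {x a : G} (hx : x ∈ normalizer (A : Set G)) (ha : a ∈ A) :
    x * a * x⁻¹ ∈ A := (mem_normalizer_iff.1 hx a).1 ha

theorem norm_mem' {A : Subgroup G} {x a : G} (hx : x ∈ normalizer (A : Set G)) (ha : a ∈ A) :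
    x⁻¹ * a * x ∈ A := by
  have := (mem_normalizer_iff.1 (inv_mem hx) a).1 ha
  rwa [inv_inv] at this

/-- `[A, B] ≤ A ∩ B` for subgroups normalising each other. -/
theorem comm_mem_inf {A B : Subgroup G} (hAB : A ≤ normalizer (B : Set G))
    (hBA : B ≤ normalizer (A : Set G)) {a b : G} (ha : a ∈ A) (hb : b ∈ B) :
    a * b * a⁻¹ * b⁻¹ ∈ A ⊓ B := by
  refine mem_inf.2 ⟨?_, mul_mem (norm_mem (hAB ha) hb) (inv_mem hb)⟩
  have e : a * b * a⁻¹ * b⁻¹ = a * (b * a⁻¹ * b⁻¹) := by group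
  rw [e]
  exact mul_mem ha (norm_mem (hBA hb) (inv_mem ha))

/-- If `A` moves the elements of `B` by elements of `B`, then `A` normalises `B`. -/
theorem le_normalizer_of_comm {A B : Subgroup G} (h : ∀ a ∈ A, ∀ b ∈ B, a * b * a⁻¹ * b⁻¹ ∈ B) :
    A ≤ normalizer (B : Set G) := by
  have key : ∀ a ∈ A, ∀ b ∈ B, a * b * a⁻¹ ∈ B := fun a ha b hb => by
    have := mul_mem (h a ha b hb) hb
    rwa [inv_mul_cancel_right] at this
  intro a ha
  rw [mem_normalizer_iff]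
  intro b
  refine ⟨key a ha b, fun hb => ?_⟩
  have h6 := key a⁻¹ (inv_mem ha) _ hb
  have e : a⁻¹ * (a * b * a⁻¹) * a⁻¹⁻¹ = b := by group
  rwa [e] at h6

/-- The elements of `X` moving the elements of `W` by elements of `W₀` (`W₀` normalised by `X`). -/
def stab (X W W₀ : Subgroup G) (hX : X ≤ normalizer (W₀ : Set G)) : Subgroup G where
  carrier := {x | x ∈ X ∧ ∀ w ∈ W, x * w * x⁻¹ * w⁻¹ ∈ W₀}
  one_mem' := ⟨one_mem _, fun r _ => by simp⟩
  mul_mem' := by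
    rintro x y ⟨hx, hxr⟩ ⟨hy, hyr⟩
    refine ⟨mul_mem hx hy, fun r hr => ?_⟩
    have h2 : x * y * r * (x * y)⁻¹ * r⁻¹ =
        (x * (y * r * y⁻¹ * r⁻¹) * x⁻¹) * (x * r * x⁻¹ * r⁻¹) := by group
    rw [h2]
    exact mul_mem (norm_mem (hX hx) (hyr r hr)) (hxr r hr)
  inv_mem' := by
    rintro x ⟨hx, hxr⟩
    refine ⟨inv_mem hx, fun r hr => ?_⟩
    have h2 : x⁻¹ * r * x⁻¹⁻¹ * r⁻¹ = x⁻¹ * (x * r * x⁻¹ * r⁻¹)⁻¹ * x := by group
    rw [h2]
    exact norm_mem' (hX hx) (inv_mem (hxr r hr))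

end General

namespace Fr

variable {V Q : Subgroup G} {g : G} (h : Fr V Q g)
include h

theorem E'_eq : E' V Q g = MulAut.conj g • V ⊓ Q := by
  rw [E', Subgroup.smul_inf, h.gQ]

theorem g_mem_norm : g ∈ normalizer (Q : Set G) := by
  rw [mem_normalizer_iff]
  intro x
  constructor
  · intro hx
    have := conj_mem (g := g) hx
    rwa [h.gQ] at this
  · intro hx
    rw [← h.gQ, mem_conj] at hx
    have e : g⁻¹ * (g * x * g⁻¹) * g = x := by group
    rwa [e] at hx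

theorem QV' : Q ≤ normalizer ((V' V g : Subgroup G) : Set G) := by
  intro q hq
  have hq' : g⁻¹ * q * g ∈ Q := norm_mem' h.g_mem_norm hq
  have h1 := h.QV hq'
  rw [mem_normalizer_iff] at h1 ⊢
  intro x
  rw [mem_conj, mem_conj, h1]
  have e : g⁻¹ * q * g * (g⁻¹ * x * g) * (g⁻¹ * q * g)⁻¹ = g⁻¹ * (q * x * q⁻¹) * g := by group
  rw [e]

theorem V'Q : V' V g ≤ normalizer (Q : Set G) := by
  intro x hx
  obtain ⟨v, hv, rfl⟩ := mem_conj'.1 hx
  exact mul_mem (mul_mem h.g_mem_norm (h.VQ hv)) (inv_mem h.g_mem_norm)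

theorem comm' : V' V g ≤ centralizer ((V' V g : Subgroup G) : Set G) := conj_le_centralizer h.comm

/-- `[V, Q] ≤ E` -/
theorem comm_VQ {v q : G} (hv : v ∈ V) (hq : q ∈ Q) : v * q * v⁻¹ * q⁻¹ ∈ E V Q :=
  comm_mem_inf h.VQ h.QV hv hq

/-- `[V^g, Q] ≤ E^g` -/
theorem comm_V'Q {v q : G} (hv : v ∈ V' V g) (hq : q ∈ Q) : v * q * v⁻¹ * q⁻¹ ∈ E' V Q g := by
  rw [h.E'_eq]
  exact comm_mem_inf h.V'Q h.QV' hv hq

omit h in
theorem E_le_V : E V Q ≤ V := inf_le_left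

omit h in
theorem E_le_Q : E V Q ≤ Q := inf_le_right

omit h in
theorem E'_le_V' : E' V Q g ≤ V' V g := conj_le_iff.2 inf_le_left

theorem E'_le_Q : E' V Q g ≤ Q := by rw [h.E'_eq]; exact inf_le_right

theorem W_le_Q : W V Q g ≤ Q := sup_le E_le_Q h.E'_le_Q

/-- `D` is centralised by `X`. -/
theorem D_cent {d x : G} (hd : d ∈ D V Q g) (hx : x ∈ X V g) : x * d = d * x := by
  have h1 : X V g ≤ centralizer ((D V Q g : Subgroup G) : Set G) := by
    refine sup_le (h.comm.trans (centralizer_le ?_)) (h.comm'.trans (centralizer_le ?_))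
    · exact fun d hd => hd.1.1
    · exact fun d hd => E'_le_V' hd.2
  exact comm_of_le_centralizer h1 hx hd

/-- `C_{E^g}(V) ≤ D` -/
theorem mem_D_of_E' {x : G} (hx : x ∈ E' V Q g) (hxV : ∀ v ∈ V, x * v = v * x) : x ∈ D V Q g := by
  refine mem_inf.2 ⟨?_, hx⟩
  have h1 : X V g ≤ centralizer {x} := by
    refine sup_le (fun v hv => ?_) (fun v hv => ?_)
    · rw [mem_centralizer_singleton_iff]
      exact (hxV v hv).symm
    · rw [mem_centralizer_singleton_iff]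
      exact comm_of_le_centralizer h.comm' hv (E'_le_V' hx)
  have h2 := h1 h.gX
  rw [mem_centralizer_singleton_iff] at h2
  have h3 := mem_conj.1 hx
  have e : g⁻¹ * x * g = x := by rw [mul_assoc, ← h2]; group
  rwa [e] at h3

/-- `C_E(V^g) ≤ D` -/
theorem mem_D_of_E {x : G} (hx : x ∈ E V Q) (hxV : ∀ v ∈ V' V g, x * v = v * x) :
    x ∈ D V Q g := by
  refine mem_inf.2 ⟨hx, ?_⟩
  have h1 : X V g ≤ centralizer {x} := by
    refine sup_le (fun v hv => ?_) (fun v hv => ?_)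
    · rw [mem_centralizer_singleton_iff]
      exact comm_of_le_centralizer h.comm hv hx.1
    · rw [mem_centralizer_singleton_iff]
      exact (hxV v hv).symm
  have h2 := h1 h.gX
  rw [mem_centralizer_singleton_iff] at h2
  refine mem_conj.2 ?_
  have e : g⁻¹ * x * g = x := by rw [mul_assoc, ← h2]; group
  rwa [e]

/-- `[E, E^g] ≤ D` -/
theorem comm_EE' {x y : G} (hx : x ∈ E V Q) (hy : y ∈ E' V Q g) : x * y * x⁻¹ * y⁻¹ ∈ D V Q g := by
  refine mem_inf.2 ⟨h.comm_VQ hx.1 (h.E'_le_Q hy), ?_⟩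
  have h1 := inv_mem (h.comm_V'Q (E'_le_V' hy) (E_le_Q hx))
  have e : (y * x * y⁻¹ * x⁻¹)⁻¹ = x * y * x⁻¹ * y⁻¹ := by group
  rwa [e] at h1

/-- `Q` normalises `E`. -/
theorem Q_le_norm_E : Q ≤ normalizer ((E V Q : Subgroup G) : Set G) := by
  intro q hq
  have h1 := h.QV hq
  have h2 : q ∈ normalizer (Q : Set G) := le_normalizer hq
  rw [mem_normalizer_iff] at h1 h2 ⊢
  exact fun x => and_congr (h1 x) (h2 x)

theorem Q_le_norm_E' : Q ≤ normalizer ((E' V Q g : Subgroup G) : Set G) := by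
  rw [h.E'_eq]
  intro q hq
  have h1 := h.QV' hq
  have h2 : q ∈ normalizer (Q : Set G) := le_normalizer hq
  rw [mem_normalizer_iff] at h1 h2 ⊢
  exact fun x => and_congr (h1 x) (h2 x)

theorem mem_W {w : G} : w ∈ W V Q g ↔ ∃ e ∈ E V Q, ∃ f ∈ E' V Q g, e * f = w := by
  constructor
  · intro hw
    have h1 : E' V Q g ≤ normalizer ((E V Q : Subgroup G) : Set G) := h.E'_le_Q.trans h.Q_le_norm_E
    have h2 := Subgroup.coe_mul_of_right_le_normalizer_left (E V Q) (E' V Q g) h1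
    have h3 : w ∈ ((E V Q ⊔ E' V Q g : Subgroup G) : Set G) := hw
    rw [h2] at h3
    obtain ⟨e, he, f, hf, rfl⟩ := h3
    exact ⟨e, he, f, hf, rfl⟩
  · rintro ⟨e, he, f, hf, rfl⟩
    exact mul_mem (mem_sup_left he) (mem_sup_right hf)

/-- `X` moves the elements of `Q` by elements of `W`. -/
theorem V_norm_W : V ≤ normalizer ((W V Q g : Subgroup G) : Set G) :=
  le_normalizer_of_comm fun _ hv _ hw => mem_sup_left (h.comm_VQ hv (h.W_le_Q hw))

theorem V'_norm_W : V' V g ≤ normalizer ((W V Q g : Subgroup G) : Set G) :=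
  le_normalizer_of_comm fun _ hv _ hw => mem_sup_right (h.comm_V'Q hv (h.W_le_Q hw))

/-- `W` is normal in `X`. -/
theorem X_norm_W : X V g ≤ normalizer ((W V Q g : Subgroup G) : Set G) := sup_le h.V_norm_W h.V'_norm_W

/-- `[Q, X] ≤ W` -/
theorem comm_XQ {x q : G} (hx : x ∈ X V g) (hq : q ∈ Q) : x * q * x⁻¹ * q⁻¹ ∈ W V Q g := by
  have h1 : X V g ≤ stab (X V g) Q (W V Q g) h.X_norm_W := by
    refine sup_le (fun v hv => ?_) (fun v hv => ?_)
    · exact ⟨mem_sup_left hv, fun q hq => mem_sup_left (h.comm_VQ hv hq)⟩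
    · exact ⟨mem_sup_right hv, fun q hq => mem_sup_right (h.comm_V'Q hv hq)⟩
  exact (h1 hx).2 q hq

theorem X_norm_Q : X V g ≤ normalizer (Q : Set G) := sup_le h.VQ h.V'Q

/-- `g` maps `E` to `E^g`, and `g e g⁻¹ ∈ e W`. -/
theorem comm_gE {e : G} (he : e ∈ E V Q) : g * e * g⁻¹ * e⁻¹ ∈ W V Q g := h.comm_XQ h.gX he.2

/-- The kernel of `X` on `W / D` is a `2`-group, `Q` containing its centralizer in `C ≥ X`. -/
theorem exists_pow_eq_one [Finite G] {C : Subgroup G} (hQ2 : IsPGroup 2 Q)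
    (hC : C ⊓ centralizer (Q : Set G) ≤ Q) (hXC : X V g ≤ C) {x : G} (hx : x ∈ X V g)
    (hxW : ∀ w ∈ W V Q g, x * w * x⁻¹ * w⁻¹ ∈ D V Q g) : ∃ k : ℕ, x ^ 2 ^ k = 1 := by
  have hW2 : IsPGroup 2 (W V Q g) := hQ2.to_le h.W_le_Q
  have hD2 : IsPGroup 2 (D V Q g) := hQ2.to_le (inf_le_left.trans E_le_Q)
  obtain ⟨k, hk⟩ := LemmaT.exists_pow_comm hD2 (fun d hd => h.D_cent hd hx) hxW
  have hy : x ^ 2 ^ k ∈ X V g := pow_mem hx _
  obtain ⟨l, hl⟩ := LemmaT.exists_pow_comm hW2 hk (fun q hq => h.comm_XQ hy hq)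
  have h1 : (x ^ 2 ^ k) ^ 2 ^ l ∈ Q := hC (mem_inf.2 ⟨hXC (pow_mem hy _),
    mem_centralizer_iff.2 fun q hq => (hl q hq).symm⟩)
  obtain ⟨m, hm⟩ := LemmaT.exists_pow_eq_one hQ2
  refine ⟨k + l + m, ?_⟩
  rw [pow_add, pow_add, pow_mul, pow_mul]
  exact hm _ h1

/-- `[C_Q(V), E^g] ≤ D` -/
theorem comm_CQ {c y : G} (hc : c ∈ Q) (hcV : ∀ v ∈ V, c * v = v * c) (hy : y ∈ E' V Q g) :
    c * y * c⁻¹ * y⁻¹ ∈ D V Q g := by
  refine h.mem_D_of_E' (mul_mem (norm_mem (h.Q_le_norm_E' hc) hy) (inv_mem hy)) fun v hv => ?_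
  have hyV : y ∈ normalizer (V : Set G) := h.QV (h.E'_le_Q hy)
  have h1 : ∀ v ∈ V, (y * c⁻¹ * y⁻¹) * v = v * (y * c⁻¹ * y⁻¹) := by
    intro v hv
    have h2 : y⁻¹ * v * y ∈ V := norm_mem' hyV hv
    have h3 := hcV _ h2
    have h4 : c⁻¹ * (y⁻¹ * v * y) = (y⁻¹ * v * y) * c⁻¹ := by
      have e : c⁻¹ * (c * (y⁻¹ * v * y)) * c⁻¹ = c⁻¹ * (y⁻¹ * v * y * c) * c⁻¹ := by rw [h3]
      have e1 : c⁻¹ * (c * (y⁻¹ * v * y)) * c⁻¹ = (y⁻¹ * v * y) * c⁻¹ := by group
      have e2 : c⁻¹ * (y⁻¹ * v * y * c) * c⁻¹ = c⁻¹ * (y⁻¹ * v * y) := by group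
      rw [e1, e2] at e
      exact e.symm
    calc (y * c⁻¹ * y⁻¹) * v = y * (c⁻¹ * (y⁻¹ * v * y)) * y⁻¹ := by group
      _ = y * ((y⁻¹ * v * y) * c⁻¹) * y⁻¹ := by rw [h4]
      _ = v * (y * c⁻¹ * y⁻¹) := by group
  have e : c * y * c⁻¹ * y⁻¹ = c * (y * c⁻¹ * y⁻¹) := by group
  rw [e, mul_assoc, h1 v hv, ← mul_assoc, hcV v hv, mul_assoc]

/-- `[V, E^g] ≤ E` -/
theorem comm_VE' {v y : G} (hv : v ∈ V) (hy : y ∈ E' V Q g) : v * y * v⁻¹ * y⁻¹ ∈ E V Q :=
  h.comm_VQ hv (h.E'_le_Q hy)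

/-- `D` is centralised by `E^g` and by `E` and by `W`. -/
theorem D_cent_W {d w : G} (hd : d ∈ D V Q g) (hw : w ∈ W V Q g) : w * d = d * w := by
  obtain ⟨e, he, f, hf, rfl⟩ := h.mem_W.1 hw
  have h1 := h.D_cent hd (mem_sup_left (E_le_V he) : e ∈ X V g)
  have h2 := h.D_cent hd (mem_sup_right (E'_le_V' hf) : f ∈ X V g)
  rw [mul_assoc, h2, ← mul_assoc, h1, mul_assoc]

/-- `V` centralises `E`. -/
theorem comm_VE {v e : G} (hv : v ∈ V) (he : e ∈ E V Q) : v * e = e * v :=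
  comm_of_le_centralizer h.comm hv he.1

/-- `g` conjugates `D` trivially. -/
theorem g_cent_D {d : G} (hd : d ∈ D V Q g) : g * d = d * g := h.D_cent hd h.gX

omit h in
theorem card_E' : Nat.card (E' V Q g) = Nat.card (E V Q) :=
  Nat.card_congr (Subgroup.equivSMul (MulAut.conj g) (V ⊓ Q)).symm.toEquiv

omit h in
/-- `|V : D| = |V : E| |E : D|` -/
theorem relIndex_V : (D V Q g).relIndex V = (D V Q g).relIndex (E V Q) * (E V Q).relIndex V :=
  (relIndex_mul_relIndex _ _ _ inf_le_left inf_le_left).symm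

end Fr

end Cfsg.Agent.Omega.NOne.Frame

end

section


/-!
# NO-1, choice of the conjugate (text #11359 (1))

`V ≤ C` a 2-subgroup not in `O₂(C)`.  There is `g ∈ C` with `X = ⟨V, V^g⟩` not a 2-group, `g ∈ X`, and
`|X|` minimal among all non-2-groups `⟨V, V^y⟩`, `y ∈ C`.
-/

set_option autoImplicit false

namespace Cfsg.Agent.Omega.NOne.Choice

open Subgroup Cfsg Cfsg.Agent.Omega.NoFF.Basic Cfsg.Agent.Omega.NOne.Frame
open Cfsg.Agent.MinSimple.VModule
open Cfsg.Agent.ZN (o2)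
open scoped Pointwise

universe u

variable {G : Type u} [Group G]

theorem isPGroup_conj {p : ℕ} {H : Subgroup G} (h : IsPGroup p H) (g : G) :
    IsPGroup p (MulAut.conj g • H : Subgroup G) := by
  rintro ⟨x, hx⟩
  obtain ⟨y, hy, rfl⟩ := mem_conj'.1 hx
  obtain ⟨k, hk⟩ := h ⟨y, hy⟩
  refine ⟨k, Subtype.ext ?_⟩
  change (g * y * g⁻¹) ^ p ^ k = 1
  have hk' : y ^ p ^ k = 1 := congrArg Subtype.val hk
  rw [conj_pow, hk', mul_one, mul_inv_cancel]

theorem conj_sup (g : G) (A B : Subgroup G) :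
    MulAut.conj g • (A ⊔ B) = MulAut.conj g • A ⊔ MulAut.conj g • B := Subgroup.smul_sup _ _ _

theorem card_conj (g : G) (A : Subgroup G) :
    Nat.card (MulAut.conj g • A : Subgroup G) = Nat.card A :=
  Nat.card_congr (Subgroup.equivSMul (MulAut.conj g) A).symm.toEquiv

/-- Baer–Suzuki inside a subgroup `C` of `G`. -/
theorem le_o2_of_pairs [Finite G] {C V : Subgroup G} (hVC : V ≤ C)
    (h : ∀ g ∈ C, IsPGroup 2 ((V ⊔ MulAut.conj g • V : Subgroup G))) : V ≤ o2 C := by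
  have : Fact (Nat.Prime 2) := ⟨Nat.prime_two⟩
  have hf := C.subtype_injective
  have h1 : IsPGroup 2 (Subgroup.normalClosure ((V.subgroupOf C : Subgroup C) : Set C) :
      Subgroup C) := by
    refine Cfsg.Agent.Involutions.BaerSuzuki.baer_suzuki_subgroup _ fun g => ?_
    have hle : (V.subgroupOf C ⊔ (V.subgroupOf C).map (MulAut.conj g).toMonoidHom).map C.subtype ≤
        V ⊔ MulAut.conj (g : G) • V := by
      rw [Subgroup.map_sup]
      refine sup_le_sup ?_ ?_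
      · rintro _ ⟨x, hx, rfl⟩
        exact hx
      · rintro _ ⟨_, ⟨x, hx, rfl⟩, rfl⟩
        exact conj_mem (g := (g : G)) (H := V) hx
    exact ((h g g.2).to_le hle).of_equiv (Subgroup.equivMapOfInjective _ C.subtype hf).symm
  have h2 : V ≤ (Subgroup.normalClosure ((V.subgroupOf C : Subgroup C) : Set C)).map C.subtype := by
    intro v hv
    exact ⟨⟨v, hVC hv⟩, Subgroup.subset_normalClosure (mem_subgroupOf.2 hv), rfl⟩
  refine h2.trans (le_o2 (map_subtype_le _) (h1.map _)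
    (le_normalizer_map_of_normal Subgroup.normalClosure_normal))

theorem conj_mono {g : G} {A B : Subgroup G} (h : A ≤ B) : MulAut.conj g • A ≤ MulAut.conj g • B :=
  conj_le_iff.2 h

theorem conj_le_of_mem {g : G} {A C : Subgroup G} (h : A ≤ C) (hg : g ∈ C) :
    MulAut.conj g • A ≤ C := by
  intro x hx
  obtain ⟨a, ha, rfl⟩ := mem_conj'.1 hx
  exact mul_mem (mul_mem hg (h ha)) (inv_mem hg)

/-- **Choice of `g`.** -/
theorem exists_g [Finite G] {C V : Subgroup G} (hVC : V ≤ C)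
    (hVo : ¬ V ≤ o2 C) :
    ∃ g ∈ C, g ∈ X V g ∧ ¬ IsPGroup 2 (X V g) ∧
      ∀ y ∈ C, Nat.card (X V y) < Nat.card (X V g) → IsPGroup 2 (X V y) := by
  classical
  -- minimal order
  have hex : ∃ n : ℕ, ∃ g ∈ C, ¬ IsPGroup 2 (X V g) ∧ Nat.card (X V g) = n := by
    by_contra hc
    push Not at hc
    refine hVo (le_o2_of_pairs hVC fun g hg => ?_)
    by_contra h1
    exact hc _ g hg h1 rfl
  obtain ⟨g, hg, hg2, hgn⟩ := Nat.find_spec hex
  have hmin : ∀ y ∈ C, Nat.card (X V y) < Nat.find hex → IsPGroup 2 (X V y) := by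
    intro y hy hlt
    by_contra h1
    exact Nat.find_min hex hlt ⟨y, hy, h1, rfl⟩
  -- one of `g`, `g⁻¹`
  obtain ⟨k, hk, hk2, hkn, hko⟩ : ∃ k ∈ C, ¬ IsPGroup 2 (X V k) ∧
      Nat.card (X V k) = Nat.find hex ∧ ¬ V ≤ o2 (X V k) := by
    by_cases h1 : V ≤ o2 (X V g)
    · have h2 : ¬ MulAut.conj g • V ≤ o2 (X V g) := fun h2 =>
        hg2 ((o2_isPGroup (X V g)).to_le (sup_le h1 h2))
      have hX : MulAut.conj g⁻¹ • X V g = X V g⁻¹ := by
        rw [X, conj_sup, conj_conj, inv_mul_cancel, map_one, one_smul, sup_comm]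
      refine ⟨g⁻¹, inv_mem hg, fun h3 => hg2 ?_, ?_, fun h3 => h2 ?_⟩
      · rw [← hX] at h3
        have h4 := isPGroup_conj h3 g
        rwa [conj_conj, mul_inv_cancel, map_one, one_smul] at h4
      · rw [← hX, card_conj, hgn]
      · have h4 : MulAut.conj g • V ≤ MulAut.conj g • o2 (X V g⁻¹) := conj_mono h3
        refine h4.trans (le_o2 ?_ (isPGroup_conj (o2_isPGroup _) g) ?_)
        · refine (conj_mono (o2_le _)).trans ?_
          rw [← hX, conj_conj, mul_inv_cancel, map_one, one_smul]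
        · intro x hx
          have hx' : g⁻¹ * x * g ∈ X V g⁻¹ := by
            rw [← hX]
            rw [mem_conj]
            have e : g⁻¹⁻¹ * (g⁻¹ * x * g) * g⁻¹ = x := by group
            rwa [e]
          have h5 := le_normalizer_o2 _ hx'
          rw [mem_normalizer_iff] at h5 ⊢
          intro y
          rw [mem_conj, mem_conj, h5]
          have e : g⁻¹ * x * g * (g⁻¹ * y * g) * (g⁻¹ * x * g)⁻¹ = g⁻¹ * (x * y * x⁻¹) * g := by group
          rw [e]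
    · exact ⟨g, hg, hg2, hgn, h1⟩
  -- Baer–Suzuki in `X V k`
  have hXC : X V k ≤ C := sup_le hVC (conj_le_of_mem hVC hk)
  obtain ⟨y, hy, hy2⟩ : ∃ y ∈ X V k, ¬ IsPGroup 2 (X V y) := by
    by_contra hc
    push Not at hc
    exact hko (le_o2_of_pairs le_sup_left hc)
  have hle : X V y ≤ X V k := sup_le le_sup_left (conj_le_of_mem le_sup_left hy)
  have hcard : Nat.card (X V y) = Nat.find hex := by
    refine le_antisymm (hkn ▸ Subgroup.card_le_of_le hle) ?_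
    by_contra hlt
    exact hy2 (hmin y (hXC hy) (not_le.1 hlt))
  have heq : X V y = X V k := Subgroup.eq_of_le_of_card_ge hle (by rw [hcard, hkn])
  refine ⟨y, hXC hy, ?_, hy2, fun z hz hlt => hmin z hz (hcard ▸ hlt)⟩
  rw [heq]
  exact hy

/-- A `p`-group generated by a subgroup `V` and a conjugate `V^g`, `g` in it, is `V`. -/
theorem eq_of_isPGroup {P : Type u} [Group P] [Finite P] {p : ℕ} [Fact p.Prime] (hP : IsPGroup p P)
    {V : Subgroup P} {g : P} (h : V ⊔ MulAut.conj g • V = ⊤) : V = ⊤ := by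
  by_contra hV
  obtain ⟨M, hM, hVM⟩ := IsCoatomic.eq_top_or_exists_le_coatom V |>.resolve_left hV
  have hnil : Group.IsNilpotent P := hP.isNilpotent
  have hMn : M.Normal := by
    have := (Group.isNilpotent_of_finite_tfae (G := P)).out 0 2
    exact (this.1 hnil) M hM
  have h1 : MulAut.conj g • V ≤ M := by
    intro x hx
    obtain ⟨v, hv, rfl⟩ := mem_conj'.1 hx
    exact hMn.conj_mem v (hVM hv) g
  exact hM.1 (top_le_iff.1 (h ▸ sup_le hVM h1))

end Cfsg.Agent.Omega.NOne.Choice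

end

section


/-!
# NO-1, the frame without a bound on `|A|` (text #12527 (T)): the input of (BT)

`V` elementary abelian, `C` of characteristic 2, `Q = O₂(C)` normalises `V ≤ C`, `v ∈ V - Q` arbitrary.
`exists_near`: there is `g ∈ C` such that for `E = V ∩ Q`, `F = E^g`, `D = E ∩ E^g`: `D ≠ E` and
`Near V E D F v`.
-/

set_option autoImplicit false

namespace Cfsg.Agent.Omega.NOne.NearFF

open Subgroup Cfsg Cfsg.Agent.Omega.NoFF.Basic Cfsg.Agent.Omega.NOne.Frame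
open Cfsg.Agent.MinSimple.VModule
open Cfsg.Agent.ZN (o2)
open scoped Pointwise

universe u

variable {G : Type u} [Group G]

/-- The input of the near-FF theorem (BT).  Commutators are `[w, f] = w f w⁻¹ f⁻¹`. -/
structure Near (V E D F : Subgroup G) (v : G) : Prop where
  DE : D ≤ E
  DF : D ≤ F
  EV : E ≤ V
  vV : v ∈ V
  vE : v ∉ E
  Vcomm : V ≤ centralizer (V : Set G)
  Vsq : ∀ w ∈ V, w ^ 2 = 1
  Fcomm : F ≤ centralizer (F : Set G)
  Fsq : ∀ f ∈ F, f ^ 2 = 1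
  comm : ∀ w ∈ V, ∀ f ∈ F, w * f * w⁻¹ * f⁻¹ ∈ E
  ED : ∀ e ∈ E, ∀ f ∈ F, e * f * e⁻¹ * f⁻¹ ∈ D
  inj : ∀ f ∈ F, v * f * v⁻¹ * f⁻¹ ∈ D → f ∈ D
  card : D.relIndex F = D.relIndex E

/-- `[w, f] = w f w⁻¹ f⁻¹` -/
def c (w f : G) : G := w * f * w⁻¹ * f⁻¹

/-- `β_w(f, f') = [w, f, f']` -/
def beta (w f f' : G) : G := c (c w f) f'

theorem c_def (w f : G) : c w f = w * f * w⁻¹ * f⁻¹ := rfl

namespace Near

variable {V E D F : Subgroup G} {v : G} (h : Near V E D F v)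
include h

theorem DV : D ≤ V := h.DE.trans h.EV

theorem Dcent {d f : G} (hd : d ∈ D) (hf : f ∈ F) : d * f = f * d :=
  comm_of_le_centralizer h.Fcomm (h.DF hd) hf

theorem V_comm {x y : G} (hx : x ∈ V) (hy : y ∈ V) : x * y = y * x :=
  comm_of_le_centralizer h.Vcomm hx hy

theorem c_mem {w f : G} (hw : w ∈ V) (hf : f ∈ F) : c w f ∈ E := h.comm w hw f hf

theorem c_memV {w f : G} (hw : w ∈ V) (hf : f ∈ F) : c w f ∈ V := h.EV (h.c_mem hw hf)

theorem c_memD {e f : G} (he : e ∈ E) (hf : f ∈ F) : c e f ∈ D := h.ED e he f hf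

theorem beta_mem {w f f' : G} (hw : w ∈ V) (hf : f ∈ F) (hf' : f' ∈ F) : beta w f f' ∈ D :=
  h.c_memD (h.c_mem hw hf) hf'

theorem c_D {d f : G} (hd : d ∈ D) (hf : f ∈ F) : c d f = 1 := by
  rw [c, h.Dcent hd hf, mul_inv_cancel_right, mul_inv_cancel]

theorem inv_V {w : G} (hw : w ∈ V) : w⁻¹ = w := by
  have := h.Vsq w hw
  rw [pow_two] at this
  exact inv_eq_of_mul_eq_one_left this

theorem inv_F {f : G} (hf : f ∈ F) : f⁻¹ = f := by
  have := h.Fsq f hf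
  rw [pow_two] at this
  exact inv_eq_of_mul_eq_one_left this

theorem F_norm_V : F ≤ normalizer (V : Set G) := by
  refine le_normalizer_of_comm fun f hf w hw => ?_
  have h1 := inv_mem (h.c_memV hw hf)
  have e : (c w f)⁻¹ = f * w * f⁻¹ * w⁻¹ := by rw [c]; group
  rwa [e] at h1

theorem F_norm_E : F ≤ normalizer (E : Set G) := by
  refine le_normalizer_of_comm fun f hf w hw => ?_
  have h1 := inv_mem (h.c_mem (h.EV hw) hf)
  have e : (c w f)⁻¹ = f * w * f⁻¹ * w⁻¹ := by rw [c]; group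
  rwa [e] at h1

/-- `[w w', f] = [w, f] [w', f]` -/
theorem c_mul_left {w w' f : G} (hw : w ∈ V) (hw' : w' ∈ V) (hf : f ∈ F) :
    c (w * w') f = c w f * c w' f := by
  have h1 : w * c w' f = c w' f * w := h.V_comm hw (h.c_memV hw' hf)
  have e : c (w * w') f = w * c w' f * (f * w⁻¹ * f⁻¹) := by rw [c, c]; group
  rw [e, h1]
  have e2 : c w' f * w * (f * w⁻¹ * f⁻¹) = c w' f * c w f := by rw [c, c]; group
  rw [e2]
  exact h.V_comm (h.c_memV hw' hf) (h.c_memV hw hf)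

/-- `[w, f f'] = [w, f] [w, f'] β_w(f', f)` -/
theorem c_mul_right {w f f' : G} (hw : w ∈ V) (hf : f ∈ F) (hf' : f' ∈ F) :
    c w (f * f') = c w f * c w f' * beta w f' f := by
  have e : c w (f * f') = c w f * (f * c w f' * f⁻¹) := by rw [c, c, c]; group
  have e1 : f * c w f' * f⁻¹ = (beta w f' f)⁻¹ * c w f' := by
    rw [beta, c_def (c w f')]; group
  have h1 : (beta w f' f)⁻¹ = beta w f' f := h.inv_V (h.DV (h.beta_mem hw hf' hf))
  rw [e, e1, h1, h.V_comm (h.DV (h.beta_mem hw hf' hf)) (h.c_memV hw hf'), mul_assoc]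

theorem beta_mul_left {w f f' f'' : G} (hw : w ∈ V) (hf : f ∈ F) (hf' : f' ∈ F) (hf'' : f'' ∈ F) :
    beta w (f * f') f'' = beta w f f'' * beta w f' f'' := by
  have hb := h.beta_mem hw hf' hf
  rw [beta, h.c_mul_right hw hf hf',
    h.c_mul_left (mul_mem (h.c_memV hw hf) (h.c_memV hw hf')) (h.DV hb) hf'',
    h.c_D hb hf'', mul_one, h.c_mul_left (h.c_memV hw hf) (h.c_memV hw hf') hf'']
  rfl

/-- `[e, f f'] = [e, f] [e, f']` for `e ∈ E` -/
theorem c_mul_right' {e f f' : G} (he : e ∈ E) (hf : f ∈ F) (hf' : f' ∈ F) :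
    c e (f * f') = c e f * c e f' := by
  rw [h.c_mul_right (h.EV he) hf hf']
  have : beta e f' f = 1 := h.c_D (h.c_memD he hf') hf
  rw [this, mul_one]

theorem beta_mul_right {w f f' f'' : G} (hw : w ∈ V) (hf : f ∈ F) (hf' : f' ∈ F) (hf'' : f'' ∈ F) :
    beta w f (f' * f'') = beta w f f' * beta w f f'' :=
  h.c_mul_right' (h.c_mem hw hf) hf' hf''

theorem beta_mul {w w' f f' : G} (hw : w ∈ V) (hw' : w' ∈ V) (hf : f ∈ F) (hf' : f' ∈ F) :
    beta (w * w') f f' = beta w f f' * beta w' f f' := by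
  rw [beta, h.c_mul_left hw hw' hf, h.c_mul_left (h.c_memV hw hf) (h.c_memV hw' hf) hf']
  rfl

/-- `β_w` is alternating. -/
theorem beta_self {w f : G} (hw : w ∈ V) (hf : f ∈ F) : beta w f f = 1 := by
  have h1 := h.c_memV hw hf
  have h2 := h.inv_V h1
  have hff : f * f = 1 := by rw [← pow_two]; exact h.Fsq f hf
  have hfw : f * w * f⁻¹ ∈ V := norm_mem (h.F_norm_V hf) hw
  have hw1 := h.inv_V hw
  have hf1 := h.inv_F hf
  have hfw1 := h.V_comm hw hfw
  have e : c w f = w * (f * w * f⁻¹) := by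
    rw [c]
    conv_lhs => rw [hw1]
    group
  rw [beta, c_def, h2, e]
  have e2 : w * (f * w * f⁻¹) * f * (w * (f * w * f⁻¹)) * f⁻¹ =
      w * (f * w * f⁻¹) * ((f * w * f⁻¹) * (f * f * w * f⁻¹ * f⁻¹)) := by group
  have e3 : f * f * w * f⁻¹ * f⁻¹ = w := by rw [hf1, hff, one_mul, mul_assoc, hff, mul_one]
  have e4 : (f * w * f⁻¹) * (f * w * f⁻¹) = 1 := by
    have := h.Vsq _ hfw
    rwa [pow_two] at this
  have e5 : w * w = 1 := by
    have := h.Vsq _ hw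
    rwa [pow_two] at this
  rw [e2, e3]
  calc w * (f * w * f⁻¹) * ((f * w * f⁻¹) * w) = w * ((f * w * f⁻¹) * (f * w * f⁻¹)) * w := by group
    _ = 1 := by rw [e4, mul_one, e5]

/-- `β_w` is symmetric. -/
theorem beta_comm {w f f' : G} (hw : w ∈ V) (hf : f ∈ F) (hf' : f' ∈ F) :
    beta w f f' = beta w f' f := by
  have h1 := h.beta_self hw (mul_mem hf hf')
  rw [h.beta_mul_left hw hf hf' (mul_mem hf hf'), h.beta_mul_right hw hf hf hf',
    h.beta_mul_right hw hf' hf hf', h.beta_self hw hf, h.beta_self hw hf', one_mul, mul_one] at h1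
  have h2 := h.inv_V (h.DV (h.beta_mem hw hf' hf))
  rw [← h2]
  exact eq_inv_of_mul_eq_one_left h1

/-- The kernel of `F` on `V` is `D`. -/
theorem F_inf_cent : F ⊓ centralizer (V : Set G) = D := by
  apply le_antisymm
  · intro f hf
    obtain ⟨hf1, hf2⟩ := mem_inf.1 hf
    refine h.inj f hf1 ?_
    rw [mem_centralizer_iff.1 hf2 v h.vV, mul_inv_cancel_right, mul_inv_cancel]
    exact one_mem _
  · intro d hd
    exact mem_inf.2 ⟨h.DF hd, h.Vcomm (h.DV hd)⟩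

/-- `F` acts semiregularly on `(vE)/D`. -/
theorem reg {e f : G} (he : e ∈ E) (hf : f ∈ F) (hc : (v * e) * f = f * (v * e)) : f ∈ D := by
  refine h.inj f hf ?_
  have h1 : c (v * e) f = 1 := by rw [c, hc, mul_inv_cancel_right, mul_inv_cancel]
  rw [h.c_mul_left h.vV (h.EV he) hf] at h1
  have h2 : c v f = (c e f)⁻¹ := eq_inv_of_mul_eq_one_left h1
  change c v f ∈ D
  rw [h2]
  exact inv_mem (h.c_memD he hf)

/-- The datum depends only on the coset `vE`. -/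
theorem mul_right {e : G} (he : e ∈ E) : Near V E D F (v * e) where
  DE := h.DE
  DF := h.DF
  EV := h.EV
  vV := mul_mem h.vV (h.EV he)
  vE := fun h1 => h.vE ((mul_mem_cancel_right he).1 h1)
  Vcomm := h.Vcomm
  Vsq := h.Vsq
  Fcomm := h.Fcomm
  Fsq := h.Fsq
  comm := h.comm
  ED := h.ED
  card := h.card
  inj := fun f hf h1 => by
    refine h.inj f hf ?_
    change c (v * e) f ∈ D at h1
    rw [h.c_mul_left h.vV (h.EV he) hf] at h1
    exact (mul_mem_cancel_right (h.c_memD he hf)).1 h1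

/-- `[v, F] D = E`: for every `e ∈ E` there is `f ∈ F` with `[v, f] e⁻¹ ∈ D`. -/
theorem surj [Finite G] {e : G} (he : e ∈ E) : ∃ f ∈ F, c v f * e⁻¹ ∈ D := by
  classical
  let DF' : Subgroup F := D.subgroupOf F
  let DE' : Subgroup E := D.subgroupOf E
  let φ : F → E := fun f => ⟨c v f, h.c_mem h.vV f.2⟩
  have key : ∀ a b : F, (φ a)⁻¹ * φ b ∈ DE' ↔ c v ((a : G)⁻¹ * b) ∈ D := by
    intro a b
    have ha : (a : G)⁻¹ = a := h.inv_F a.2
    rw [ha, h.c_mul_right h.vV a.2 b.2]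
    rw [mul_mem_cancel_right (h.beta_mem h.vV b.2 a.2)]
    have h1 : (c v a)⁻¹ = c v a := h.inv_V (h.c_memV h.vV a.2)
    change (c v a)⁻¹ * c v b ∈ D ↔ _
    rw [h1]
  let ψ : F ⧸ DF' → E ⧸ DE' := Quotient.map' φ (by
    intro a b hab
    rw [QuotientGroup.leftRel_apply] at hab ⊢
    rw [key]
    have h1 : ((a : G)⁻¹ * b) ∈ D := hab
    have h2 := h.c_D h1 (one_mem F)
    rw [c_def, h.V_comm h.vV (h.DV h1), mul_inv_cancel_right, mul_inv_cancel]
    exact one_mem _)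
  have hinj : Function.Injective ψ := by
    intro x y
    refine Quotient.inductionOn₂' x y fun a b hab => ?_
    have h1 : Quotient.mk'' (φ a) = (Quotient.mk'' (φ b) : E ⧸ DE') := hab
    rw [Quotient.eq'', QuotientGroup.leftRel_apply, key] at h1
    rw [Quotient.eq'', QuotientGroup.leftRel_apply]
    exact h.inj _ (mul_mem (inv_mem a.2) b.2) h1
  have hsurj : Function.Surjective ψ := by
    have hcard : Nat.card (E ⧸ DE') ≤ Nat.card (F ⧸ DF') := by
      have : DF'.index = DE'.index := h.card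
      rw [← Subgroup.index, ← Subgroup.index, this]
    exact (hinj.bijective_of_nat_card_le hcard).2
  obtain ⟨x, hx⟩ := hsurj (Quotient.mk'' ⟨e, he⟩)
  revert hx
  refine Quotient.inductionOn' x fun a ha => ⟨a, a.2, ?_⟩
  have h1 : Quotient.mk'' (φ a) = (Quotient.mk'' ⟨e, he⟩ : E ⧸ DE') := ha
  rw [Quotient.eq'', QuotientGroup.leftRel_apply] at h1
  have h2 : (c v a)⁻¹ * e ∈ D := h1
  have h3 : (c v a)⁻¹ = c v a := h.inv_V (h.c_memV h.vV a.2)
  rw [h3] at h2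
  rwa [h.inv_V (h.EV he)]

end Near

/-! ### From the frame -/

section Frame

variable {V Q : Subgroup G} {v g : G}

/-- `V₁ = E⟨v⟩`, `E = V ∩ Q` -/
abbrev V1 (V Q : Subgroup G) (v : G) : Subgroup G := (V ⊓ Q) ⊔ zpowers v

theorem V1_le (hv : v ∈ V) : V1 V Q v ≤ V := sup_le inf_le_left (zpowers_le.2 hv)

theorem mem_V1 (hVc : V ≤ centralizer (V : Set G)) (hv : v ∈ V) (hv2 : v ^ 2 = 1) {x : G}
    (hx : x ∈ V1 V Q v) : ∃ e ∈ V ⊓ Q, x = e ∨ x = e * v := by
  have hn : zpowers v ≤ normalizer ((V ⊓ Q : Subgroup G) : Set G) := by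
    refine le_normalizer_of_comm fun a ha b hb => ?_
    have h1 : a * b = b * a := comm_of_le_centralizer hVc (zpowers_le.2 hv ha) hb.1
    rw [h1, mul_inv_cancel_right, mul_inv_cancel]
    exact one_mem _
  have h3 : x ∈ (((V ⊓ Q) ⊔ zpowers v : Subgroup G) : Set G) := hx
  rw [Subgroup.coe_mul_of_right_le_normalizer_left _ _ hn] at h3
  obtain ⟨e, he, f, hf, rfl⟩ := h3
  refine ⟨e, he, ?_⟩
  obtain ⟨k, rfl⟩ := mem_zpowers_iff.1 hf
  rcases Int.even_or_odd' k with ⟨m, rfl | rfl⟩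
  · left
    have : v ^ (2 * m) = 1 := by
      rw [zpow_mul]
      have : v ^ (2 : ℤ) = 1 := by exact_mod_cast hv2
      rw [this, one_zpow]
    change e * v ^ (2 * m) = e
    rw [this, mul_one]
  · right
    have : v ^ (2 * m + 1) = v := by
      rw [zpow_add, zpow_mul, zpow_one]
      have : v ^ (2 : ℤ) = 1 := by exact_mod_cast hv2
      rw [this, one_zpow, one_mul]
    change e * v ^ (2 * m + 1) = e * v
    rw [this]

theorem V1_inf (hVc : V ≤ centralizer (V : Set G)) (hv : v ∈ V) (hv2 : v ^ 2 = 1) (hvQ : v ∉ Q) :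
    V1 V Q v ⊓ Q = V ⊓ Q := by
  apply le_antisymm
  · intro x hx
    obtain ⟨hx1, hx2⟩ := mem_inf.1 hx
    obtain ⟨e, he, rfl | rfl⟩ := mem_V1 hVc hv hv2 hx1
    · exact he
    · exact absurd ((mul_mem_cancel_left (mem_inf.1 he).2).1 hx2) hvQ
  · exact le_inf le_sup_left inf_le_right

/-- The frame for `V₁ = E⟨v⟩`. -/
theorem fr_V1 (hVc : V ≤ centralizer (V : Set G)) (hQV : Q ≤ normalizer (V : Set G))
    (hVQ : V ≤ normalizer (Q : Set G)) (hv : v ∈ V) (gQ : MulAut.conj g • Q = Q)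
    (gX : g ∈ X (V1 V Q v) g) : Fr (V1 V Q v) Q g where
  comm := comm_mono hVc (V1_le hv) (V1_le hv)
  QV := by
    have : V1 V Q v ≤ normalizer (Q : Set G) := (V1_le hv).trans hVQ
    refine le_normalizer_of_comm fun a ha b hb => mem_sup_left ?_
    have h1 := inv_mem (comm_mem_inf hVQ hQV (V1_le hv hb) ha)
    have e : (b * a * b⁻¹ * a⁻¹)⁻¹ = a * b * a⁻¹ * b⁻¹ := by group
    rwa [e] at h1
  VQ := (V1_le hv).trans hVQ
  gQ := gQ
  gX := gX

/-- `Near` from the frame. -/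
theorem near_of_fr [Finite G] (hVc : V ≤ centralizer (V : Set G)) (hV2 : ∀ w ∈ V, w ^ 2 = 1)
    (hQV : Q ≤ normalizer (V : Set G)) (hVQ : V ≤ normalizer (Q : Set G)) (hv : v ∈ V)
    (hvQ : v ∉ Q) (h : Fr (V1 V Q v) Q g) :
    Near V (V ⊓ Q) ((V ⊓ Q) ⊓ MulAut.conj g • (V ⊓ Q)) (MulAut.conj g • (V ⊓ Q)) v := by
  have hE : E (V1 V Q v) Q = V ⊓ Q := V1_inf hVc hv (hV2 v hv) hvQ
  have hE' : E' (V1 V Q v) Q g = MulAut.conj g • (V ⊓ Q) := by rw [E', V1_inf hVc hv (hV2 v hv) hvQ]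
  have hD : D (V1 V Q v) Q g = (V ⊓ Q) ⊓ MulAut.conj g • (V ⊓ Q) := by rw [D, hE, hE']
  rw [← hD, ← hE']
  have hc : ∀ {x : G}, x ∈ E' (V1 V Q v) Q g → x ^ 2 = 1 := by
    intro x hx
    rw [hE'] at hx
    obtain ⟨y, hy, rfl⟩ := mem_conj'.1 hx
    rw [conj_pow, hV2 y hy.1, mul_one, mul_inv_cancel]
  refine ⟨?_, inf_le_right, inf_le_left, hv, fun h1 => hvQ h1.2, hVc, hV2, ?_, fun f hf => hc hf,
    ?_, ?_, ?_, ?_⟩
  · rw [D, hE]; exact inf_le_left
  · exact comm_mono h.comm' Fr.E'_le_V' Fr.E'_le_V'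
  · intro w hw f hf
    exact comm_mem_inf hVQ hQV hw (h.E'_le_Q hf)
  · intro e he f hf
    rw [← hE] at he
    exact h.comm_EE' he hf
  · intro f hf hfD
    have hf2 : f ^ 2 = 1 := hc hf
    have hXD : X (V1 V Q v) g ≤ normalizer ((D (V1 V Q v) Q g : Subgroup G) : Set G) := by
      refine le_normalizer_of_comm fun x hx d hd => ?_
      rw [h.D_cent hd hx, mul_inv_cancel_right, mul_inv_cancel]
      exact one_mem _
    -- elements of `⟨f⟩`
    have hz : ∀ x : G, x * f * x⁻¹ * f⁻¹ ∈ D (V1 V Q v) Q g → x ∈ X (V1 V Q v) g →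
        ∀ w ∈ zpowers f, x * w * x⁻¹ * w⁻¹ ∈ D (V1 V Q v) Q g := by
      intro x hx _ w hw
      obtain ⟨k, rfl⟩ := mem_zpowers_iff.1 hw
      have hf2' : f ^ (2 : ℤ) = 1 := by exact_mod_cast hf2
      rcases Int.even_or_odd' k with ⟨m, rfl | rfl⟩
      · rw [zpow_mul, hf2', one_zpow, mul_one, mul_inv_cancel, one_mul, inv_one]
        exact one_mem _
      · rw [zpow_add, zpow_mul, zpow_one, hf2', one_zpow, one_mul]
        exact hx
    have h1 : X (V1 V Q v) g ≤ stab (X (V1 V Q v) g) (zpowers f) (D (V1 V Q v) Q g) hXD := by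
      refine sup_le (sup_le ?_ (zpowers_le.2 ?_)) ?_
      · intro e he
        have he1 : e ∈ X (V1 V Q v) g := mem_sup_left (mem_sup_left he)
        exact ⟨he1, hz e (by rw [← hE] at he; exact h.comm_EE' he hf) he1⟩
      · have hv1 : v ∈ X (V1 V Q v) g := mem_sup_left (mem_sup_right (mem_zpowers v))
        exact ⟨hv1, hz v hfD hv1⟩
      · intro x hx
        have hx1 : x ∈ X (V1 V Q v) g := mem_sup_right hx
        refine ⟨hx1, hz x ?_ hx1⟩
        have h2 : x * f = f * x := comm_of_le_centralizer h.comm' hx (Fr.E'_le_V' hf)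
        rw [h2, mul_inv_cancel_right, mul_inv_cancel]
        exact one_mem _
    have h2 := (h1 (inv_mem h.gX)).2 f (mem_zpowers f)
    rw [inv_inv] at h2
    have h3 : g⁻¹ * f * g ∈ E (V1 V Q v) Q := mem_conj.1 hf
    have h4 : f⁻¹ ∈ E (V1 V Q v) Q :=
      (mul_mem_cancel_left h3).1 (inf_le_left (a := E (V1 V Q v) Q) h2)
    exact mem_inf.2 ⟨inv_mem_iff.1 h4, hf⟩
  · have h1 := relIndex_mul_relIndex ⊥ (D (V1 V Q v) Q g) (E' (V1 V Q v) Q g) bot_le inf_le_right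
    have h2 := relIndex_mul_relIndex ⊥ (D (V1 V Q v) Q g) (E (V1 V Q v) Q) bot_le inf_le_left
    simp only [relIndex_bot_left] at h1 h2
    rw [← hE]
    rw [Fr.card_E', ← h2] at h1
    exact Nat.eq_of_mul_eq_mul_left Nat.card_pos h1

/-- The frame for `V₁`, all facts together. -/
structure Fin (V Q : Subgroup G) (v g : G) : Prop where
  fr : Fr (V1 V Q v) Q g
  near : Near V (V ⊓ Q) ((V ⊓ Q) ⊓ MulAut.conj g • (V ⊓ Q)) (MulAut.conj g • (V ⊓ Q)) v
  near' : Near (MulAut.conj g • V) (MulAut.conj g • (V ⊓ Q)) ((V ⊓ Q) ⊓ MulAut.conj g • (V ⊓ Q))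
    (V ⊓ Q) (g * v * g⁻¹)
  ne : (V ⊓ Q) ⊓ MulAut.conj g • (V ⊓ Q) ≠ V ⊓ Q
  cent : ∀ x ∈ V ⊔ MulAut.conj g • V, ∀ d ∈ (V ⊓ Q) ⊓ MulAut.conj g • (V ⊓ Q), x * d = d * x

/-- The image of a `Near` datum under `x ↦ g x g⁻¹`. -/
theorem Near.conj {V E D F : Subgroup G} {v : G} (h : Near V E D F v) (g : G) :
    Near (MulAut.conj g • V) (MulAut.conj g • E) (MulAut.conj g • D) (MulAut.conj g • F)
      (g * v * g⁻¹) where
  DE := conj_le_iff.2 h.DE
  DF := conj_le_iff.2 h.DF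
  EV := conj_le_iff.2 h.EV
  vV := Frame.conj_mem h.vV
  vE := fun h1 => h.vE (by
    rw [mem_conj] at h1
    have e : g⁻¹ * (g * v * g⁻¹) * g = v := by group
    rwa [e] at h1)
  Vcomm := conj_le_centralizer h.Vcomm
  Vsq := fun w hw => by
    obtain ⟨x, hx, rfl⟩ := mem_conj'.1 hw
    rw [conj_pow, h.Vsq x hx, mul_one, mul_inv_cancel]
  Fcomm := conj_le_centralizer h.Fcomm
  Fsq := fun w hw => by
    obtain ⟨x, hx, rfl⟩ := mem_conj'.1 hw
    rw [conj_pow, h.Fsq x hx, mul_one, mul_inv_cancel]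
  comm := fun w hw f hf => by
    obtain ⟨x, hx, rfl⟩ := mem_conj'.1 hw
    obtain ⟨y, hy, rfl⟩ := mem_conj'.1 hf
    have e : g * x * g⁻¹ * (g * y * g⁻¹) * (g * x * g⁻¹)⁻¹ * (g * y * g⁻¹)⁻¹ =
        g * (x * y * x⁻¹ * y⁻¹) * g⁻¹ := by group
    rw [e]
    exact Frame.conj_mem (h.comm x hx y hy)
  ED := fun w hw f hf => by
    obtain ⟨x, hx, rfl⟩ := mem_conj'.1 hw
    obtain ⟨y, hy, rfl⟩ := mem_conj'.1 hf
    have e : g * x * g⁻¹ * (g * y * g⁻¹) * (g * x * g⁻¹)⁻¹ * (g * y * g⁻¹)⁻¹ =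
        g * (x * y * x⁻¹ * y⁻¹) * g⁻¹ := by group
    rw [e]
    exact Frame.conj_mem (h.ED x hx y hy)
  inj := fun f hf h1 => by
    obtain ⟨y, hy, rfl⟩ := mem_conj'.1 hf
    have e : g * v * g⁻¹ * (g * y * g⁻¹) * (g * v * g⁻¹)⁻¹ * (g * y * g⁻¹)⁻¹ =
        g * (v * y * v⁻¹ * y⁻¹) * g⁻¹ := by group
    rw [e, mem_conj] at h1
    have e2 : g⁻¹ * (g * (v * y * v⁻¹ * y⁻¹) * g⁻¹) * g = v * y * v⁻¹ * y⁻¹ := by group
    rw [e2] at h1
    exact Frame.conj_mem (h.inj y hy h1)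
  card := by
    have h1 : ∀ A : Subgroup G, MulAut.conj g • A = A.map (MulAut.conj g).toMonoidHom := fun A => rfl
    rw [h1, h1, h1, relIndex_map_map_of_injective _ _ (MulAut.conj g).injective,
      relIndex_map_map_of_injective _ _ (MulAut.conj g).injective]
    exact h.card

theorem conj_inv_conj (g : G) (A : Subgroup G) : MulAut.conj g⁻¹ • (MulAut.conj g • A) = A := by
  rw [conj_conj, inv_mul_cancel, map_one, one_smul]

theorem conj_V1 (gQ : MulAut.conj g • Q = Q) :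
    V1 (MulAut.conj g • V) Q (g * v * g⁻¹) = MulAut.conj g • V1 V Q v := by
  have h1 : MulAut.conj g • (V ⊓ Q) = MulAut.conj g • V ⊓ Q := by rw [Subgroup.smul_inf, gQ]
  have h2 : MulAut.conj g • zpowers v = zpowers (g * v * g⁻¹) := by
    change (zpowers v).map (MulAut.conj g).toMonoidHom = _
    rw [MonoidHom.map_zpowers]
    rfl
  rw [V1, V1, Choice.conj_sup, h1, h2]

theorem fr_symm (h : Fr (V1 V Q v) Q g) :
    Fr (V1 (MulAut.conj g • V) Q (g * v * g⁻¹)) Q g⁻¹ := by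
  rw [conj_V1 h.gQ]
  refine ⟨h.comm', h.QV', h.V'Q, ?_, ?_⟩
  · conv_lhs => rw [← h.gQ]
    exact conj_inv_conj g Q
  · rw [conj_inv_conj, sup_comm]
    exact inv_mem h.gX

theorem near'_of_fr [Finite G] (hVc : V ≤ centralizer (V : Set G)) (hV2 : ∀ w ∈ V, w ^ 2 = 1)
    (hQV : Q ≤ normalizer (V : Set G)) (hVQ : V ≤ normalizer (Q : Set G)) (hv : v ∈ V)
    (hvQ : v ∉ Q) (h : Fr (V1 V Q v) Q g) :
    Near (MulAut.conj g • V) (MulAut.conj g • (V ⊓ Q)) ((V ⊓ Q) ⊓ MulAut.conj g • (V ⊓ Q))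
      (V ⊓ Q) (g * v * g⁻¹) := by
  have h2 := fr_symm h
  have gQ' : MulAut.conj g⁻¹ • Q = Q := h2.gQ
  have hgn := h.g_mem_norm
  have hQV' : Q ≤ normalizer ((MulAut.conj g • V : Subgroup G) : Set G) := by
    intro q hq
    have hq' : g⁻¹ * q * g ∈ Q := norm_mem' hgn hq
    have h1 := hQV hq'
    rw [mem_normalizer_iff] at h1 ⊢
    intro x
    rw [mem_conj, mem_conj, h1]
    have e : g⁻¹ * q * g * (g⁻¹ * x * g) * (g⁻¹ * q * g)⁻¹ = g⁻¹ * (q * x * q⁻¹) * g := by group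
    rw [e]
  have hVQ' : MulAut.conj g • V ≤ normalizer (Q : Set G) := by
    intro x hx
    obtain ⟨v, hv, rfl⟩ := mem_conj'.1 hx
    exact mul_mem (mul_mem hgn (hVQ hv)) (inv_mem hgn)
  have hV2' : ∀ w ∈ MulAut.conj g • V, w ^ 2 = 1 := fun w hw => by
    obtain ⟨x, hx, rfl⟩ := mem_conj'.1 hw
    rw [conj_pow, hV2 x hx, mul_one, mul_inv_cancel]
  have hvQ' : g * v * g⁻¹ ∉ Q := fun h1 => hvQ (by
    have := norm_mem' hgn h1
    have e : g⁻¹ * (g * v * g⁻¹) * g = v := by group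
    rwa [e] at this)
  have h3 := near_of_fr (conj_le_centralizer hVc) hV2' hQV' hVQ' (Frame.conj_mem hv) hvQ' h2
  have e1 : MulAut.conj g • V ⊓ Q = MulAut.conj g • (V ⊓ Q) := by rw [Subgroup.smul_inf, h.gQ]
  rw [e1, conj_inv_conj] at h3
  rw [inf_comm (V ⊓ Q)]
  exact h3

theorem cent_of_fr (hVc : V ≤ centralizer (V : Set G)) :
    ∀ x ∈ V ⊔ MulAut.conj g • V, ∀ d ∈ (V ⊓ Q) ⊓ MulAut.conj g • (V ⊓ Q), x * d = d * x := by
  intro x hx d hd
  obtain ⟨hd1, hd2⟩ := mem_inf.1 hd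
  have h1 : V ⊔ MulAut.conj g • V ≤ centralizer {d} := by
    refine sup_le (fun y hy => ?_) (fun y hy => ?_)
    · rw [mem_centralizer_singleton_iff]
      exact comm_of_le_centralizer hVc hy (mem_inf.1 hd1).1
    · rw [mem_centralizer_singleton_iff]
      exact comm_of_le_centralizer (conj_le_centralizer hVc) hy (conj_le_iff.2 inf_le_left hd2)
  exact mem_centralizer_singleton_iff.1 (h1 hx)

theorem ne_of_fr [Finite G] {C : Subgroup G} (hVc : V ≤ centralizer (V : Set G))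
    (hV2 : ∀ w ∈ V, w ^ 2 = 1) (hv : v ∈ V) (hvQ : v ∉ Q) (hQ2 : IsPGroup 2 Q)
    (hC : C ⊓ centralizer (Q : Set G) ≤ Q) (hVC : V ≤ C) (hg : g ∈ C)
    (h : Fr (V1 V Q v) Q g) (hX : ¬ IsPGroup 2 (X (V1 V Q v) g)) :
    (V ⊓ Q) ⊓ MulAut.conj g • (V ⊓ Q) ≠ V ⊓ Q := by
  intro heq
  apply hX
  have hE : E (V1 V Q v) Q = V ⊓ Q := V1_inf hVc hv (hV2 v hv) hvQ
  have hE' : E' (V1 V Q v) Q g = MulAut.conj g • (V ⊓ Q) := by rw [E', V1_inf hVc hv (hV2 v hv) hvQ]
  have hD : D (V1 V Q v) Q g = V ⊓ Q := by rw [D, hE, hE', heq]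
  have hE'E : MulAut.conj g • (V ⊓ Q) = V ⊓ Q := by
    have h1 : V ⊓ Q ≤ MulAut.conj g • (V ⊓ Q) := by
      intro x hx
      rw [← heq] at hx
      exact (mem_inf.1 hx).2
    exact (Subgroup.eq_of_le_of_card_ge h1 (by rw [Choice.card_conj])).symm
  have hW : W (V1 V Q v) Q g = D (V1 V Q v) Q g := by rw [W, hE, hE', hE'E, hD, sup_idem]
  have hXC : X (V1 V Q v) g ≤ C :=
    sup_le ((V1_le hv).trans hVC) (Choice.conj_le_of_mem ((V1_le hv).trans hVC) hg)
  rintro ⟨x, hx⟩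
  obtain ⟨k, hk⟩ := h.exists_pow_eq_one hQ2 hC hXC hx (fun w hw => by
    have hw' : w ∈ D (V1 V Q v) Q g := hW ▸ hw
    rw [h.D_cent hw' hx, mul_inv_cancel_right, mul_inv_cancel]
    exact one_mem _)
  exact ⟨k, Subtype.ext hk⟩

/-- **The frame without a bound on `|A|`.**  `C` of characteristic 2, `V ≤ C` elementary abelian,
normalised by `Q = O₂(C)`, `v ∈ V - Q`. -/
theorem exists_near [Finite G] {C : Subgroup G} (hC : C ⊓ centralizer (o2 C : Set G) ≤ o2 C)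
    (hVC : V ≤ C) (hVc : V ≤ centralizer (V : Set G)) (hV2 : ∀ w ∈ V, w ^ 2 = 1)
    (hQV : o2 C ≤ normalizer (V : Set G)) (hv : v ∈ V) (hvQ : v ∉ o2 C) :
    ∃ g ∈ C, Fin V (o2 C) v g ∧ ¬ IsPGroup 2 (X (V1 V (o2 C) v) g) ∧
      ∀ y ∈ C, Nat.card (X (V1 V (o2 C) v) y) < Nat.card (X (V1 V (o2 C) v) g) →
        IsPGroup 2 (X (V1 V (o2 C) v) y) := by
  have hV1C : V1 V (o2 C) v ≤ C := (V1_le hv).trans hVC
  have hV1o : ¬ V1 V (o2 C) v ≤ o2 C := fun h1 => hvQ (h1 (mem_sup_right (mem_zpowers v)))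
  obtain ⟨g, hg, hgX, hX2, hmin⟩ := Choice.exists_g hV1C hV1o
  have hVQ : V ≤ normalizer (o2 C : Set G) := hVC.trans (le_normalizer_o2 C)
  have gQ : MulAut.conj g • o2 C = o2 C := by
    have := le_normalizer_o2 C hg
    ext x
    rw [mem_conj, mem_normalizer_iff.1 this]
    have e : g * (g⁻¹ * x * g) * g⁻¹ = x := by group
    rw [e]
  have hfr := fr_V1 hVc hQV hVQ hv gQ hgX
  exact ⟨g, hg, ⟨hfr, near_of_fr hVc hV2 hQV hVQ hv hvQ hfr, near'_of_fr hVc hV2 hQV hVQ hv hvQ hfr,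
    ne_of_fr hVc hV2 hv hvQ (o2_isPGroup C) hC hVC hg hfr hX2, cent_of_fr hVc⟩, hX2, hmin⟩

/-- Every subgroup of `V ∩ Q` centralised by `g` lies in `D`. -/
theorem le_D {Z : Subgroup G} (hZ : Z ≤ V ⊓ Q) (hg : ∀ z ∈ Z, g * z = z * g) :
    Z ≤ (V ⊓ Q) ⊓ MulAut.conj g • (V ⊓ Q) := by
  refine le_inf hZ fun z hz => mem_conj.2 ?_
  have e : g⁻¹ * z * g = z := by rw [mul_assoc, ← hg z hz, inv_mul_cancel_left]
  rw [e]
  exact hZ hz

end Frame

/-! ### The symbols: the trace map -/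

namespace Near

variable {V E D F : Subgroup G} {v : G} (h : Near V E D F v)
include h

theorem c_V_D {w d : G} (hw : w ∈ V) (hd : d ∈ D) : c w d = 1 := by
  rw [c, h.V_comm hw (h.DV hd), mul_inv_cancel_right, mul_inv_cancel]

theorem beta_D_right {w f d : G} (hw : w ∈ V) (hf : f ∈ F) (hd : d ∈ D) : beta w f d = 1 :=
  h.c_V_D (h.c_memV hw hf) hd

theorem beta_D_left {w d f : G} (hw : w ∈ V) (hd : d ∈ D) : beta w d f = 1 := by
  rw [beta, h.c_V_D hw hd, c, one_mul, inv_one, mul_one, mul_inv_cancel]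

theorem beta_inv {w f f' : G} (hw : w ∈ V) (hf : f ∈ F) (hf' : f' ∈ F) :
    (beta w f f')⁻¹ = beta w f f' := h.inv_V (h.DV (h.beta_mem hw hf hf'))

end Near

/-- Both faces of the frame. -/
structure Pair (V V' E F D : Subgroup G) (v v' : G) : Prop where
  one : Near V E D F v
  two : Near V' F D E v'

theorem Fin.pair {V Q : Subgroup G} {v g : G} (h : Fin V Q v g) :
    Pair V (MulAut.conj g • V) (V ⊓ Q) (MulAut.conj g • (V ⊓ Q))
      ((V ⊓ Q) ⊓ MulAut.conj g • (V ⊓ Q)) v (g * v * g⁻¹) := ⟨h.near, h.near'⟩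

/-- `τ f = [v', [v, f]]` -/
def tau (v v' f : G) : G := c v' (c v f)

theorem c_inv (x y : G) : (c x y)⁻¹ = c y x := by
  rw [c, c]; group

namespace Pair

variable {V V' E F D : Subgroup G} {v v' : G} (h : Pair V V' E F D v v')
include h

theorem symm : Pair V' V F E D v' v := ⟨h.two, h.one⟩

theorem tau_mem {f : G} (hf : f ∈ F) : tau v v' f ∈ F :=
  h.two.c_mem h.two.vV (h.one.c_mem h.one.vV hf)

theorem tau_inj {f : G} (hf : f ∈ F) (h1 : tau v v' f ∈ D) : f ∈ D :=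
  h.one.inj f hf (h.two.inj _ (h.one.c_mem h.one.vV hf) h1)

/-- `β_v(f, f') = [[v, f], f']` and `β_{v'}(e, e') = [[v', e], e']` are related. -/
theorem beta_tau_aux {e f : G} (he : e ∈ E) (hf : f ∈ F) :
    beta v f (c v' e) = beta v' e (c v f) := by
  have h1 : beta v' e (c v f) = (beta v f (c v' e))⁻¹ := by
    rw [beta, beta, c_inv]
  rw [h1, h.one.beta_inv h.one.vV hf (h.two.c_mem h.two.vV he)]

/-- `τ` is self-adjoint for `β_v`. -/
theorem beta_tau {f f' : G} (hf : f ∈ F) (hf' : f' ∈ F) :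
    beta v (tau v v' f) f' = beta v f (tau v v' f') := by
  have he := h.one.c_mem h.one.vV hf
  have he' := h.one.c_mem h.one.vV hf'
  rw [h.one.beta_comm h.one.vV (h.tau_mem hf) hf', tau, tau, h.beta_tau_aux he hf',
    h.beta_tau_aux he' hf, h.two.beta_comm h.two.vV he he']

/-- `β_v(f, τ f) = 1` -/
theorem beta_self_tau {f : G} (hf : f ∈ F) : beta v f (tau v v' f) = 1 := by
  rw [tau, h.beta_tau_aux (h.one.c_mem h.one.vV hf) hf]
  exact h.two.beta_self h.two.vV (h.one.c_mem h.one.vV hf)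

theorem tau_iter_mem {f : G} (hf : f ∈ F) (n : ℕ) : (tau v v')^[n] f ∈ F := by
  induction n with
  | zero => exact hf
  | succ n ih => rw [Function.iterate_succ_apply']; exact h.tau_mem ih

theorem beta_tau_iter {f f' : G} (hf : f ∈ F) (hf' : f' ∈ F) (n : ℕ) :
    beta v ((tau v v')^[n] f) f' = beta v f ((tau v v')^[n] f') := by
  induction n generalizing f f' with
  | zero => rfl
  | succ n ih =>
    rw [Function.iterate_succ_apply', h.beta_tau (h.tau_iter_mem hf n) hf', ih hf (h.tau_mem hf'),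
      ← Function.iterate_succ_apply]

/-- `β_v(f, τⁿ f) = 1` for all `n` -/
theorem beta_self_tau_iter {f : G} (hf : f ∈ F) (n : ℕ) : beta v f ((tau v v')^[n] f) = 1 := by
  rcases Nat.even_or_odd' n with ⟨m, rfl | rfl⟩
  · rw [two_mul, Function.iterate_add_apply, ← h.beta_tau_iter hf (h.tau_iter_mem hf m)]
    exact h.one.beta_self h.one.vV (h.tau_iter_mem hf m)
  · rw [two_mul, add_assoc, Function.iterate_add_apply, ← h.beta_tau_iter hf (h.tau_iter_mem hf _),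
      Function.iterate_succ_apply']
    exact h.beta_self_tau (h.tau_iter_mem hf m)

/-- `τ` is additive modulo `D`. -/
theorem tau_mul {f f' : G} (hf : f ∈ F) (hf' : f' ∈ F) :
    ∃ d ∈ D, tau v v' (f * f') = tau v v' f * tau v v' f' * d := by
  have he := h.one.c_mem h.one.vV hf
  have he' := h.one.c_mem h.one.vV hf'
  have hb := h.one.beta_mem h.one.vV hf' hf
  refine ⟨beta v' (c v f') (c v f), h.two.beta_mem h.two.vV he' he, ?_⟩
  rw [tau, h.one.c_mul_right h.one.vV hf hf',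
    h.two.c_mul_right h.two.vV (mul_mem he he') (h.two.DF hb), h.two.c_V_D h.two.vV hb, mul_one,
    h.two.beta_D_left h.two.vV hb, mul_one, h.two.c_mul_right h.two.vV he he']
  rfl

theorem tau_D {d : G} (hd : d ∈ D) : tau v v' d = 1 := by
  rw [tau, h.one.c_V_D h.one.vV hd, c, mul_one, mul_inv_cancel, one_mul, inv_one]

end Pair

/-! ### The maps `θ_w` -/

namespace Near

variable {V E D F : Subgroup G} {v : G} (h : Near V E D F v)
include h

/-- The relation `h = θ_w f`, i.e. `[w, f] ≡ [v, h]` modulo `D`. -/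
theorem exists_theta [Finite G] {w f : G} (hw : w ∈ V) (hf : f ∈ F) :
    ∃ k ∈ F, c v k * (c w f)⁻¹ ∈ D := h.surj (h.c_mem hw hf)

/-- `β_v(θ_w f, f') = β_w(f, f')` -/
theorem beta_theta {w f k f' : G} (hw : w ∈ V) (hf : f ∈ F) (hf' : f' ∈ F)
    (hth : c v k * (c w f)⁻¹ ∈ D) : beta v k f' = beta w f f' := by
  have h1 : c v k = c v k * (c w f)⁻¹ * c w f := by rw [inv_mul_cancel_right]
  rw [beta, h1, h.c_mul_left (h.DV hth) (h.c_memV hw hf) hf', h.c_D hth hf', one_mul]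
  rfl

/-- `θ_w` is self-adjoint for `β_v`. -/
theorem theta_adj {w f k f' k' : G} (hw : w ∈ V) (hf : f ∈ F) (hf' : f' ∈ F) (hk' : k' ∈ F)
    (hth : c v k * (c w f)⁻¹ ∈ D) (hth' : c v k' * (c w f')⁻¹ ∈ D) :
    beta v k f' = beta v f k' := by
  rw [h.beta_theta hw hf hf' hth, h.beta_comm hw hf hf', ← h.beta_theta hw hf' hf hth',
    h.beta_comm h.vV hk' hf]

/-- `β_v(θ_w f, f) = 1` -/
theorem theta_self {w f k : G} (hw : w ∈ V) (hf : f ∈ F)
    (hth : c v k * (c w f)⁻¹ ∈ D) : beta v k f = 1 := by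
  rw [h.beta_theta hw hf hf hth, h.beta_self hw hf]

end Near

end Cfsg.Agent.Omega.NOne.NearFF

end

section


/-!
# THEOREM FLAT (text B4 #15506, helper527), part 1: (1)-(5)

`V` elementary abelian, `O₂(C_G(D)) ≤ N_G(V)` for `1 ≠ D ≤ V`, no offender on `V`;
`F` a maximal member of `BAD = {1 ≠ F ≤ V | V ≰ O₂(C_G(F))}`, `X = C_G(F)`, `R = O₂(X)`, `E = V ∩ R`,
`W = ⟨E^X⟩`.  Commutators are `[w, s] = w s w⁻¹ s⁻¹` (`NearFF.c`).
-/

set_option autoImplicit false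

namespace Cfsg.Agent.Omega.NOne.Flat

open Subgroup Cfsg Cfsg.Agent.Omega.NoFF.Basic Cfsg.Agent.Omega.NOne.Frame
open Cfsg.Agent.Omega.NOne.NearFF (Near c c_def)
open Cfsg.Agent.ZN (o2)
open Cfsg.Agent.MinSimple.VModule
open scoped Pointwise

universe u

variable {G : Type u} [Group G]

/-- `F` is bad for `V`: `1 ≠ F ≤ V`, `V ≰ O₂(C_G(F))`. -/
structure Bad (V F : Subgroup G) : Prop where
  ne : F ≠ ⊥
  le : F ≤ V
  not_le : ¬ V ≤ o2 (centralizer (F : Set G))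

/-- The hypotheses of THEOREM FLAT. -/
structure Hyp (V F : Subgroup G) : Prop where
  comm : V ≤ centralizer (V : Set G)
  sq : ∀ w ∈ V, w ^ 2 = 1
  /-- (i) -/
  syl : ∀ D : Subgroup G, D ≠ ⊥ → D ≤ V → o2 (centralizer (D : Set G)) ≤ normalizer (V : Set G)
  /-- (ii) -/
  noff : ∀ A : Subgroup G, A ≤ normalizer (V : Set G) → A ≤ centralizer (A : Set G) →
    (∀ a ∈ A, a ^ 2 = 1) → ¬ A ≤ centralizer (V : Set G) →
    Nat.card A * Nat.card ↥(V ⊓ centralizer (A : Set G)) <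
      Nat.card V * Nat.card ↥(A ⊓ centralizer (V : Set G))
  char2 : centralizer (F : Set G) ⊓ centralizer (o2 (centralizer (F : Set G)) : Set G) ≤
    o2 (centralizer (F : Set G))
  bad : Bad V F
  max : ∀ D : Subgroup G, Bad V D → F ≤ D → D = F

/-- `E = V ∩ O₂(C_G(F))` -/
abbrev EE (V F : Subgroup G) : Subgroup G := V ⊓ o2 (centralizer (F : Set G))

/-- `W = ⟨E^X⟩`, `X = C_G(F)` -/
abbrev WW (V F : Subgroup G) : Subgroup G := NoFF.Basic.V (EE V F) (centralizer (F : Set G))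

/-- `x` is bad: `⟨V, V^x⟩` is not a 2-group. -/
def BadX (V : Subgroup G) (x : G) : Prop := ¬ IsPGroup 2 (V ⊔ MulAut.conj x • V : Subgroup G)

theorem o2_conj (g : G) (H : Subgroup G) : MulAut.conj g • o2 H = o2 (MulAut.conj g • H) :=
  (ZN.o2_map (MulAut.conj g).toMonoidHom (MulAut.conj g).injective H).symm

theorem conj_centralizer (g : G) (H : Subgroup G) :
    MulAut.conj g • centralizer (H : Set G) = centralizer ((MulAut.conj g • H : Subgroup G) : Set G) := by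
  apply le_antisymm
  · exact conj_le_centralizer le_rfl
  · have h1 : MulAut.conj g⁻¹ • centralizer ((MulAut.conj g • H : Subgroup G) : Set G) ≤
        centralizer ((MulAut.conj g⁻¹ • (MulAut.conj g • H) : Subgroup G) : Set G) :=
      conj_le_centralizer le_rfl
    rw [conj_conj, inv_mul_cancel, map_one, one_smul] at h1
    have h2 := conj_le_iff (g := g) |>.2 h1
    rwa [conj_conj, mul_inv_cancel, map_one, one_smul] at h2

/-- A subgroup centralised by `x` is fixed by `x`. -/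
theorem conj_eq_of_cent {x : G} {F : Subgroup G} (hx : x ∈ centralizer (F : Set G)) :
    MulAut.conj x • F = F := by
  ext y
  rw [mem_conj]
  constructor
  · intro h
    have h1 := mem_centralizer_iff.1 hx _ h
    have e : x⁻¹ * y * x = y := by
      have : x⁻¹ * y * x * x = x * (x⁻¹ * y * x) := h1
      have h2 : y * x = x * (x⁻¹ * y * x) := by group
      have h3 : x⁻¹ * y * x * x = y * x := by rw [this, h2]
      exact mul_right_cancel h3
    rwa [e] at h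
  · intro h
    have h1 := mem_centralizer_iff.1 hx y h
    have e : x⁻¹ * y * x = y := by rw [mul_assoc, h1, inv_mul_cancel_left]
    rwa [e]

namespace Hyp

variable {V F : Subgroup G} (h : Hyp V F)
include h

theorem F_le_V : F ≤ V := h.bad.le

theorem inv {w : G} (hw : w ∈ V) : w⁻¹ = w := by
  have := h.sq w hw
  rw [pow_two] at this
  exact inv_eq_of_mul_eq_one_left this

theorem sq' {w : G} (hw : w ∈ V) : w * w = 1 := by
  have := h.sq w hw
  rwa [pow_two] at this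

theorem V_comm {x y : G} (hx : x ∈ V) (hy : y ∈ V) : x * y = y * x :=
  comm_of_le_centralizer h.comm hx hy

/-- `V ≤ X` -/
theorem V_le_X : V ≤ centralizer (F : Set G) := comm_mono h.comm le_rfl h.F_le_V

theorem V_norm_R : V ≤ normalizer (o2 (centralizer (F : Set G)) : Set G) :=
  h.V_le_X.trans (le_normalizer_o2 _)

theorem R_norm_V : o2 (centralizer (F : Set G)) ≤ normalizer (V : Set G) :=
  h.syl F h.bad.ne h.F_le_V

omit h in
/-- elements of `F` commute with elements of `X` -/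
theorem F_comm {f x : G} (hf : f ∈ F) (hx : x ∈ centralizer (F : Set G)) : f * x = x * f :=
  mem_centralizer_iff.1 hx f hf

omit h in
theorem R_le_X : o2 (centralizer (F : Set G)) ≤ centralizer (F : Set G) := ZN.o2_le _

theorem V_isPGroup : IsPGroup 2 V := by
  rintro ⟨w, hw⟩
  exact ⟨1, Subtype.ext (by simpa using h.sq w hw)⟩

theorem F_le_R : F ≤ o2 (centralizer (F : Set G)) := by
  refine le_o2 (h.F_le_V.trans h.V_le_X) (h.V_isPGroup.to_le h.F_le_V) ?_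
  exact centralizer_le_normalizer _

theorem F_le_E : F ≤ EE V F := le_inf h.F_le_V h.F_le_R

/-- `[V, R] ≤ E` -/
theorem comm_VR {v r : G} (hv : v ∈ V) (hr : r ∈ o2 (centralizer (F : Set G))) : c v r ∈ EE V F :=
  comm_mem_inf h.V_norm_R h.R_norm_V hv hr

/-- **(1)** `F < E`. -/
theorem E_ne_F : EE V F ≠ F := by
  intro hEF
  -- the group of elements acting trivially on `R / F`
  have hX : centralizer (F : Set G) ≤ normalizer (F : Set G) := centralizer_le_normalizer _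
  let K : Subgroup G := stab (centralizer (F : Set G)) (o2 (centralizer (F : Set G))) F hX
  have hKX : K ≤ centralizer (F : Set G) := fun x hx => hx.1
  have hVK : V ≤ K := by
    intro v hv
    refine ⟨h.V_le_X hv, fun r hr => ?_⟩
    have := h.comm_VR hv hr
    rwa [hEF] at this
  have hKn : centralizer (F : Set G) ≤ normalizer (K : Set G) := by
    have key : ∀ x ∈ centralizer (F : Set G), ∀ k ∈ K, x * k * x⁻¹ ∈ K := by
      intro x hx k hk
      refine ⟨mul_mem (mul_mem hx hk.1) (inv_mem hx), fun r hr => ?_⟩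
      have h1 : x⁻¹ * r * x ∈ o2 (centralizer (F : Set G)) := norm_mem' (le_normalizer_o2 _ hx) hr
      have h2 := hk.2 _ h1
      have h3 : x * (k * (x⁻¹ * r * x) * k⁻¹ * (x⁻¹ * r * x)⁻¹) * x⁻¹ ∈ F := norm_mem (hX hx) h2
      have e : x * (k * (x⁻¹ * r * x) * k⁻¹ * (x⁻¹ * r * x)⁻¹) * x⁻¹ =
          x * k * x⁻¹ * r * (x * k * x⁻¹)⁻¹ * r⁻¹ := by group
      rwa [e] at h3
    intro x hx
    rw [mem_normalizer_iff]
    intro k
    refine ⟨key x hx k, fun hk => ?_⟩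
    have h1 := key x⁻¹ (inv_mem hx) _ hk
    have e : x⁻¹ * (x * k * x⁻¹) * x⁻¹⁻¹ = k := by group
    rwa [e] at h1
  -- `K` is a 2-group
  have hK2 : IsPGroup 2 K := by
    rintro ⟨k, hk⟩
    -- `k² ∈ C_X(R) ≤ R`
    have h1 : k ^ 2 ∈ o2 (centralizer (F : Set G)) := by
      refine h.char2 (mem_inf.2 ⟨pow_mem hk.1 2, ?_⟩)
      rw [mem_centralizer_iff]
      intro r hr
      have h2 := hk.2 r hr
      set d := k * r * k⁻¹ * r⁻¹ with hd
      have h3 : d * k = k * d := F_comm h2 hk.1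
      have h4 : d * d = 1 := h.sq' (h.F_le_V h2)
      have h5 : k * r * k⁻¹ = d * r := by rw [hd]; group
      have h6 : k ^ 2 * r * (k ^ 2)⁻¹ = r := by
        calc k ^ 2 * r * (k ^ 2)⁻¹ = k * (k * r * k⁻¹) * k⁻¹ := by rw [pow_two]; group
          _ = k * (d * r) * k⁻¹ := by rw [h5]
          _ = d * k * r * k⁻¹ := by rw [h3]; group
          _ = d * (k * r * k⁻¹) := by group
          _ = d * d * r := by rw [h5]; group
          _ = r := by rw [h4, one_mul]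
      calc r * k ^ 2 = (k ^ 2 * r * (k ^ 2)⁻¹) * k ^ 2 := by rw [h6]
        _ = k ^ 2 * r := by group
    obtain ⟨n, hn⟩ := ZN.isPGroup_o2 (centralizer (F : Set G)) ⟨k ^ 2, h1⟩
    refine ⟨n + 1, Subtype.ext ?_⟩
    have h2 : (k ^ 2) ^ 2 ^ n = 1 := congrArg Subtype.val hn
    change k ^ 2 ^ (n + 1) = 1
    rw [pow_succ, mul_comm, pow_mul]
    exact h2
  exact h.bad.not_le (hVK.trans (le_o2 hKX hK2 hKn))

theorem F_lt_E : F < EE V F := lt_of_le_of_ne h.F_le_E (Ne.symm h.E_ne_F)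

/-! ### conjugates -/

/-- The hypotheses for `V^x`. -/
theorem syl_conj (x : G) (D : Subgroup G) (hD : D ≠ ⊥) (hDV : D ≤ MulAut.conj x • V) :
    o2 (centralizer (D : Set G)) ≤ normalizer ((MulAut.conj x • V : Subgroup G) : Set G) := by
  have h1 : MulAut.conj x⁻¹ • D ≤ V := by
    have := conj_le_iff (g := x⁻¹) |>.2 hDV
    rwa [conj_conj, inv_mul_cancel, map_one, one_smul] at this
  have h2 : MulAut.conj x⁻¹ • D ≠ ⊥ := by
    intro h0
    apply hD
    have := congrArg (fun A : Subgroup G => MulAut.conj x • A) h0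
    simp only [conj_conj, mul_inv_cancel, map_one, one_smul, Subgroup.smul_bot] at this
    exact this
  have h3 := h.syl _ h2 h1
  rw [← conj_centralizer, ← o2_conj] at h3
  intro r hr
  have h4 : x⁻¹ * r * x ∈ normalizer (V : Set G) := by
    apply h3
    rw [mem_conj]
    have e : x⁻¹⁻¹ * (x⁻¹ * r * x) * x⁻¹ = r := by group
    rwa [e]
  rw [mem_normalizer_iff] at h4 ⊢
  intro y
  rw [mem_conj, mem_conj, h4]
  have e : x⁻¹ * r * x * (x⁻¹ * y * x) * (x⁻¹ * r * x)⁻¹ = x⁻¹ * (r * y * r⁻¹) * x := by group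
  rw [e]

/-- `D` with `F < D ≤ V` is good. -/
theorem le_o2_of_lt {D : Subgroup G} (hFD : F < D) (hD : D ≤ V) : V ≤ o2 (centralizer (D : Set G)) := by
  by_contra h1
  have h2 : Bad V D := ⟨fun h3 => h.bad.ne (le_bot_iff.1 (h3 ▸ hFD.le)), hD, h1⟩
  exact hFD.ne (h.max D h2 hFD.le).symm

/-- `D` with `F < D ≤ V^x`, `x ∈ X`, is good for `V^x`. -/
theorem le_o2_of_lt' {x : G} (hx : x ∈ centralizer (F : Set G)) {D : Subgroup G} (hFD : F < D)
    (hD : D ≤ MulAut.conj x • V) : MulAut.conj x • V ≤ o2 (centralizer (D : Set G)) := by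
  have h1 : MulAut.conj x⁻¹ • D ≤ V := by
    have := conj_le_iff (g := x⁻¹) |>.2 hD
    rwa [conj_conj, inv_mul_cancel, map_one, one_smul] at this
  have h2 : F < MulAut.conj x⁻¹ • D := by
    have h3 : MulAut.conj x⁻¹ • F = F := conj_eq_of_cent (inv_mem hx)
    rw [← h3]
    refine lt_of_le_of_ne (conj_le_iff.2 hFD.le) fun h4 => hFD.ne ?_
    have := congrArg (fun A : Subgroup G => MulAut.conj x • A) h4
    simpa only [conj_conj, mul_inv_cancel, map_one, one_smul] using this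
  have h3 := h.le_o2_of_lt h2 h1
  have h4 := conj_le_iff (g := x) |>.2 h3
  rw [o2_conj, conj_centralizer, conj_conj, mul_inv_cancel, map_one, one_smul] at h4
  exact h4

/-- **No two mutual noncommuting conjugates.** -/
theorem commute_of_mutual [Finite G] {x : G} (h1 : V ≤ normalizer ((MulAut.conj x • V : Subgroup G) : Set G))
    (h2 : MulAut.conj x • V ≤ normalizer (V : Set G)) : MulAut.conj x • V ≤ centralizer (V : Set G) := by
  by_contra hne
  set V' : Subgroup G := MulAut.conj x • V with hV'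
  have hc' : V' ≤ centralizer (V' : Set G) := conj_le_centralizer h.comm
  have hs' : ∀ a ∈ V', a ^ 2 = 1 := by
    intro a ha
    obtain ⟨y, hy, rfl⟩ := mem_conj'.1 ha
    rw [conj_pow, h.sq y hy, mul_one, mul_inv_cancel]
  have k1 := h.noff V' h2 hc' hs' hne
  -- the same for `x⁻¹`
  have e0 : MulAut.conj x⁻¹ • V' = V := by rw [hV', conj_conj, inv_mul_cancel, map_one, one_smul]
  set V₂ : Subgroup G := MulAut.conj x⁻¹ • V with hV₂
  have h3 : V₂ ≤ normalizer (V : Set G) := by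
    intro y hy
    rw [hV₂, mem_conj] at hy
    rw [inv_inv] at hy
    have h4 := h1 hy
    rw [mem_normalizer_iff] at h4 ⊢
    intro z
    have h5 := h4 (x * z * x⁻¹)
    rw [hV', mem_conj, mem_conj] at h5
    have e1 : x⁻¹ * (x * z * x⁻¹) * x = z := by group
    have e2 : x⁻¹ * (x * y * x⁻¹ * (x * z * x⁻¹) * (x * y * x⁻¹)⁻¹) * x = y * z * y⁻¹ := by group
    rwa [e1, e2] at h5
  have hc2 : V₂ ≤ centralizer (V₂ : Set G) := conj_le_centralizer h.comm
  have hs2 : ∀ a ∈ V₂, a ^ 2 = 1 := by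
    intro a ha
    obtain ⟨y, hy, rfl⟩ := mem_conj'.1 ha
    rw [conj_pow, h.sq y hy, mul_one, mul_inv_cancel]
  have hne2 : ¬ V₂ ≤ centralizer (V : Set G) := by
    intro h4
    have h5 := conj_le_centralizer (g := x) h4
    rw [hV₂, conj_conj, mul_inv_cancel, map_one, one_smul] at h5
    exact hne (comm_symm h5)
  have k2 := h.noff V₂ h3 hc2 hs2 hne2
  -- cardinalities
  have c1 : Nat.card V' = Nat.card V := Choice.card_conj x V
  have c2 : Nat.card V₂ = Nat.card V := Choice.card_conj x⁻¹ V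
  have c3 : Nat.card ↥(V ⊓ centralizer (V₂ : Set G)) = Nat.card ↥(V' ⊓ centralizer (V : Set G)) := by
    have e1 : MulAut.conj x • (V ⊓ centralizer (V₂ : Set G)) = V' ⊓ centralizer (V : Set G) := by
      rw [Subgroup.smul_inf, conj_centralizer, hV₂, conj_conj, mul_inv_cancel, map_one, one_smul]
    rw [← e1, Choice.card_conj]
  have c4 : Nat.card ↥(V₂ ⊓ centralizer (V : Set G)) = Nat.card ↥(V ⊓ centralizer (V' : Set G)) := by
    have e1 : MulAut.conj x • (V₂ ⊓ centralizer (V : Set G)) = V ⊓ centralizer (V' : Set G) := by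
      rw [Subgroup.smul_inf, conj_centralizer, hV₂, conj_conj, mul_inv_cancel, map_one, one_smul]
    rw [← e1, Choice.card_conj]
  rw [c1] at k1
  rw [c2, c3, c4] at k2
  have hp : 0 < Nat.card V := Nat.card_pos
  have k3 := Nat.lt_of_mul_lt_mul_left k1
  have k4 := Nat.lt_of_mul_lt_mul_left k2
  omega

/-- **(2)** `x ∈ X`, `V ∩ V^x > F` ⟹ `[V, V^x] = 1`. -/
theorem commute_of_lt [Finite G] {x : G} (hx : x ∈ centralizer (F : Set G)) (hlt : F < V ⊓ MulAut.conj x • V) :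
    MulAut.conj x • V ≤ centralizer (V : Set G) := by
  have hne : V ⊓ MulAut.conj x • V ≠ ⊥ := fun h0 => h.bad.ne (le_bot_iff.1 (h0 ▸ hlt.le))
  refine h.commute_of_mutual ?_ ?_
  · exact (h.le_o2_of_lt hlt inf_le_left).trans (h.syl_conj x _ hne inf_le_right)
  · exact (h.le_o2_of_lt' hx hlt inf_le_right).trans (h.syl _ hne inf_le_left)

theorem F_le_conj {x : G} (hx : x ∈ centralizer (F : Set G)) : F ≤ MulAut.conj x • V := by
  have := conj_le_iff (g := x) |>.2 h.F_le_V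
  rwa [conj_eq_of_cent hx] at this

theorem F_le_inf {x : G} (hx : x ∈ centralizer (F : Set G)) : F ≤ V ⊓ MulAut.conj x • V :=
  le_inf h.F_le_V (h.F_le_conj hx)

/-- **(2)** bad `x`: `V ∩ V^x = F`. -/
theorem inf_eq_of_bad [Finite G] {x : G} (hx : x ∈ centralizer (F : Set G)) (hb : BadX V x) :
    V ⊓ MulAut.conj x • V = F := by
  by_contra hne
  have h1 := h.commute_of_lt hx (lt_of_le_of_ne (h.F_le_inf hx) (Ne.symm hne))
  apply hb
  exact IsPGroup.to_sup_of_normal_right' h.V_isPGroup (Choice.isPGroup_conj h.V_isPGroup x)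
    ((comm_symm h1).trans (centralizer_le_normalizer _))

/-! ### (3) -/

omit h in
theorem E_le_R : EE V F ≤ o2 (centralizer (F : Set G)) := inf_le_right

omit h in
theorem E_le_V : EE V F ≤ V := inf_le_left

omit h in
theorem E_le_X : EE V F ≤ centralizer (F : Set G) := inf_le_right.trans R_le_X

omit h in
theorem conj_R {x : G} (hx : x ∈ centralizer (F : Set G)) :
    MulAut.conj x • o2 (centralizer (F : Set G)) = o2 (centralizer (F : Set G)) := by
  rw [o2_conj, conj_self hx]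

omit h in
theorem conjE_le_R {x : G} (hx : x ∈ centralizer (F : Set G)) :
    MulAut.conj x • EE V F ≤ o2 (centralizer (F : Set G)) := by
  have := conj_le_iff (g := x) |>.2 (inf_le_right : EE V F ≤ o2 (centralizer (F : Set G)))
  rwa [conj_R hx] at this

omit h in
theorem conjE_le_conjV (x : G) : MulAut.conj x • EE V F ≤ MulAut.conj x • V :=
  conj_le_iff.2 inf_le_left

omit h in
theorem conjE_eq {x : G} (hx : x ∈ centralizer (F : Set G)) :
    MulAut.conj x • EE V F = (MulAut.conj x • V) ⊓ o2 (centralizer (F : Set G)) := by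
  rw [EE, Subgroup.smul_inf, conj_R hx]

theorem R_norm_conjV {x : G} (hx : x ∈ centralizer (F : Set G)) :
    o2 (centralizer (F : Set G)) ≤ normalizer ((MulAut.conj x • V : Subgroup G) : Set G) :=
  h.syl_conj x F h.bad.ne (h.F_le_conj hx)

theorem conjV_norm_R {x : G} (hx : x ∈ centralizer (F : Set G)) :
    (MulAut.conj x • V : Subgroup G) ≤ normalizer (o2 (centralizer (F : Set G)) : Set G) :=
  (Choice.conj_le_of_mem h.V_le_X hx).trans (le_normalizer_o2 _)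

/-- **(3)** `[E, E^x] ≤ F`. -/
theorem comm_EE [Finite G] {x : G} (hx : x ∈ centralizer (F : Set G)) {e f : G} (he : e ∈ EE V F)
    (hf : f ∈ MulAut.conj x • EE V F) : c e f ∈ F := by
  have h1 : c e f ∈ EE V F := h.comm_VR he.1 (conjE_le_R hx hf)
  have h2 : c e f ∈ (MulAut.conj x • V : Subgroup G) := by
    have h3 := comm_mem_inf (h.conjV_norm_R hx) (h.R_norm_conjV hx) (conjE_le_conjV x hf) he.2
    have h4 : (f * e * f⁻¹ * e⁻¹)⁻¹ ∈ (MulAut.conj x • V : Subgroup G) := inv_mem (mem_inf.1 h3).1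
    have e1 : (f * e * f⁻¹ * e⁻¹)⁻¹ = c e f := by rw [c]; group
    rwa [e1] at h4
  by_cases hlt : F < V ⊓ MulAut.conj x • V
  · have h3 := h.commute_of_lt hx hlt
    have h4 : e * f = f * e := (comm_of_le_centralizer h3 (conjE_le_conjV x hf) he.1).symm
    rw [c, h4, mul_inv_cancel_right, mul_inv_cancel]
    exact one_mem _
  · have h3 : V ⊓ MulAut.conj x • V = F := by
      by_contra h4
      exact hlt (lt_of_le_of_ne (h.F_le_inf hx) (Ne.symm h4))
    rw [← h3]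
    exact mem_inf.2 ⟨h1.1, h2⟩

omit h in
theorem E_le_W : EE V F ≤ WW V F := by
  have := Z_le_V (Z := EE V F) (P := centralizer (F : Set G)) (p := 1) (one_mem _)
  rwa [map_one, one_smul] at this

omit h in
theorem conjE_le_W {x : G} (hx : x ∈ centralizer (F : Set G)) : MulAut.conj x • EE V F ≤ WW V F :=
  Z_le_V hx

omit h in
theorem W_le_R : WW V F ≤ o2 (centralizer (F : Set G)) := V_le fun _ hx => conjE_le_R hx

omit h in
theorem W_le_X : WW V F ≤ centralizer (F : Set G) := W_le_R.trans R_le_X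

theorem W_norm_V : WW V F ≤ normalizer (V : Set G) := W_le_R.trans h.R_norm_V

omit h in
theorem conj_W {x : G} (hx : x ∈ centralizer (F : Set G)) : MulAut.conj x • WW V F = WW V F := by
  have := conj_V_mul (Z := EE V F) (P := centralizer (F : Set G)) (g := 1) hx
  rwa [one_mul, map_one, one_smul] at this

omit h in
theorem conj_mem_W {x s : G} (hx : x ∈ centralizer (F : Set G)) (hs : s ∈ WW V F) :
    x * s * x⁻¹ ∈ WW V F := by
  have := Frame.conj_mem (g := x) hs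
  rwa [conj_W hx] at this

omit h in
theorem X_norm_W : centralizer (F : Set G) ≤ normalizer (WW V F : Set G) := by
  intro x hx
  rw [mem_normalizer_iff]
  intro s
  refine ⟨fun hs => conj_mem_W hx hs, fun hs => ?_⟩
  have := conj_mem_W (inv_mem hx) hs
  have e : x⁻¹ * (x * s * x⁻¹) * x⁻¹⁻¹ = s := by group
  rwa [e] at this

/-- `[V, W] ≤ E` -/
theorem comm_VW {v s : G} (hv : v ∈ V) (hs : s ∈ WW V F) : c v s ∈ EE V F := h.comm_VR hv (W_le_R hs)

omit h in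
theorem X_norm_F : centralizer (F : Set G) ≤ normalizer (F : Set G) := centralizer_le_normalizer _

/-- `[E, W] ≤ F` -/
theorem comm_EW [Finite G] {e s : G} (he : e ∈ EE V F) (hs : s ∈ WW V F) : c e s ∈ F := by
  have h1 : WW V F ≤ stab (centralizer (F : Set G)) (EE V F) F X_norm_F := by
    refine V_le fun x hx f hf => ⟨R_le_X (conjE_le_R hx hf), fun e he => ?_⟩
    have h2 := inv_mem (h.comm_EE hx he hf)
    have e1 : (c e f)⁻¹ = f * e * f⁻¹ * e⁻¹ := by rw [c]; group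
    rwa [e1] at h2
  have h2 := inv_mem ((h1 hs).2 e he)
  have e1 : (s * e * s⁻¹ * e⁻¹)⁻¹ = c e s := by rw [c]; group
  rwa [e1] at h2

/-- `[W, W] ≤ F` -/
theorem comm_WW [Finite G] {s t : G} (hs : s ∈ WW V F) (ht : t ∈ WW V F) : c s t ∈ F := by
  have h1 : WW V F ≤ stab (centralizer (F : Set G)) (WW V F) F X_norm_F := by
    refine V_le fun x hx f hf => ⟨R_le_X (conjE_le_R hx hf), fun s hs => ?_⟩
    obtain ⟨e, he, rfl⟩ := mem_conj'.1 hf
    have h2 : x⁻¹ * s * x ∈ WW V F := by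
      have := conj_mem_W (inv_mem hx) hs
      rwa [inv_inv] at this
    have h3 := h.comm_EW he h2
    have h4 := norm_mem (X_norm_F hx) h3
    have e1 : x * c e (x⁻¹ * s * x) * x⁻¹ = x * e * x⁻¹ * s * (x * e * x⁻¹)⁻¹ * s⁻¹ := by
      rw [c]; group
    rwa [e1] at h4
  exact (h1 hs).2 t ht

/-- `s² ∈ F` for `s ∈ W` -/
theorem sq_W [Finite G] {s : G} (hs : s ∈ WW V F) : s * s ∈ F := by
  let K : Subgroup G :=
    { carrier := {s | s ∈ WW V F ∧ s * s ∈ F}
      one_mem' := ⟨one_mem _, by rw [one_mul]; exact one_mem _⟩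
      mul_mem' := by
        rintro s t ⟨hs, hs2⟩ ⟨ht, ht2⟩
        refine ⟨mul_mem hs ht, ?_⟩
        have h1 : c t⁻¹ s⁻¹ ∈ F := h.comm_WW (inv_mem ht) (inv_mem hs)
        have h2 : c t⁻¹ s⁻¹ * t = t * c t⁻¹ s⁻¹ := F_comm h1 (W_le_X ht)
        have e : s * t * (s * t) = s * s * (t * t) * c t⁻¹ s⁻¹ := by
          calc s * t * (s * t) = s * s * t * (c t⁻¹ s⁻¹ * t) := by rw [c]; group
            _ = s * s * t * (t * c t⁻¹ s⁻¹) := by rw [h2]
            _ = s * s * (t * t) * c t⁻¹ s⁻¹ := by group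
        rw [e]
        exact mul_mem (mul_mem hs2 ht2) h1
      inv_mem' := by
        rintro s ⟨hs, hs2⟩
        refine ⟨inv_mem hs, ?_⟩
        have := inv_mem hs2
        rwa [mul_inv_rev] at this }
  have h1 : WW V F ≤ K := by
    refine V_le fun x hx f hf => ⟨conjE_le_W hx hf, ?_⟩
    obtain ⟨e, he, rfl⟩ := mem_conj'.1 hf
    have e1 : x * e * x⁻¹ * (x * e * x⁻¹) = 1 := by
      have := h.sq' he.1
      calc x * e * x⁻¹ * (x * e * x⁻¹) = x * (e * e) * x⁻¹ := by group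
        _ = 1 := by rw [this]; group
    rw [e1]
    exact one_mem _
  exact (h1 hs).2

/-! ### commutator rules on `V × W` -/

theorem c_memE {w s : G} (hw : w ∈ V) (hs : s ∈ WW V F) : c w s ∈ EE V F := h.comm_VW hw hs

theorem c_memV {w s : G} (hw : w ∈ V) (hs : s ∈ WW V F) : c w s ∈ V := (h.comm_VW hw hs).1

theorem c_mul_left {w w' s : G} (hw : w ∈ V) (hw' : w' ∈ V) (hs : s ∈ WW V F) :
    c (w * w') s = c w s * c w' s := by
  have h1 : w * c w' s = c w' s * w := h.V_comm hw (h.c_memV hw' hs)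
  have e : c (w * w') s = w * c w' s * (s * w⁻¹ * s⁻¹) := by rw [c, c]; group
  rw [e, h1]
  have e2 : c w' s * w * (s * w⁻¹ * s⁻¹) = c w' s * c w s := by rw [c, c]; group
  rw [e2]
  exact h.V_comm (h.c_memV hw' hs) (h.c_memV hw hs)

/-- `[w, s t] = [w, s] [w, t] [w, t, s]` -/
theorem c_mul_right [Finite G] {w s t : G} (hw : w ∈ V) (hs : s ∈ WW V F) (ht : t ∈ WW V F) :
    c w (s * t) = c w s * c w t * c (c w t) s := by
  have e : c w (s * t) = c w s * (s * c w t * s⁻¹) := by rw [c, c, c]; group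
  have hF := h.comm_EW (h.c_memE hw ht) hs
  have e1 : s * c w t * s⁻¹ = (c (c w t) s)⁻¹ * c w t := by
    rw [c_def (c w t)]; group
  have h1 : (c (c w t) s)⁻¹ = c (c w t) s := h.inv (h.F_le_V hF)
  rw [e, e1, h1, h.V_comm (h.F_le_V hF) (h.c_memV hw ht), mul_assoc]

/-- additivity modulo `F` -/
theorem c_mul_mem [Finite G] {w s t : G} (hw : w ∈ V) (hs : s ∈ WW V F) (ht : t ∈ WW V F) :
    c w (s * t) * (c w s * c w t)⁻¹ ∈ F := by
  rw [h.c_mul_right hw hs ht]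
  have hF := h.comm_EW (h.c_memE hw ht) hs
  have h1 : c w s * c w t * c (c w t) s = c (c w t) s * (c w s * c w t) :=
    h.V_comm (mul_mem (h.c_memV hw hs) (h.c_memV hw ht)) (h.F_le_V hF)
  rw [h1, mul_inv_cancel_right]
  exact hF

omit h in
/-- elements of `F` commute with `W` -/
theorem c_F {f s : G} (hf : f ∈ F) (hs : s ∈ WW V F) : c f s = 1 := by
  rw [c, F_comm hf (W_le_X hs), mul_inv_cancel_right, mul_inv_cancel]

/-- `[w, s]` commutes with `s`. -/
theorem c_comm [Finite G] {w s : G} (hw : w ∈ V) (hs : s ∈ WW V F) : c w s * s = s * c w s := by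
  have h1 := h.sq_W hs
  have h2 : s * s * w = w * (s * s) := F_comm h1 (h.V_le_X hw)
  have h3 : s * c w s * s⁻¹ = (c w s)⁻¹ := by
    have e1 : w⁻¹ = w := h.inv hw
    calc s * c w s * s⁻¹ = s * w * s⁻¹ * (s * s * w⁻¹) * s⁻¹ * s⁻¹ := by rw [c]; group
      _ = s * w * s⁻¹ * (w * (s * s)) * s⁻¹ * s⁻¹ := by rw [e1, h2]
      _ = s * w * s⁻¹ * w := by group
      _ = s * w * s⁻¹ * w⁻¹ := by rw [e1]
      _ = (c w s)⁻¹ := by rw [c]; group
  rw [h.inv (h.c_memV hw hs)] at h3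
  calc c w s * s = s * c w s * s⁻¹ * s := by rw [h3]
    _ = s * c w s := by group

/-! ### (4), (5) -/

/-- **The frame** at `w ∈ V - E`. -/
theorem exists_near [Finite G] {w : G} (hw : w ∈ V) (hwE : w ∉ EE V F) :
    ∃ x ∈ centralizer (F : Set G), BadX V x ∧ Near V (EE V F) F (MulAut.conj x • EE V F) w ∧
      Near (MulAut.conj x • V) (MulAut.conj x • EE V F) F (EE V F) (x * w * x⁻¹) := by
  have hwR : w ∉ o2 (centralizer (F : Set G)) := fun h1 => hwE ⟨hw, h1⟩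
  obtain ⟨x, hx, hfin, hb, -⟩ := NearFF.exists_near h.char2 h.V_le_X h.comm h.sq h.R_norm_V hw hwR
  have hbad : BadX V x := fun h1 => hb (h1.to_le (sup_le_sup (NearFF.V1_le hw)
    (conj_le_iff.2 (NearFF.V1_le hw))))
  have hD : (EE V F) ⊓ MulAut.conj x • (EE V F) = F := by
    apply le_antisymm
    · rw [← h.inf_eq_of_bad hx hbad]
      exact inf_le_inf inf_le_left (conjE_le_conjV x)
    · refine le_inf h.F_le_E ?_
      have := conj_le_iff (g := x) |>.2 h.F_le_E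
      rwa [conj_eq_of_cent hx] at this
  refine ⟨x, hx, hbad, ?_, ?_⟩
  · have := hfin.near
    rwa [hD] at this
  · have := hfin.near'
    rwa [hD] at this

/-- **(4)** `[w, W] F = E` for `w ∈ V - E`. -/
theorem surj [Finite G] {w e : G} (hw : w ∈ V) (hwE : w ∉ EE V F) (he : e ∈ EE V F) :
    ∃ s ∈ WW V F, c w s * e⁻¹ ∈ F := by
  obtain ⟨x, hx, -, hn, -⟩ := h.exists_near hw hwE
  obtain ⟨f, hf, hc⟩ := hn.surj he
  exact ⟨f, conjE_le_W hx hf, hc⟩

/-- **(5)** `w ∈ V - E`, `s ∈ W`, `[w, s] ∈ F` ⟹ `[E, s] = 1`. -/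
theorem comm_of_mem [Finite G] {w s : G} (hw : w ∈ V) (hwE : w ∉ EE V F) (hs : s ∈ WW V F)
    (hc : c w s ∈ F) {e : G} (he : e ∈ EE V F) : e * s = s * e := by
  obtain ⟨t, ht, hte⟩ := h.surj hw hwE he
  -- `e` commutes with every `t'` with `[w, t'] ∈ F e`
  have key : ∀ t' ∈ WW V F, c w t' * e⁻¹ ∈ F → e * t' = t' * e := by
    intro t' ht' h1
    have h2 := h.c_comm hw ht'
    have h3 : (c w t' * e⁻¹) * t' = t' * (c w t' * e⁻¹) := F_comm h1 (W_le_X ht')
    have h4 : e = (c w t' * e⁻¹)⁻¹ * c w t' := by group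
    have h5 : (c w t' * e⁻¹)⁻¹ * t' = t' * (c w t' * e⁻¹)⁻¹ := by
      calc (c w t' * e⁻¹)⁻¹ * t' = (c w t' * e⁻¹)⁻¹ * (t' * (c w t' * e⁻¹)) * (c w t' * e⁻¹)⁻¹ := by
            group
        _ = (c w t' * e⁻¹)⁻¹ * ((c w t' * e⁻¹) * t') * (c w t' * e⁻¹)⁻¹ := by rw [h3]
        _ = t' * (c w t' * e⁻¹)⁻¹ := by group
    calc e * t' = (c w t' * e⁻¹)⁻¹ * (c w t' * t') := by rw [← mul_assoc, ← h4]
      _ = (c w t' * e⁻¹)⁻¹ * t' * c w t' := by rw [h2]; group
      _ = t' * ((c w t' * e⁻¹)⁻¹ * c w t') := by rw [h5]; group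
      _ = t' * e := by rw [← h4]
  have k1 := key t ht hte
  have k2 := key (t * s) (mul_mem ht hs) (by
    have e1 : c w (t * s) = c w t * c w s := by
      have e2 : c w (t * s) = c w t * (t * c w s * t⁻¹) := by rw [c, c, c]; group
      rw [e2, ← F_comm hc (W_le_X ht), mul_inv_cancel_right]
    rw [e1, h.V_comm (h.c_memV hw ht) (h.c_memV hw hs), mul_assoc]
    exact mul_mem hc hte)
  have e3 : s = t⁻¹ * (t * s) := by group
  have e4 : e * t⁻¹ = t⁻¹ * e := by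
    calc e * t⁻¹ = t⁻¹ * (t * e) * t⁻¹ := by group
      _ = t⁻¹ * (e * t) * t⁻¹ := by rw [k1]
      _ = t⁻¹ * e := by group
  calc e * s = e * t⁻¹ * (t * s) := by group
    _ = t⁻¹ * (e * (t * s)) := by rw [e4]; group
    _ = t⁻¹ * (t * s * e) := by rw [k2]
    _ = s * e := by group

end Hyp

end Cfsg.Agent.Omega.NOne.Flat

end

section


/-!
# THEOREM FLAT (text B4 #15506), part 2: (6), (7)

* `Hyp.cent_EW` (6): `C_E(W) = F`; `Hyp.cent_VW`: `C_V(W) = F`;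
* `NN V F = W ∩ C(E)`; `Hyp.mem_NN`: `N = {s ∈ W | [V, s] ≤ F}`; `Hyp.c_mem_F_iff`: for `w ∈ V - E`, `s ∈ W`:
  `[w, s] ∈ F ↔ s ∈ N`; `Hyp.relIndex_NN`: `|W : N| = |E : F|`.
-/

set_option autoImplicit false

namespace Cfsg.Agent.Omega.NOne.Flat

open Subgroup Cfsg Cfsg.Agent.Omega.NoFF.Basic Cfsg.Agent.Omega.NOne.Frame
open Cfsg.Agent.Omega.NOne.NearFF (Near c c_def)
open Cfsg.Agent.ZN (o2)
open Cfsg.Agent.MinSimple.VModule
open scoped Pointwise

universe u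

variable {G : Type u} [Group G]

/-! ### counting cosets -/

/-- `φ` maps `A` to `B` and induces an injection `A / N → B / D`. -/
structure Cos (φ : G → G) (A N B D : Subgroup G) : Prop where
  mem : ∀ a ∈ A, φ a ∈ B
  iff : ∀ a ∈ A, ∀ b ∈ A, (φ a)⁻¹ * φ b ∈ D ↔ a⁻¹ * b ∈ N

namespace Cos

variable {φ : G → G} {A N B D : Subgroup G} (h : Cos φ A N B D)
include h

theorem exists_inj : ∃ ψ : A ⧸ N.subgroupOf A → B ⧸ D.subgroupOf B, Function.Injective ψ ∧
    ∀ a : A, ψ (Quotient.mk'' a) = Quotient.mk'' (⟨φ a, h.mem a a.2⟩ : B) := by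
  refine ⟨Quotient.map' (fun a : A => (⟨φ a, h.mem a a.2⟩ : B)) ?_, ?_, fun a => rfl⟩
  · intro a b hab
    rw [QuotientGroup.leftRel_apply] at hab ⊢
    exact (h.iff a a.2 b b.2).2 hab
  · intro x y
    refine Quotient.inductionOn₂' x y fun a b hab => ?_
    have h1 : Quotient.mk'' (⟨φ a, h.mem a a.2⟩ : B) =
      (Quotient.mk'' (⟨φ b, h.mem b b.2⟩ : B) : B ⧸ D.subgroupOf B) := hab
    rw [Quotient.eq'', QuotientGroup.leftRel_apply] at h1
    rw [Quotient.eq'', QuotientGroup.leftRel_apply]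
    exact (h.iff a a.2 b b.2).1 h1

theorem le [Finite G] : N.relIndex A ≤ D.relIndex B := by
  obtain ⟨ψ, hψ, -⟩ := h.exists_inj
  exact Nat.card_le_card_of_injective ψ hψ

theorem surj [Finite G] (hle : D.relIndex B ≤ N.relIndex A) {b : G} (hb : b ∈ B) :
    ∃ a ∈ A, (φ a)⁻¹ * b ∈ D := by
  obtain ⟨ψ, hψ, h2⟩ := h.exists_inj
  have hs : Function.Surjective ψ := (hψ.bijective_of_nat_card_le hle).2
  obtain ⟨x, hx⟩ := hs (Quotient.mk'' ⟨b, hb⟩)
  revert hx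
  refine Quotient.inductionOn' x fun a ha => ⟨a, a.2, ?_⟩
  rw [h2, Quotient.eq'', QuotientGroup.leftRel_apply] at ha
  exact ha

theorem eq_of_surj [Finite G] (hs : ∀ b ∈ B, ∃ a ∈ A, (φ a)⁻¹ * b ∈ D) : N.relIndex A = D.relIndex B := by
  obtain ⟨ψ, hψ, h2⟩ := h.exists_inj
  refine Nat.card_eq_of_bijective ψ ⟨hψ, ?_⟩
  intro y
  refine Quotient.inductionOn' y fun b => ?_
  obtain ⟨a, ha, hab⟩ := hs b b.2
  refine ⟨Quotient.mk'' ⟨a, ha⟩, ?_⟩
  rw [h2, Quotient.eq'', QuotientGroup.leftRel_apply]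
  exact hab

end Cos

/-- a character of a finite commutative subgroup, trivial on a subgroup -/
theorem exists_char {T D : Subgroup G} [Finite T] (hc : ∀ a ∈ T, ∀ b ∈ T, a * b = b * a) {t : G}
    (ht : t ∈ T) (h1 : t ∉ D) : ∃ ξ : T →* ℂˣ, (∀ d (hd : d ∈ T), d ∈ D → ξ ⟨d, hd⟩ = 1) ∧ ξ ⟨t, ht⟩ ≠ 1 := by
  let _ : CommGroup T :=
    { (inferInstance : Group T) with
      mul_comm := fun x y => Subtype.ext (hc x x.2 y y.2) }
  have : NeZero (Monoid.exponent (T ⧸ D.subgroupOf T)) := ⟨Monoid.exponent_ne_zero_of_finite⟩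
  obtain ⟨χ, hχ⟩ := CommGroup.exists_apply_ne_one_of_hasEnoughRootsOfUnity (T ⧸ D.subgroupOf T) ℂ
    (a := (QuotientGroup.mk ⟨t, ht⟩ : T ⧸ D.subgroupOf T)) (by
      rw [Ne, QuotientGroup.eq_one_iff, mem_subgroupOf]
      exact h1)
  refine ⟨χ.comp (QuotientGroup.mk' _), fun d hd hdD => ?_, hχ⟩
  have : (QuotientGroup.mk' (D.subgroupOf T)) ⟨d, hd⟩ = 1 := by
    rw [QuotientGroup.mk'_apply, QuotientGroup.eq_one_iff, mem_subgroupOf]
    exact hdD
  rw [MonoidHom.comp_apply, this, map_one]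

theorem card_mul_relIndex' {A B : Subgroup G} (hAB : A ≤ B) : Nat.card A * A.relIndex B = Nat.card B := by
  rw [← relIndex_bot_left, ← relIndex_bot_left, relIndex_mul_relIndex _ _ _ bot_le hAB]

/-- `N = C_W(E)` -/
abbrev NN (V F : Subgroup G) : Subgroup G := WW V F ⊓ centralizer (EE V F : Set G)

namespace Hyp

variable {V F : Subgroup G} (h : Hyp V F)
include h

/-- (ii) with indices -/
theorem noff' [Finite G] {A : Subgroup G} (h1 : A ≤ normalizer (V : Set G)) (h2 : A ≤ centralizer (A : Set G))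
    (h3 : ∀ a ∈ A, a ^ 2 = 1) (h4 : ¬ A ≤ centralizer (V : Set G)) :
    (centralizer (V : Set G)).relIndex A < (centralizer (A : Set G)).relIndex V := by
  have k := h.noff A h1 h2 h3 h4
  have e1 := card_mul_relIndex' (inf_le_left : V ⊓ centralizer (A : Set G) ≤ V)
  have e2 := card_mul_relIndex' (inf_le_left : A ⊓ centralizer (V : Set G) ≤ A)
  rw [inf_relIndex_left] at e1 e2
  rw [← e1, ← e2] at k
  have hp1 : 0 < Nat.card ↥(V ⊓ centralizer (A : Set G)) := Nat.card_pos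
  have hp2 : 0 < Nat.card ↥(A ⊓ centralizer (V : Set G)) := Nat.card_pos
  by_contra hlt
  have h5 := Nat.not_lt.1 hlt
  refine Nat.not_le.2 k ?_
  calc Nat.card ↥(V ⊓ centralizer (A : Set G)) * (centralizer (A : Set G)).relIndex V *
        Nat.card ↥(A ⊓ centralizer (V : Set G))
      ≤ Nat.card ↥(V ⊓ centralizer (A : Set G)) * (centralizer (V : Set G)).relIndex A *
        Nat.card ↥(A ⊓ centralizer (V : Set G)) :=
        Nat.mul_le_mul_right _ (Nat.mul_le_mul_left _ h5)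
    _ = _ := by ring

theorem exists_not_mem : ∃ w ∈ V, w ∉ EE V F := by
  obtain ⟨w, hw, hwR⟩ := SetLike.not_le_iff_exists.1 h.bad.not_le
  exact ⟨w, hw, fun h1 => hwR h1.2⟩

omit h in
theorem c_one_right (w : G) : c w 1 = 1 := by rw [c]; group

/-- `[w, s⁻¹] [w, s] ∈ F` -/
theorem c_inv_mem [Finite G] {w s : G} (hw : w ∈ V) (hs : s ∈ WW V F) : c w s⁻¹ * c w s ∈ F := by
  have h1 := h.c_mul_mem hw (inv_mem hs) hs
  rw [inv_mul_cancel, c_one_right, one_mul] at h1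
  have := inv_mem h1
  rwa [inv_inv] at this

/-- `w ↦ [w, ·]` modulo `F` -/
theorem c_iff [Finite G] {w a b : G} (hw : w ∈ V) (ha : a ∈ WW V F) (hb : b ∈ WW V F) :
    (c w a)⁻¹ * c w b ∈ F ↔ c w (a⁻¹ * b) ∈ F := by
  have h1 := h.c_mul_mem hw (inv_mem ha) hb
  have h2 := h.c_inv_mem hw ha
  have hA := h.c_memV hw (inv_mem ha)
  have hB := h.c_memV hw hb
  have hC := h.c_memV hw ha
  have e1 : c w a⁻¹ * c w b = (c w a⁻¹ * c w a) * ((c w a)⁻¹ * c w b) := by group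
  have h3 : c w a⁻¹ * c w b ∈ F ↔ (c w a)⁻¹ * c w b ∈ F := by
    rw [e1]
    exact mul_mem_cancel_left h2
  rw [← h3]
  constructor
  · intro h4
    have := mul_mem h1 h4
    rwa [inv_mul_cancel_right] at this
  · intro h4
    have h5 := mul_mem (inv_mem h1) h4
    have e : (c w (a⁻¹ * b) * (c w a⁻¹ * c w b)⁻¹)⁻¹ * c w (a⁻¹ * b) = c w a⁻¹ * c w b := by group
    rwa [e] at h5

/-- **(6)** `C_E(W) = F`. -/
theorem cent_EW [Finite G] : EE V F ⊓ centralizer (WW V F : Set G) = F := by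
  by_contra hne
  set X : Subgroup G := centralizer (F : Set G) with hX
  set Ez : Subgroup G := EE V F ⊓ centralizer (WW V F : Set G) with hEz
  have hFE : F ≤ Ez := le_inf h.F_le_E (comm_symm W_le_X)
  have hlt : F < Ez := lt_of_le_of_ne hFE (Ne.symm hne)
  have hEzV : Ez ≤ V := inf_le_left.trans inf_le_left
  set ZE : Subgroup G := NoFF.Basic.V Ez X with hZE
  have hconj : ∀ x ∈ X, MulAut.conj x • Ez ≤ WW V F ⊓ centralizer (WW V F : Set G) := by
    intro x hx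
    refine le_inf ?_ ?_
    · exact (conj_le_iff.2 inf_le_left).trans (conjE_le_W hx)
    · have h1 : MulAut.conj x • Ez ≤ MulAut.conj x • centralizer (WW V F : Set G) :=
        conj_le_iff.2 inf_le_right
      rwa [conj_centralizer, conj_W hx] at h1
  have hZW : ZE ≤ WW V F ⊓ centralizer (WW V F : Set G) := V_le hconj
  have hZW1 : ZE ≤ WW V F := hZW.trans inf_le_left
  have hZW2 : ZE ≤ centralizer (WW V F : Set G) := hZW.trans inf_le_right
  have hEzZ : Ez ≤ ZE := by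
    have := Z_le_V (Z := Ez) (P := X) (p := 1) (one_mem _)
    rwa [map_one, one_smul] at this
  have hconjZ : ∀ x ∈ X, MulAut.conj x • Ez ≤ ZE := fun x hx => Z_le_V hx
  have hVZ : V ⊓ ZE ≤ Ez := by
    intro v hv
    obtain ⟨hv1, hv2⟩ := mem_inf.1 hv
    exact mem_inf.2 ⟨mem_inf.2 ⟨hv1, W_le_R (hZW1 hv2)⟩, hZW2 hv2⟩
  have hZab : ZE ≤ centralizer (ZE : Set G) := comm_mono hZW2 le_rfl hZW1
  have hZsq : ∀ s ∈ ZE, s ^ 2 = 1 := by
    let K : Subgroup G :=
      { carrier := {s | s ∈ ZE ∧ s ^ 2 = 1}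
        one_mem' := ⟨one_mem _, one_pow _⟩
        mul_mem' := by
          rintro a b ⟨ha, ha2⟩ ⟨hb, hb2⟩
          refine ⟨mul_mem ha hb, ?_⟩
          have h1 : a * b = b * a := comm_of_le_centralizer hZab ha hb
          rw [(Commute.mul_pow h1 2 : (a * b) ^ 2 = a ^ 2 * b ^ 2), ha2, hb2, one_mul]
        inv_mem' := by
          rintro a ⟨ha, ha2⟩
          exact ⟨inv_mem ha, by rw [inv_pow, ha2, inv_one]⟩ }
    have hK : ZE ≤ K := by
      refine V_le fun x hx s hs => ⟨hconjZ x hx hs, ?_⟩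
      obtain ⟨e, he, rfl⟩ := mem_conj'.1 hs
      rw [conj_pow, h.sq e (hEzV he), mul_one, mul_inv_cancel]
    exact fun s hs => (hK hs).2
  have hXZ : X ≤ normalizer (ZE : Set G) := by
    intro x hx
    have hself : ∀ y ∈ X, MulAut.conj y • ZE = ZE := by
      intro y hy
      have := conj_V_mul (Z := Ez) (P := X) (g := 1) hy
      rwa [one_mul, map_one, one_smul] at this
    rw [mem_normalizer_iff]
    intro s
    constructor
    · intro hs
      have := Frame.conj_mem (g := x) hs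
      rwa [hself x hx] at this
    · intro hs
      have := Frame.conj_mem (g := x⁻¹) hs
      rw [hself _ (inv_mem hx)] at this
      have e : x⁻¹ * (x * s * x⁻¹) * x⁻¹⁻¹ = s := by group
      rwa [e] at this
  have hcomm : ∀ v ∈ V, ∀ s ∈ ZE, v * s * v⁻¹ * s⁻¹ ∈ Ez := by
    intro v hv s hs
    refine hVZ (mem_inf.2 ⟨h.c_memV hv (hZW1 hs), ?_⟩)
    exact mul_mem (norm_mem (hXZ (h.V_le_X hv)) hs) (inv_mem hs)
  have pr : BTwo.Pairing V ZE Ez :=
    { comm := hcomm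
      cA := fun a ha t ht => h.V_comm ha (hEzV ht)
      cW := fun s hs t ht => comm_of_le_centralizer hZab hs (hEzZ ht) }
  -- the frame gives: `[w, Ez^x]` covers `Ez / F`
  have hcos : ∀ w ∈ V, w ∉ EE V F → ∃ x ∈ X,
      (∀ f ∈ MulAut.conj x • Ez, c w f ∈ F → f ∈ F) ∧ Cos (c w) (MulAut.conj x • Ez) F Ez F := by
    intro w hw hwE
    obtain ⟨x, hx, -, hn, -⟩ := h.exists_near hw hwE
    have hle : MulAut.conj x • Ez ≤ MulAut.conj x • EE V F := conj_le_iff.2 inf_le_left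
    refine ⟨x, hx, fun f hf hc => hn.inj f (hle hf) hc,
      ⟨fun a ha => hcomm w hw a (hconjZ x hx ha), fun a ha b hb => ?_⟩⟩
    rw [h.c_iff hw (hZW1 (hconjZ x hx ha)) (hZW1 (hconjZ x hx hb))]
    refine ⟨fun hc => hn.inj _ (hle (mul_mem (inv_mem ha) hb)) hc, fun hc => ?_⟩
    have h1 : w * (a⁻¹ * b) = a⁻¹ * b * w := (F_comm hc (h.V_le_X hw)).symm
    rw [c, h1, mul_inv_cancel_right, mul_inv_cancel]
    exact one_mem _
  have hFx : ∀ x ∈ X, F ≤ MulAut.conj x • Ez := by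
    intro x hx
    have := conj_le_iff (g := x) |>.2 hFE
    rwa [conj_eq_of_cent hx] at this
  have hnotle : ∀ x ∈ X, ¬ MulAut.conj x • Ez ≤ F := by
    intro x hx h1
    have h2 : Ez ≤ MulAut.conj x⁻¹ • F := by
      have := conj_le_iff (g := x⁻¹) |>.2 h1
      rwa [conj_conj, inv_mul_cancel, map_one, one_smul] at this
    rw [conj_eq_of_cent (inv_mem hx)] at h2
    exact absurd h2 (not_le_of_gt hlt)
  -- `C_V(ZE) = E`
  have hCV : V ⊓ centralizer (ZE : Set G) = EE V F := by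
    apply le_antisymm
    · intro w hw
      obtain ⟨hw1, hw2⟩ := mem_inf.1 hw
      by_contra hwE
      obtain ⟨x, hx, hi, -⟩ := hcos w hw1 hwE
      refine hnotle x hx fun f hf => hi f hf ?_
      have h1 := mem_centralizer_iff.1 hw2 f (hconjZ x hx hf)
      rw [c, ← h1, mul_inv_cancel_right, mul_inv_cancel]
      exact one_mem _
    · refine le_inf inf_le_left ?_
      exact comm_symm (comm_mono hZW2 le_rfl E_le_W)
  have hnc : ¬ ZE ≤ centralizer (V : Set G) := by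
    intro h1
    obtain ⟨w, hw, hwE⟩ := h.exists_not_mem
    have h2 : w ∈ V ⊓ centralizer (ZE : Set G) := mem_inf.2 ⟨hw, comm_symm h1 hw⟩
    rw [hCV] at h2
    exact hwE h2
  have k1 := h.noff' (hZW1.trans h.W_norm_V) hZab hZsq hnc
  rw [← inf_relIndex_left V, hCV] at k1
  -- the character
  obtain ⟨t, ht, htF⟩ := SetLike.not_le_iff_exists.1 (not_le_of_gt hlt)
  obtain ⟨ξ, hξF, hξt⟩ := exists_char (T := Ez) (D := F) (fun a ha b hb => h.V_comm (hEzV ha) (hEzV hb))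
    ht htF
  have k2 : (EE V F).relIndex V ≤ (centralizer (V : Set G)).relIndex ZE := by
    refine pr.relIndex_le ξ ?_ ?_ ?_
    · intro a ha b hb
      rw [comm_of_le_centralizer hZab ha hb, mul_inv_cancel_right, mul_inv_cancel]
      exact one_mem _
    · intro a ha n hn hnV
      have h1 : a * n * a⁻¹ * n⁻¹ = 1 := by
        rw [mem_centralizer_iff.1 hnV a ha, mul_inv_cancel_right, mul_inv_cancel]
      have h2 : (⟨a * n * a⁻¹ * n⁻¹, pr.comm a ha n hn⟩ : Ez) = 1 := Subtype.ext h1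
      rw [h2, map_one]
    · intro w hw hw1
      by_contra hwE
      obtain ⟨x, hx, -, hc⟩ := hcos w hw hwE
      have hcard : F.relIndex Ez ≤ F.relIndex (MulAut.conj x • Ez) := by
        have e1 := card_mul_relIndex' hFE
        have e2 := card_mul_relIndex' (hFx x hx)
        rw [Choice.card_conj, ← e1] at e2
        exact (Nat.eq_of_mul_eq_mul_left Nat.card_pos e2).ge
      obtain ⟨f, hf, hft⟩ := hc.surj hcard ht
      have h2 := hw1 f (hconjZ x hx hf)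
      have h3 := hξF _ (mul_mem (inv_mem (hcomm w hw f (hconjZ x hx hf))) ht) hft
      apply hξt
      have e : (⟨t, ht⟩ : Ez) = ⟨w * f * w⁻¹ * f⁻¹, hcomm w hw f (hconjZ x hx hf)⟩ *
          ⟨(w * f * w⁻¹ * f⁻¹)⁻¹ * t, mul_mem (inv_mem (hcomm w hw f (hconjZ x hx hf))) ht⟩ :=
        Subtype.ext (by push_cast; group)
      rw [e, map_mul, h2, one_mul]
      exact h3
  exact absurd k2 (Nat.not_le.2 k1)

/-- **(6)** `C_V(W) = F`. -/
theorem cent_VW [Finite G] : V ⊓ centralizer (WW V F : Set G) = F := by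
  apply le_antisymm
  · intro v hv
    obtain ⟨hv1, hv2⟩ := mem_inf.1 hv
    rw [← h.cent_EW]
    refine mem_inf.2 ⟨?_, hv2⟩
    by_contra hvE
    refine absurd ?_ (not_le_of_gt h.F_lt_E)
    intro e he
    obtain ⟨s, hs, hse⟩ := h.surj hv1 hvE he
    have h1 : c v s = 1 := by
      rw [c, ← mem_centralizer_iff.1 hv2 s hs, mul_inv_cancel_right, mul_inv_cancel]
    rw [h1, one_mul] at hse
    have := inv_mem hse
    rwa [inv_inv] at this
  · exact le_inf h.F_le_V (comm_symm W_le_X)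

/-! ### the form `β_w (s, t) = [w, s, t]` -/

/-- factors in `F` do not matter -/
theorem c_F_mul {w u f : G} (hw : w ∈ V) (hu : u ∈ WW V F) (hf : f ∈ F) : c w (f * u) = c w u := by
  have h1 : f * w = w * f := F_comm hf (h.V_le_X hw)
  have h2 : f * c w u = c w u * f := F_comm hf (h.V_le_X (h.c_memV hw hu))
  calc c w (f * u) = w * f * u * w⁻¹ * u⁻¹ * f⁻¹ := by rw [c]; group
    _ = f * (w * u * w⁻¹ * u⁻¹) * f⁻¹ := by rw [← h1]; group
    _ = c w u * f * f⁻¹ := by rw [← c, h2]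
    _ = c w u := by rw [mul_inv_cancel_right]

/-- `β` is symmetric. -/
theorem beta_comm [Finite G] {w s t : G} (hw : w ∈ V) (hs : s ∈ WW V F) (ht : t ∈ WW V F) :
    c (c w s) t = c (c w t) s := by
  have h1 := h.c_mul_right hw hs ht
  have h2 := h.c_mul_right hw ht hs
  have h3 : c w (s * t) = c w (t * s) := by
    have e : s * t = c s t * (t * s) := by rw [c]; group
    rw [e, h.c_F_mul hw (mul_mem ht hs) (h.comm_WW hs ht)]
  rw [h1, h2, h.V_comm (h.c_memV hw hs) (h.c_memV hw ht)] at h3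
  exact (mul_left_cancel h3).symm

/-- `β` is alternating. -/
theorem beta_self [Finite G] {w s : G} (hw : w ∈ V) (hs : s ∈ WW V F) : c (c w s) s = 1 := by
  rw [c_def, h.c_comm hw hs, mul_inv_cancel_right, mul_inv_cancel]

theorem beta_memF [Finite G] {w s t : G} (hw : w ∈ V) (hs : s ∈ WW V F) (ht : t ∈ WW V F) :
    c (c w s) t ∈ F := h.comm_EW (h.c_memE hw hs) ht

/-- `[e, s t] = [e, s] [e, t]` for `e ∈ E` -/
theorem c_mul_right' [Finite G] {e s t : G} (he : e ∈ EE V F) (hs : s ∈ WW V F) (ht : t ∈ WW V F) :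
    c e (s * t) = c e s * c e t := by
  rw [h.c_mul_right he.1 hs ht, c_F (h.comm_EW he ht) hs, mul_one]

/-- `β_w (s s', t) = β_w (s, t) β_w (s', t)` -/
theorem beta_mul_left [Finite G] {w s s' t : G} (hw : w ∈ V) (hs : s ∈ WW V F) (hs' : s' ∈ WW V F)
    (ht : t ∈ WW V F) : c (c w (s * s')) t = c (c w s) t * c (c w s') t := by
  have hf : c (c w s') s ∈ F := h.beta_memF hw hs' hs
  rw [h.c_mul_right hw hs hs',
    h.c_mul_left (mul_mem (h.c_memV hw hs) (h.c_memV hw hs')) (h.F_le_V hf) ht, c_F hf ht, mul_one,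
    h.c_mul_left (h.c_memV hw hs) (h.c_memV hw hs') ht]

/-- `β_w (s, t t') = β_w (s, t) β_w (s, t')` -/
theorem beta_mul_right [Finite G] {w s t t' : G} (hw : w ∈ V) (hs : s ∈ WW V F) (ht : t ∈ WW V F)
    (ht' : t' ∈ WW V F) : c (c w s) (t * t') = c (c w s) t * c (c w s) t' :=
  h.c_mul_right' (h.c_memE hw hs) ht ht'

/-- `β_{w w'} = β_w β_{w'}` -/
theorem beta_mul [Finite G] {w w' s t : G} (hw : w ∈ V) (hw' : w' ∈ V) (hs : s ∈ WW V F)
    (ht : t ∈ WW V F) : c (c (w * w') s) t = c (c w s) t * c (c w' s) t := by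
  rw [h.c_mul_left hw hw' hs, h.c_mul_left (h.c_memV hw hs) (h.c_memV hw' hs) ht]

/-! ### (7) -/

omit h in
theorem NN_le_W : NN V F ≤ WW V F := inf_le_left

theorem E_le_NN : EE V F ≤ NN V F := le_inf E_le_W (comm_mono h.comm inf_le_left inf_le_left)

theorem F_le_NN : F ≤ NN V F := h.F_le_E.trans h.E_le_NN

/-- `s ∈ N ⟹ [w, s] ∈ F` for every `w ∈ V` -/
theorem c_mem_F [Finite G] {w s : G} (hw : w ∈ V) (hs : s ∈ NN V F) : c w s ∈ F := by
  rw [← h.cent_EW]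
  refine mem_inf.2 ⟨h.c_memE hw hs.1, ?_⟩
  rw [mem_centralizer_iff]
  intro t ht
  have h1 := h.beta_comm hw hs.1 ht
  have h2 : c (c w t) s = 1 := by
    rw [c_def, mem_centralizer_iff.1 hs.2 _ (h.c_memE hw ht), mul_inv_cancel_right, mul_inv_cancel]
  rw [h2] at h1
  calc t * c w s = (c (c w s) t)⁻¹ * (c w s * t) := by rw [c_def (c w s)]; group
    _ = c w s * t := by rw [h1, inv_one, one_mul]

/-- **(7)** for every `w ∈ V - E`: `[w, s] ∈ F ↔ s ∈ N`. -/
theorem c_mem_F_iff [Finite G] {w s : G} (hw : w ∈ V) (hwE : w ∉ EE V F) (hs : s ∈ WW V F) :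
    c w s ∈ F ↔ s ∈ NN V F := by
  refine ⟨fun h1 => mem_inf.2 ⟨hs, ?_⟩, fun h1 => h.c_mem_F hw h1⟩
  rw [mem_centralizer_iff]
  exact fun e he => h.comm_of_mem hw hwE hs h1 he

/-- **(7)** `N = {s ∈ W | [V, s] ≤ F}` -/
theorem mem_NN [Finite G] {s : G} : s ∈ NN V F ↔ s ∈ WW V F ∧ ∀ v ∈ V, c v s ∈ F := by
  refine ⟨fun h1 => ⟨h1.1, fun v hv => h.c_mem_F hv h1⟩, fun h1 => ?_⟩
  obtain ⟨w, hw, hwE⟩ := h.exists_not_mem
  exact (h.c_mem_F_iff hw hwE h1.1).1 (h1.2 w hw)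

theorem cos_NN [Finite G] {w : G} (hw : w ∈ V) (hwE : w ∉ EE V F) :
    Cos (c w) (WW V F) (NN V F) (EE V F) F where
  mem := fun _ hs => h.c_memE hw hs
  iff := fun a ha b hb => by
    rw [h.c_iff hw ha hb, h.c_mem_F_iff hw hwE (mul_mem (inv_mem ha) hb)]

/-- **(7)** `|W : N| = |E : F|` -/
theorem relIndex_NN [Finite G] : (NN V F).relIndex (WW V F) = F.relIndex (EE V F) := by
  obtain ⟨w, hw, hwE⟩ := h.exists_not_mem
  refine (h.cos_NN hw hwE).eq_of_surj fun e he => ?_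
  obtain ⟨s, hs, hse⟩ := h.surj hw hwE he
  refine ⟨s, hs, ?_⟩
  rw [h.inv (h.c_memV hw hs), ← h.inv he.1]
  exact hse

/-- `V` normalises `N`, and centralises `N / F`. -/
theorem V_norm_NN [Finite G] : V ≤ normalizer (NN V F : Set G) := by
  refine le_normalizer_of_comm fun v hv s hs => ?_
  exact h.F_le_NN (h.c_mem_F hv hs)

theorem W_norm_NN [Finite G] : WW V F ≤ normalizer (NN V F : Set G) := by
  refine le_normalizer_of_comm fun t ht s hs => ?_
  exact h.F_le_NN (h.comm_WW ht hs.1)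

end Hyp

end Cfsg.Agent.Omega.NOne.Flat

end

section


/-!
# THEOREM FLAT (text B4 #15506), part 3: (8)

`x ∈ X = C_G(F)` bad, `N = W ∩ C(E)`:
* `Hyp.conjE_inf_NN`: `E^x ∩ N = F`; `Hyp.E_inf_conjNN`: `E ∩ N^x = F`;
* `Hyp.exists_decomp`, `Hyp.indep`: `W / F = E / F + E^x / F + (N ∩ N^x) / F`;
* `Hyp.reg`: every `w ∈ V - E` is regular on `E E^x / F`;
* `Hyp.inf_o2_sup`: `V ∩ O₂(⟨V, V^x⟩) = E`;
* `Hyp.of_not_bad`: for `x ∈ X` not bad `E^x ∩ N > F` or `E ∩ N^x > F`.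
-/

set_option autoImplicit false

namespace Cfsg.Agent.Omega.NOne.Flat

open Subgroup Cfsg Cfsg.Agent.Omega.NoFF.Basic Cfsg.Agent.Omega.NOne.Frame
open Cfsg.Agent.Omega.NOne.NearFF (Near c c_def)
open Cfsg.Agent.ZN (o2)
open Cfsg.Agent.MinSimple.VModule
open scoped Pointwise

universe u

variable {G : Type u} [Group G]

theorem isPGroup_sup_of_le [Finite G] {A B C : Subgroup G} (hA : IsPGroup 2 A) (hC : IsPGroup 2 C)
    (hB : B ≤ C) (hn : A ≤ normalizer (C : Set G)) : IsPGroup 2 (A ⊔ B : Subgroup G) :=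
  (IsPGroup.to_sup_of_normal_right' hA hC hn).to_le (sup_le_sup_left hB _)

theorem normalizer_le_normalizer_centralizer (D : Subgroup G) :
    normalizer (D : Set G) ≤ normalizer (centralizer (D : Set G) : Set G) := by
  have key : ∀ a ∈ normalizer (D : Set G), ∀ z ∈ centralizer (D : Set G),
      a * z * a⁻¹ ∈ centralizer (D : Set G) := by
    intro a ha z hz
    rw [mem_centralizer_iff]
    intro d hd
    have h1 : a⁻¹ * d * a ∈ D := norm_mem' ha hd
    have h2 := mem_centralizer_iff.1 hz _ h1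
    calc d * (a * z * a⁻¹) = a * ((a⁻¹ * d * a) * z) * a⁻¹ := by group
      _ = a * (z * (a⁻¹ * d * a)) * a⁻¹ := by rw [h2]
      _ = a * z * a⁻¹ * d := by group
  intro a ha
  rw [mem_normalizer_iff]
  intro z
  refine ⟨key a ha z, fun h => ?_⟩
  have := key a⁻¹ (inv_mem ha) _ h
  have e : a⁻¹ * (a * z * a⁻¹) * a⁻¹⁻¹ = z := by group
  rwa [e] at this

theorem normalizer_le_normalizer_o2 (H : Subgroup G) :
    normalizer (H : Set G) ≤ normalizer (o2 H : Set G) := by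
  have hself : ∀ a ∈ normalizer (H : Set G), MulAut.conj a • H = H := by
    intro a ha
    ext z
    rw [mem_conj]
    constructor
    · intro hz
      have := norm_mem ha hz
      have e : a * (a⁻¹ * z * a) * a⁻¹ = z := by group
      rwa [e] at this
    · exact fun hz => norm_mem' ha hz
  intro a ha
  rw [mem_normalizer_iff]
  intro z
  constructor
  · intro hz
    have := Frame.conj_mem (g := a) hz
    rwa [o2_conj, hself a ha] at this
  · intro hz
    have := Frame.conj_mem (g := a⁻¹) hz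
    rw [o2_conj, hself _ (inv_mem ha)] at this
    have e : a⁻¹ * (a * z * a⁻¹) * a⁻¹⁻¹ = z := by group
    rwa [e] at this

theorem badX_inv {V : Subgroup G} {x : G} (hb : BadX V x) : BadX V x⁻¹ := by
  intro h1
  apply hb
  have h2 := Choice.isPGroup_conj h1 x
  rw [Subgroup.smul_sup, conj_conj, mul_inv_cancel, map_one, one_smul, sup_comm] at h2
  exact h2

namespace Hyp

variable {V F : Subgroup G} (h : Hyp V F)
include h

/-- `V` and `V^x` are contained in a 2-group if some `s ∈ E^x ∩ N` is not in `F`. -/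
theorem not_bad_of_mem [Finite G] {x : G} (hx : x ∈ centralizer (F : Set G)) {s : G}
    (hs : s ∈ MulAut.conj x • EE V F) (hsN : s ∈ NN V F) (hsF : s ∉ F) : ¬ BadX V x := by
  intro hb
  set D : Subgroup G := F ⊔ zpowers s with hD
  have hsD : s ∈ D := mem_sup_right (mem_zpowers s)
  have hFD : F < D := lt_of_le_of_ne le_sup_left fun h1 => hsF (h1 ▸ hsD)
  have hDV : D ≤ MulAut.conj x • V :=
    sup_le (h.F_le_conj hx) (zpowers_le.2 (conjE_le_conjV x hs))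
  have hDN : D ≤ NN V F := sup_le h.F_le_NN (zpowers_le.2 hsN)
  have hVD : V ≤ normalizer (D : Set G) := by
    refine le_normalizer_of_comm fun v hv d hd => ?_
    exact hFD.le (h.c_mem_F hv (hDN hd))
  have h1 := h.le_o2_of_lt' hx hFD hDV
  refine hb (isPGroup_sup_of_le h.V_isPGroup (ZN.isPGroup_o2 _) h1 ?_)
  exact hVD.trans ((normalizer_le_normalizer_centralizer D).trans (normalizer_le_normalizer_o2 _))

omit h in
theorem F_le_conjE (h : Hyp V F) {x : G} (hx : x ∈ centralizer (F : Set G)) : F ≤ MulAut.conj x • EE V F := by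
  have := conj_le_iff (g := x) |>.2 h.F_le_E
  rwa [conj_eq_of_cent hx] at this

/-- **(8)** `E^x ∩ N = F` for bad `x`. -/
theorem conjE_inf_NN [Finite G] {x : G} (hx : x ∈ centralizer (F : Set G)) (hb : BadX V x) :
    MulAut.conj x • EE V F ⊓ NN V F = F := by
  apply le_antisymm
  · intro s hs
    by_contra hsF
    exact h.not_bad_of_mem hx (mem_inf.1 hs).1 (mem_inf.1 hs).2 hsF hb
  · exact le_inf (h.F_le_conjE hx) h.F_le_NN

/-- **(8)** `E ∩ N^x = F` for bad `x`. -/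
theorem E_inf_conjNN [Finite G] {x : G} (hx : x ∈ centralizer (F : Set G)) (hb : BadX V x) :
    EE V F ⊓ MulAut.conj x • NN V F = F := by
  have h1 := h.conjE_inf_NN (inv_mem hx) (badX_inv hb)
  have h2 := congrArg (fun A : Subgroup G => MulAut.conj x • A) h1
  simp only [Subgroup.smul_inf (MulAut.conj x) (MulAut.conj x⁻¹ • EE V F) (NN V F), conj_conj,
    mul_inv_cancel, map_one, one_smul, conj_eq_of_cent hx] at h2
  exact h2

omit h in
theorem conj_NN {x : G} (hx : x ∈ centralizer (F : Set G)) :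
    MulAut.conj x • NN V F = WW V F ⊓ centralizer ((MulAut.conj x • EE V F : Subgroup G) : Set G) := by
  rw [NN, Subgroup.smul_inf, conj_W hx, conj_centralizer]

theorem conjE_le_conjNN {x : G} (_hx : x ∈ centralizer (F : Set G)) :
    MulAut.conj x • EE V F ≤ MulAut.conj x • NN V F := conj_le_iff.2 h.E_le_NN

/-- `N^x = {s ∈ W | [V^x, s] ≤ F}` -/
theorem mem_conjNN [Finite G] {x : G} (hx : x ∈ centralizer (F : Set G)) {s : G} :
    s ∈ MulAut.conj x • NN V F ↔ s ∈ WW V F ∧ ∀ v ∈ MulAut.conj x • V, c v s ∈ F := by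
  rw [mem_conj, h.mem_NN]
  have hW : x⁻¹ * s * x ∈ WW V F ↔ s ∈ WW V F := by
    constructor
    · intro h1
      have := conj_mem_W hx h1
      have e : x * (x⁻¹ * s * x) * x⁻¹ = s := by group
      rwa [e] at this
    · intro h1
      have := conj_mem_W (inv_mem hx) h1
      rwa [inv_inv] at this
  rw [hW]
  refine and_congr_right fun _ => ⟨fun h1 v hv => ?_, fun h1 v hv => ?_⟩
  · rw [mem_conj] at hv
    have h2 := norm_mem (X_norm_F hx) (h1 _ hv)
    have e : x * c (x⁻¹ * v * x) (x⁻¹ * s * x) * x⁻¹ = c v s := by rw [c, c]; group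
    rwa [e] at h2
  · have h2 := h1 _ (Frame.conj_mem (g := x) hv)
    have h3 := norm_mem' (X_norm_F hx) h2
    have e : x⁻¹ * c (x * v * x⁻¹) s * x = c v (x⁻¹ * s * x) := by rw [c, c]; group
    rwa [e] at h3

/-- **(8)** `W = E^x N` for bad `x` -/
theorem exists_conjE_mul [Finite G] {x : G} (hx : x ∈ centralizer (F : Set G)) (hb : BadX V x) {s : G}
    (hs : s ∈ WW V F) : ∃ f ∈ MulAut.conj x • EE V F, f⁻¹ * s ∈ NN V F := by
  have hc : Cos id (MulAut.conj x • EE V F) F (WW V F) (NN V F) :=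
    { mem := fun a ha => conjE_le_W hx ha
      iff := fun a ha b hb' => by
        refine ⟨fun h1 => ?_, fun h1 => h.F_le_NN h1⟩
        rw [← h.conjE_inf_NN hx hb]
        exact mem_inf.2 ⟨mul_mem (inv_mem ha) hb', h1⟩ }
  refine hc.surj ?_ hs
  rw [h.relIndex_NN]
  have e1 := card_mul_relIndex' h.F_le_E
  have e2 := card_mul_relIndex' (h.F_le_conjE hx)
  rw [Choice.card_conj, ← e1] at e2
  exact (Nat.eq_of_mul_eq_mul_left Nat.card_pos e2).ge

/-- **(8)** `W = E N^x` for bad `x` -/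
theorem exists_E_mul [Finite G] {x : G} (hx : x ∈ centralizer (F : Set G)) (hb : BadX V x) {s : G}
    (hs : s ∈ WW V F) : ∃ e ∈ EE V F, e⁻¹ * s ∈ MulAut.conj x • NN V F := by
  have hs' : x⁻¹ * s * x ∈ WW V F := by
    have := conj_mem_W (inv_mem hx) hs
    rwa [inv_inv] at this
  obtain ⟨f, hf, hfn⟩ := h.exists_conjE_mul (inv_mem hx) (badX_inv hb) hs'
  rw [mem_conj, inv_inv] at hf
  refine ⟨x * f * x⁻¹, hf, ?_⟩
  rw [mem_conj]
  have e : x⁻¹ * ((x * f * x⁻¹)⁻¹ * s) * x = f⁻¹ * (x⁻¹ * s * x) := by group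
  rwa [e]

/-- **(8)** `W = E^x E (N ∩ N^x)` for bad `x` -/
theorem exists_decomp [Finite G] {x : G} (hx : x ∈ centralizer (F : Set G)) (hb : BadX V x) {s : G}
    (hs : s ∈ WW V F) : ∃ f ∈ MulAut.conj x • EE V F, ∃ e ∈ EE V F, ∃ n ∈ NN V F ⊓ MulAut.conj x • NN V F,
      s = f * e * n := by
  obtain ⟨f, hf, hn⟩ := h.exists_conjE_mul hx hb hs
  obtain ⟨e, he, hn'⟩ := h.exists_E_mul hx hb hn.1
  refine ⟨f, hf, e, he, e⁻¹ * (f⁻¹ * s), mem_inf.2 ⟨?_, hn'⟩, by group⟩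
  exact mul_mem (inv_mem (h.E_le_NN he)) hn

/-- **(8)** the sum is direct modulo `F` -/
theorem indep [Finite G] {x : G} (hx : x ∈ centralizer (F : Set G)) (hb : BadX V x) {f e n : G}
    (hf : f ∈ MulAut.conj x • EE V F) (he : e ∈ EE V F) (hn : n ∈ NN V F ⊓ MulAut.conj x • NN V F)
    (hF : f * e * n ∈ F) : f ∈ F ∧ e ∈ F ∧ n ∈ F := by
  obtain ⟨hn1, hn2⟩ := mem_inf.1 hn
  have h1 : f ∈ F := by
    rw [← h.conjE_inf_NN hx hb]
    refine mem_inf.2 ⟨hf, ?_⟩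
    have e1 : f = (f * e * n) * (e * n)⁻¹ := by group
    rw [e1]
    exact mul_mem (h.F_le_NN hF) (inv_mem (mul_mem (h.E_le_NN he) hn1))
  have h2 : e * n ∈ F := by
    have := mul_mem (inv_mem h1) hF
    have e1 : f⁻¹ * (f * e * n) = e * n := by group
    rwa [e1] at this
  have h3 : e ∈ F := by
    rw [← h.E_inf_conjNN hx hb]
    refine mem_inf.2 ⟨he, ?_⟩
    have e1 : e = (e * n) * n⁻¹ := by group
    rw [e1]
    exact mul_mem (h.conjE_le_conjNN hx (h.F_le_conjE hx h2)) (inv_mem hn2)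
  exact ⟨h1, h3, (mul_mem_cancel_left h3).1 h2⟩

/-- **(8)** every `w ∈ V - E` is regular on `E E^x / F`: `C(w) = E / F`. -/
theorem reg [Finite G] {x w e f : G} (hx : x ∈ centralizer (F : Set G)) (hb : BadX V x) (hw : w ∈ V)
    (hwE : w ∉ EE V F) (he : e ∈ EE V F) (hf : f ∈ MulAut.conj x • EE V F) (hc : c w (e * f) ∈ F) :
    f ∈ F := by
  have h1 := (h.c_mem_F_iff hw hwE (mul_mem (E_le_W he) (conjE_le_W hx hf))).1 hc
  rw [← h.conjE_inf_NN hx hb]
  exact mem_inf.2 ⟨hf, (mul_mem_cancel_left (h.E_le_NN he)).1 h1⟩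

/-- `[V^x, W] ≤ E^x` -/
theorem comm_conjVW {x v s : G} (hx : x ∈ centralizer (F : Set G)) (hv : v ∈ MulAut.conj x • V)
    (hs : s ∈ WW V F) : c v s ∈ MulAut.conj x • EE V F := by
  rw [mem_conj] at hv ⊢
  have hs' : x⁻¹ * s * x ∈ WW V F := by
    have := conj_mem_W (inv_mem hx) hs
    rwa [inv_inv] at this
  have h1 := h.comm_VW hv hs'
  have e : x⁻¹ * c v s * x = c (x⁻¹ * v * x) (x⁻¹ * s * x) := by rw [c, c]; group
  rwa [e]

theorem conjV_le_X {x : G} (hx : x ∈ centralizer (F : Set G)) :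
    MulAut.conj x • V ≤ centralizer (F : Set G) := Choice.conj_le_of_mem h.V_le_X hx

omit h in
theorem EEx_le_W {x : G} (hx : x ∈ centralizer (F : Set G)) :
    EE V F ⊔ MulAut.conj x • EE V F ≤ WW V F := sup_le E_le_W (conjE_le_W hx)

/-- `⟨V, V^x⟩` normalises `E E^x`. -/
theorem sup_norm_EEx {x : G} (hx : x ∈ centralizer (F : Set G)) :
    V ⊔ MulAut.conj x • V ≤ normalizer ((EE V F ⊔ MulAut.conj x • EE V F : Subgroup G) : Set G) := by
  refine sup_le ?_ ?_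
  · refine le_normalizer_of_comm fun v hv s hs => mem_sup_left ?_
    exact h.comm_VW hv (EEx_le_W hx hs)
  · refine le_normalizer_of_comm fun v hv s hs => mem_sup_right ?_
    exact h.comm_conjVW hx hv (EEx_le_W hx hs)

omit h in
theorem W_isPGroup [Finite G] : IsPGroup 2 (WW V F) := (ZN.isPGroup_o2 _).to_le W_le_R

/-- `E E^x` as a product -/
theorem mem_EEx [Finite G] {x s : G} (hx : x ∈ centralizer (F : Set G))
    (hs : s ∈ EE V F ⊔ MulAut.conj x • EE V F) :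
    ∃ e ∈ EE V F, ∃ f ∈ MulAut.conj x • EE V F, s = e * f := by
  have hn : MulAut.conj x • EE V F ≤ normalizer (EE V F : Set G) := by
    refine le_normalizer_of_comm fun f hf e he => ?_
    have h1 := inv_mem (h.F_le_E (h.comm_EE hx he hf))
    have e1 : (c e f)⁻¹ = f * e * f⁻¹ * e⁻¹ := by rw [c]; group
    rwa [e1] at h1
  have h3 : s ∈ ((EE V F ⊔ MulAut.conj x • EE V F : Subgroup G) : Set G) := hs
  rw [Subgroup.coe_mul_of_right_le_normalizer_left _ _ hn] at h3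
  obtain ⟨e, he, f, hf, rfl⟩ := h3
  exact ⟨e, he, f, hf, rfl⟩

/-- a fixed point of a 2-subgroup `P ≤ ⟨V, V^x⟩` on `E E^x / F` -/
theorem exists_fix [Finite G] {x : G} (hx : x ∈ centralizer (F : Set G)) {P : Subgroup G}
    (hP : IsPGroup 2 P) (hPL : P ≤ V ⊔ MulAut.conj x • V) :
    ∃ e ∈ EE V F, ∃ f ∈ MulAut.conj x • EE V F, e * f ∉ F ∧ ∀ y ∈ P, c y (e * f) ∈ F := by
  have : Fact (Nat.Prime 2) := ⟨Nat.prime_two⟩
  set M : Subgroup G := EE V F ⊔ MulAut.conj x • EE V F with hM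
  have hMn : P ≤ normalizer (M : Set G) := hPL.trans (h.sup_norm_EEx hx)
  have hMX : M ≤ centralizer (F : Set G) := (EEx_le_W hx).trans W_le_X
  have hLX : V ⊔ MulAut.conj x • V ≤ centralizer (F : Set G) := sup_le h.V_le_X (h.conjV_le_X hx)
  have hM2 : IsPGroup 2 M := W_isPGroup.to_le (EEx_le_W hx)
  have hY : IsPGroup 2 (P ⊔ M : Subgroup G) := IsPGroup.to_sup_of_normal_right' hP hM2 hMn
  have hYn : P ⊔ M ≤ normalizer (M : Set G) := sup_le hMn le_normalizer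
  have hYX : P ⊔ M ≤ centralizer (F : Set G) := sup_le (hPL.trans hLX) hMX
  obtain ⟨e0, he0, he0F⟩ := SetLike.not_le_iff_exists.1 (not_le_of_gt h.F_lt_E)
  obtain ⟨n, hn, hnF, hfix⟩ := GTwoFour.Tools.exists_fixed_mod (M := F) hY le_sup_right
    (fun y hy n hn => norm_mem (hYn hy) hn)
    (fun y hy m hm => norm_mem (X_norm_F (hYX hy)) hm) ⟨e0, mem_sup_left he0, he0F⟩
  obtain ⟨e, he, f, hf, rfl⟩ := h.mem_EEx hx hn
  exact ⟨e, he, f, hf, hnF, fun y hy => hfix y (mem_sup_left hy)⟩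

/-- **(8)** `V ∩ O₂(⟨V, V^x⟩) = E` for bad `x`. -/
theorem inf_o2_sup [Finite G] {x : G} (hx : x ∈ centralizer (F : Set G)) (hb : BadX V x) :
    V ⊓ o2 (V ⊔ MulAut.conj x • V) = EE V F := by
  have hLX : V ⊔ MulAut.conj x • V ≤ centralizer (F : Set G) := sup_le h.V_le_X (h.conjV_le_X hx)
  apply le_antisymm
  · intro v hv
    obtain ⟨hv1, hv2⟩ := mem_inf.1 hv
    by_contra hvE
    have hx2 : IsPGroup 2 (MulAut.conj x • V : Subgroup G) := Choice.isPGroup_conj h.V_isPGroup x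
    have hP : IsPGroup 2 (o2 (V ⊔ MulAut.conj x • V) ⊔ MulAut.conj x • V : Subgroup G) :=
      IsPGroup.to_sup_of_normal_left' (ZN.isPGroup_o2 _) hx2
        (le_sup_right.trans (le_normalizer_o2 _))
    obtain ⟨e, he, f, hf, hF, hfix⟩ := h.exists_fix hx hP (sup_le (ZN.o2_le _) le_sup_right)
    have h1 : f ∈ F := h.reg hx hb hv1 hvE he hf (hfix v (mem_sup_left hv2))
    have h2 : e * f ∈ MulAut.conj x • NN V F := by
      rw [h.mem_conjNN hx]
      exact ⟨mul_mem (E_le_W he) (conjE_le_W hx hf), fun v' hv' => hfix v' (mem_sup_right hv')⟩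
    have h3 : e ∈ F := by
      rw [← h.E_inf_conjNN hx hb]
      refine mem_inf.2 ⟨he, ?_⟩
      exact (mul_mem_cancel_right (h.conjE_le_conjNN hx hf)).1 h2
    exact hF (mul_mem h3 h1)
  · refine le_inf inf_le_left ?_
    have h1 : o2 (centralizer (F : Set G)) ⊓ (V ⊔ MulAut.conj x • V) ≤ o2 (V ⊔ MulAut.conj x • V) := by
      refine le_o2 inf_le_right ((ZN.isPGroup_o2 _).to_le inf_le_left) ?_
      intro l hl
      have h2 : l ∈ normalizer (o2 (centralizer (F : Set G)) : Set G) := le_normalizer_o2 _ (hLX hl)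
      rw [mem_normalizer_iff] at h2 ⊢
      intro z
      rw [mem_inf, mem_inf, h2 z]
      refine and_congr_right fun _ => ⟨fun hz => mul_mem (mul_mem hl hz) (inv_mem hl), fun hz => ?_⟩
      have := mul_mem (mul_mem (inv_mem hl) hz) hl
      have e : l⁻¹ * (l * z * l⁻¹) * l = z := by group
      rwa [e] at this
    exact (le_inf inf_le_right (inf_le_left.trans le_sup_left)).trans h1

/-- **(8)** for `x ∈ X` not bad, `E^x ∩ N > F` or `E ∩ N^x > F`. -/
theorem of_not_bad [Finite G] {x : G} (hx : x ∈ centralizer (F : Set G)) (hb : ¬ BadX V x) :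
    (∃ f ∈ MulAut.conj x • EE V F, f ∈ NN V F ∧ f ∉ F) ∨
      ∃ e ∈ EE V F, e ∈ MulAut.conj x • NN V F ∧ e ∉ F := by
  have h2 : IsPGroup 2 (V ⊔ MulAut.conj x • V : Subgroup G) := not_not.1 hb
  obtain ⟨e, he, f, hf, hF, hfix⟩ := h.exists_fix hx h2 le_rfl
  have hW : e * f ∈ WW V F := mul_mem (E_le_W he) (conjE_le_W hx hf)
  have h1 : e * f ∈ NN V F := h.mem_NN.2 ⟨hW, fun v hv => hfix v (mem_sup_left hv)⟩
  have h3 : e * f ∈ MulAut.conj x • NN V F :=
    (h.mem_conjNN hx).2 ⟨hW, fun v hv => hfix v (mem_sup_right hv)⟩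
  have h4 : f ∈ NN V F := (mul_mem_cancel_left (h.E_le_NN he)).1 h1
  have h5 : e ∈ MulAut.conj x • NN V F := (mul_mem_cancel_right (h.conjE_le_conjNN hx hf)).1 h3
  by_cases hfF : f ∈ F
  · exact Or.inr ⟨e, he, h5, fun heF => hF (mul_mem heF hfF)⟩
  · exact Or.inl ⟨f, hf, h4, hfF⟩

end Hyp

end Cfsg.Agent.Omega.NOne.Flat

end

section


/-!
# THEOREM FLAT (text B4 #15506), part 4: (9)

`s ∈ W - N`:
* `Hyp.mem_E_of_c`: `w ↦ [w, s] F` is injective on `V / E`;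
* `Hyp.relIndex_mul_le`: `|V : E| |E : C_E(s)| ≤ |E : F|`; `Hyp.relIndex_cent`: `|V : C_V(s)| = |V : E| |E : C_E(s)|`;
  `Hyp.relIndex_lt`: `|V : E| < |E : F|`;
* `Hyp.selfadj`: `θ_a⁻¹ θ_b` is self-adjoint;
* `Hyp.NN_le_cent`: `N ≤ C(V)` if `V ≤ E O²(⟨V, V^x⟩)` for a bad `x`.
-/

set_option autoImplicit false

namespace Cfsg.Agent.Omega.NOne.Flat

open Subgroup Cfsg Cfsg.Agent.Omega.NoFF.Basic Cfsg.Agent.Omega.NOne.Frame
open Cfsg.Agent.Omega.NOne.NearFF (Near c c_def)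
open Cfsg.Agent.ZN (o2)
open Cfsg.Agent.MinSimple.VModule
open scoped Pointwise

universe u

variable {G : Type u} [Group G]

namespace Hyp

variable {V F : Subgroup G} (h : Hyp V F)
include h

/-- **(9)** `w ↦ [w, s] F` is injective on `V / E` for `s ∈ W - N`. -/
theorem mem_E_of_c [Finite G] {w s : G} (hw : w ∈ V) (hs : s ∈ WW V F) (hsN : s ∉ NN V F)
    (hc : c w s ∈ F) : w ∈ EE V F := by
  by_contra hwE
  exact hsN ((h.c_mem_F_iff hw hwE hs).1 hc)

theorem c_inv_left {a s : G} (ha : a ∈ V) (hs : s ∈ WW V F) : c a⁻¹ s = (c a s)⁻¹ := by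
  rw [h.inv ha, h.inv (h.c_memV ha hs)]

theorem cos_V [Finite G] {s : G} (hs : s ∈ WW V F) (hsN : s ∉ NN V F) :
    Cos (fun w => c w s) V (EE V F) (EE V F ⊓ centralizer {s}) F where
  mem := fun w hw => mem_inf.2 ⟨h.c_memE hw hs, by
    rw [mem_centralizer_singleton_iff]; exact h.c_comm hw hs⟩
  iff := fun a ha b hb => by
    rw [← h.c_inv_left ha hs, ← h.c_mul_left (inv_mem ha) hb hs]
    exact ⟨fun h1 => h.mem_E_of_c (mul_mem (inv_mem ha) hb) hs hsN h1, fun h1 => h.comm_EW h1 hs⟩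

omit h in
theorem F_le_cent {s : G} (hs : s ∈ WW V F) : F ≤ centralizer {s} := by
  intro f hf
  rw [mem_centralizer_singleton_iff]
  exact F_comm hf (W_le_X hs)

/-- **(9)** `|V : E| |E : C_E(s)| ≤ |E : F|` for `s ∈ W - N` -/
theorem relIndex_mul_le [Finite G] {s : G} (hs : s ∈ WW V F) (hsN : s ∉ NN V F) :
    (EE V F).relIndex V * (centralizer {s}).relIndex (EE V F) ≤ F.relIndex (EE V F) := by
  have h1 := (h.cos_V hs hsN).le
  have h2 := relIndex_mul_relIndex F (EE V F ⊓ centralizer {s}) (EE V F)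
    (le_inf h.F_le_E (F_le_cent hs)) inf_le_left
  rw [inf_relIndex_left] at h2
  rw [← h2]
  exact Nat.mul_le_mul_right _ h1

/-- `C_V(s) ≤ E` for `s ∈ W - N` -/
theorem cent_le_E [Finite G] {s : G} (hs : s ∈ WW V F) (hsN : s ∉ NN V F) :
    V ⊓ centralizer {s} = EE V F ⊓ centralizer {s} := by
  apply le_antisymm
  · intro w hw
    obtain ⟨hw1, hw2⟩ := mem_inf.1 hw
    refine mem_inf.2 ⟨h.mem_E_of_c hw1 hs hsN ?_, hw2⟩
    rw [c, mem_centralizer_singleton_iff.1 hw2, mul_inv_cancel_right, mul_inv_cancel]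
    exact one_mem _
  · exact inf_le_inf_right _ inf_le_left

/-- **(9)** `|V : C_V(s)| = |V : E| |E : C_E(s)|` -/
theorem relIndex_cent [Finite G] {s : G} (hs : s ∈ WW V F) (hsN : s ∉ NN V F) :
    (centralizer {s}).relIndex V = (EE V F).relIndex V * (centralizer {s}).relIndex (EE V F) := by
  have h1 := relIndex_mul_relIndex (EE V F ⊓ centralizer {s}) (EE V F) V inf_le_left inf_le_left
  rw [inf_relIndex_left] at h1
  rw [← inf_relIndex_left V (centralizer {s}), h.cent_le_E hs hsN, ← h1, mul_comm]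

/-- **(9)** `|V : C_V(s)| ≤ |E : F|` -/
theorem relIndex_cent_le [Finite G] {s : G} (hs : s ∈ WW V F) (hsN : s ∉ NN V F) :
    (centralizer {s}).relIndex V ≤ F.relIndex (EE V F) := by
  rw [h.relIndex_cent hs hsN]
  exact h.relIndex_mul_le hs hsN

theorem exists_not_mem_NN [Finite G] : ∃ s ∈ WW V F, s ∉ NN V F := by
  by_contra hall
  push Not at hall
  have h1 : (NN V F).relIndex (WW V F) = 1 := relIndex_eq_one.2 hall
  rw [h.relIndex_NN, relIndex_eq_one] at h1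
  exact absurd h1 (not_le_of_gt h.F_lt_E)

omit h in
theorem two_le_relIndex [Finite G] {s : G} (hs : s ∈ WW V F) (hsN : s ∉ NN V F) :
    2 ≤ (centralizer {s}).relIndex (EE V F) := by
  have h0 : (centralizer {s}).relIndex (EE V F) ≠ 0 := index_ne_zero_of_finite
  have h1 : (centralizer {s}).relIndex (EE V F) ≠ 1 := by
    rw [Ne, relIndex_eq_one]
    intro hle
    apply hsN
    refine mem_inf.2 ⟨hs, ?_⟩
    rw [mem_centralizer_iff]
    exact fun e he => mem_centralizer_singleton_iff.1 (hle he)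
  omega

/-- **(9)** `|V : E| < |E : F|` -/
theorem relIndex_lt [Finite G] : (EE V F).relIndex V < F.relIndex (EE V F) := by
  obtain ⟨s, hs, hsN⟩ := h.exists_not_mem_NN
  have h1 := h.relIndex_mul_le hs hsN
  have h2 := two_le_relIndex hs hsN
  have h3 : (EE V F).relIndex V ≠ 0 := index_ne_zero_of_finite
  nlinarith [Nat.pos_of_ne_zero h3]

/-! ### the maps `θ_a : W / N → E / F`, `s ↦ [a, s] F` -/

/-- the form `[e, t]` on `E / F × W / N` -/
theorem c_congr_left [Finite G] {e e' t : G} (he : e ∈ V) (he' : e' ∈ V) (ht : t ∈ WW V F)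
    (hee : e⁻¹ * e' ∈ F) : c e t = c e' t := by
  have h1 : e' = e * (e⁻¹ * e') := by group
  rw [h1, h.c_mul_left he (mul_mem (inv_mem he) he') ht, c_F hee ht, mul_one]

theorem c_congr_right [Finite G] {e t t' : G} (he : e ∈ EE V F) (ht : t ∈ WW V F) (ht' : t' ∈ WW V F)
    (htt : t⁻¹ * t' ∈ NN V F) : c e t = c e t' := by
  have h1 : t' = t * (t⁻¹ * t') := by group
  have h2 : c e (t⁻¹ * t') = 1 := by
    rw [c, mem_centralizer_iff.1 (mem_inf.1 htt).2 e he, mul_inv_cancel_right, mul_inv_cancel]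
  rw [h1, h.c_mul_right' he ht (mul_mem (inv_mem ht) ht'), h2, mul_one]

/-- **(9)** `θ_a⁻¹ θ_b` is self-adjoint with respect to `β_a`. -/
theorem selfadj [Finite G] {a b s s' t t' : G} (ha : a ∈ V) (hb : b ∈ V) (hs : s ∈ WW V F)
    (hs' : s' ∈ WW V F) (ht : t ∈ WW V F) (ht' : t' ∈ WW V F) (h1 : (c a t)⁻¹ * c b s ∈ F)
    (h2 : (c a t')⁻¹ * c b s' ∈ F) : c (c a t) s' = c (c a s) t' := by
  rw [h.c_congr_left (h.c_memV ha ht) (h.c_memV hb hs) hs' h1, h.beta_comm hb hs hs',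
    ← h.c_congr_left (h.c_memV ha ht') (h.c_memV hb hs') hs h2, h.beta_comm ha ht' hs]

/-- the radical of `β_a` on `W` is `N` for `a ∈ V - E` -/
theorem beta_eq_one_iff [Finite G] {a s : G} (ha : a ∈ V) (haE : a ∉ EE V F) (hs : s ∈ WW V F) :
    (∀ t ∈ WW V F, c (c a s) t = 1) ↔ s ∈ NN V F := by
  rw [← h.c_mem_F_iff ha haE hs]
  constructor
  · intro h1
    rw [← h.cent_EW]
    refine mem_inf.2 ⟨h.c_memE ha hs, ?_⟩
    rw [mem_centralizer_iff]
    intro t ht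
    have h2 := h1 t ht
    calc t * c a s = (c (c a s) t)⁻¹ * (c a s * t) := by rw [c_def (c a s)]; group
      _ = c a s * t := by rw [h2, inv_one, one_mul]
  · intro h1 t ht
    exact c_F h1 ht

/-! ### `N` on `V` -/

/-- `[v, n n'] = [v, n] [v, n']` for `n, n' ∈ N` -/
theorem c_NN_mul [Finite G] {v n n' : G} (hv : v ∈ V) (hn : n ∈ NN V F) (hn' : n' ∈ NN V F) :
    c v (n * n') = c v n * c v n' := by
  rw [h.c_mul_right hv hn.1 hn'.1, c_F (h.c_mem_F hv hn') hn.1, mul_one]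

omit h in
/-- `[E, N] = 1` -/
theorem c_E_NN {e n : G} (he : e ∈ EE V F) (hn : n ∈ NN V F) : c e n = 1 := by
  rw [c, mem_centralizer_iff.1 hn.2 e he, mul_inv_cancel_right, mul_inv_cancel]

/-- `l ↦ [l, n]` is a homomorphism `⟨V, V^x⟩ → F` for `n ∈ N ∩ N^x`. -/
theorem exists_hom [Finite G] {x n : G} (hx : x ∈ centralizer (F : Set G)) (hn : n ∈ NN V F)
    (hn' : n ∈ MulAut.conj x • NN V F) :
    ∃ ψ : ↥(V ⊔ MulAut.conj x • V) →* F, ∀ l : ↥(V ⊔ MulAut.conj x • V), ((ψ l : F) : G) = c (l : G) n := by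
  have hnX : n ∈ centralizer (F : Set G) := W_le_X hn.1
  let K : Subgroup G :=
    { carrier := {l | l ∈ centralizer (F : Set G) ∧ c l n ∈ F}
      one_mem' := ⟨one_mem _, by
        have : c 1 n = 1 := by rw [c]; group
        rw [this]; exact one_mem _⟩
      mul_mem' := by
        rintro a b ⟨ha, ha2⟩ ⟨hb, hb2⟩
        refine ⟨mul_mem ha hb, ?_⟩
        have e : c (a * b) n = a * c b n * a⁻¹ * c a n := by rw [c, c, c]; group
        rw [e]
        exact mul_mem (norm_mem (X_norm_F ha) hb2) ha2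
      inv_mem' := by
        rintro a ⟨ha, ha2⟩
        refine ⟨inv_mem ha, ?_⟩
        have h1 := norm_mem' (X_norm_F ha) (inv_mem ha2)
        have e : a⁻¹ * (c a n)⁻¹ * a = c a⁻¹ n := by rw [c, c]; group
        rwa [e] at h1 }
  have hL : V ⊔ MulAut.conj x • V ≤ K := by
    refine sup_le (fun v hv => ⟨h.V_le_X hv, h.c_mem_F hv hn⟩) fun v hv => ⟨h.conjV_le_X hx hv, ?_⟩
    exact ((h.mem_conjNN hx).1 hn').2 v hv
  refine ⟨MonoidHom.mk' (fun l => ⟨c (l : G) n, (hL l.2).2⟩) ?_, fun l => rfl⟩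
  intro a b
  apply Subtype.ext
  have ha := hL a.2
  have hb := hL b.2
  have h1 : c (b : G) n * a = a * c (b : G) n := F_comm hb.2 ha.1
  have h2 : c (b : G) n * c (a : G) n = c (a : G) n * c (b : G) n :=
    h.V_comm (h.F_le_V hb.2) (h.F_le_V ha.2)
  change c ((a : G) * b) n = c (a : G) n * c (b : G) n
  calc c ((a : G) * b) n = a * c (b : G) n * (a : G)⁻¹ * c (a : G) n := by rw [c, c, c]; group
    _ = c (b : G) n * c (a : G) n := by rw [← h1]; group
    _ = c (a : G) n * c (b : G) n := h2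

/-- elements of `N ∩ N^x` commute with the elements of odd order of `⟨V, V^x⟩`. -/
theorem comm_odd [Finite G] {x n g : G} (hx : x ∈ centralizer (F : Set G)) (hn : n ∈ NN V F)
    (hn' : n ∈ MulAut.conj x • NN V F) (hg : g ∈ V ⊔ MulAut.conj x • V) (hodd : Odd (orderOf g)) :
    g * n = n * g := by
  obtain ⟨ψ, hψ⟩ := h.exists_hom hx hn hn'
  have h1 : ψ ⟨g, hg⟩ ^ orderOf g = 1 := by
    rw [← map_pow]
    have : (⟨g, hg⟩ : ↥(V ⊔ MulAut.conj x • V)) ^ orderOf g = 1 := Subtype.ext (by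
      rw [SubgroupClass.coe_pow]
      exact pow_orderOf_eq_one g)
    rw [this, map_one]
  have h2 : ψ ⟨g, hg⟩ ^ 2 = 1 := Subtype.ext (by
    rw [SubgroupClass.coe_pow]
    exact h.sq _ (h.F_le_V (ψ ⟨g, hg⟩).2))
  have h3 : ψ ⟨g, hg⟩ = 1 := by
    obtain ⟨k, hk⟩ := hodd
    rw [hk, pow_add, pow_mul, h2, one_pow, one_mul, pow_one] at h1
    exact h1
  have h4 : c g n = 1 := by
    rw [← hψ ⟨g, hg⟩, h3]; rfl
  calc g * n = c g n * (n * g) := by rw [c]; group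
    _ = n * g := by rw [h4, one_mul]

/-- **(9)** `N = C_W(V)` if `V ≤ E O²(⟨V, V^x⟩)` for a bad `x ∈ X`. -/
theorem NN_le_cent [Finite G] {x : G} (hx : x ∈ centralizer (F : Set G)) (hb : BadX V x)
    (hV : V ≤ EE V F ⊔ closure {g | g ∈ V ⊔ MulAut.conj x • V ∧ Odd (orderOf g)}) :
    NN V F ≤ centralizer (V : Set G) := by
  intro n hn
  obtain ⟨f, hf, e, he, n', hn', rfl⟩ := h.exists_decomp hx hb hn.1
  obtain ⟨hn1, hn2⟩ := mem_inf.1 hn'
  have h1 : f ∈ F := by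
    rw [← h.conjE_inf_NN hx hb]
    refine mem_inf.2 ⟨hf, ?_⟩
    have e1 : f = (f * e * n') * (e * n')⁻¹ := by group
    rw [e1]
    exact mul_mem hn (inv_mem (mul_mem (h.E_le_NN he) hn1))
  have h2 : V ≤ centralizer {n'} := by
    refine hV.trans (sup_le ?_ ((closure_le _).2 ?_))
    · intro e' he'
      rw [mem_centralizer_singleton_iff]
      exact mem_centralizer_iff.1 hn1.2 e' he'
    · rintro g ⟨hg, hodd⟩
      rw [SetLike.mem_coe, mem_centralizer_singleton_iff]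
      exact h.comm_odd hx hn1 hn2 hg hodd
  have h3 : n' ∈ centralizer (V : Set G) := by
    rw [mem_centralizer_iff]
    exact fun v hv => mem_centralizer_singleton_iff.1 (h2 hv)
  exact mul_mem (mul_mem (h.comm (h.F_le_V h1)) (h.comm he.1)) h3

end Hyp

end Cfsg.Agent.Omega.NOne.Flat

end

section


/-!
# The Pfaffian bound in the FLAT setting (#16135 (PF), helper820; referees #16489, #16524)

`Hyp V F`; `q = |V : E|`; `N = C_W(E)`; `|W : N| = |E : F|`.

For `φ : F → ZMod 2` additive let `Sp V F φ = {s ∈ W | φ([E, s]) = 0}` (it contains `N`).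

* `Hyp.pfaff` : `φ([E, W]) ≠ 0` implies `q ^ 2 ≤ |W : S_φ|`;
* `Hyp.sq_le` : `q ^ 2 ≤ |E : F|`;
* `Hyp.sp_eq` : `|E : F| = q ^ 2` implies `S_φ = N` for all these `φ`;
* `Hyp.exists_c_eq`, `Hyp.commutator_eq` : `|E : F| = q ^ 2` implies `[E, s] = [E, W]` for every `s ∈ W - N`;
* `Hyp.card_commutator_le` : `|E : F| = q ^ 2` implies `|[E, W]| ≤ q`.
-/

set_option autoImplicit false

namespace Cfsg.Agent.Omega.NOne.Flat

open Subgroup Cfsg Cfsg.Agent.Omega.NoFF.Basic Cfsg.Agent.Omega.NOne.Frame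
open Cfsg.Agent.Omega.NOne.NearFF (Near c c_def)
open Cfsg.Agent.ZN (o2)
open Cfsg.Agent.MinSimple.VModule
open scoped Pointwise commutatorElement

universe u

variable {G : Type u} [Group G]

/-- `φ` is additive on `F`. -/
structure Add2 (F : Subgroup G) (φ : G → ZMod 2) : Prop where
  mul : ∀ a ∈ F, ∀ b ∈ F, φ (a * b) = φ a + φ b

namespace Add2

variable {F : Subgroup G} {φ : G → ZMod 2} (hφ : Add2 F φ)
include hφ

theorem one : φ 1 = 0 := by
  have h1 := hφ.mul 1 (one_mem _) 1 (one_mem _)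
  rw [one_mul] at h1
  have h2 : ∀ x : ZMod 2, x = x + x → x = 0 := by decide
  exact h2 _ h1

theorem inv {a : G} (ha : a ∈ F) : φ a⁻¹ = φ a := by
  have h1 := hφ.mul a ha a⁻¹ (inv_mem ha)
  rw [mul_inv_cancel, hφ.one] at h1
  have h2 : ∀ x y : ZMod 2, 0 = x + y → y = x := by decide
  exact h2 _ _ h1

end Add2

/-- An elementary abelian 2-group is separated by its functionals. -/
theorem exists_add2 {F D : Subgroup G} [Finite F] (hc : ∀ a ∈ F, ∀ b ∈ F, a * b = b * a)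
    (hsq : ∀ a ∈ F, a * a = 1) {t : G} (ht : t ∈ F) (h1 : t ∉ D) :
    ∃ φ : G → ZMod 2, Add2 F φ ∧ (∀ d ∈ F, d ∈ D → φ d = 0) ∧ φ t ≠ 0 := by
  classical
  obtain ⟨ξ, hξ1, hξ2⟩ := exists_char (T := F) (D := D) hc ht h1
  have hval : ∀ a : F, ξ a = 1 ∨ ξ a = -1 := by
    intro a
    have h2 : a * a = 1 := Subtype.ext (hsq a a.2)
    have h3 : ξ a * ξ a = 1 := by rw [← map_mul, h2, map_one]
    have h4 : ((ξ a : ℂˣ) : ℂ) * (ξ a : ℂˣ) = 1 := by
      rw [← Units.val_mul, h3, Units.val_one]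
    rcases mul_self_eq_one_iff.1 h4 with h5 | h5
    · left; exact Units.ext (by rw [h5, Units.val_one])
    · right; exact Units.ext (by rw [h5, Units.val_neg, Units.val_one])
  have hne : (-1 : ℂˣ) ≠ 1 := by
    intro h2
    have h3 := congrArg (fun x : ℂˣ => (x : ℂ)) h2
    simp only [Units.val_neg, Units.val_one] at h3
    norm_num at h3
  let φ : G → ZMod 2 := fun x => if hx : x ∈ F then (if ξ ⟨x, hx⟩ = 1 then 0 else 1) else 0
  have hφ : ∀ x (hx : x ∈ F), φ x = if ξ ⟨x, hx⟩ = 1 then 0 else 1 := fun x hx => by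
    simp only [φ, dif_pos hx]
  refine ⟨φ, ⟨fun a ha b hb => ?_⟩, fun d hd hdD => ?_, ?_⟩
  · rw [hφ a ha, hφ b hb, hφ _ (mul_mem ha hb)]
    have e : (⟨a * b, mul_mem ha hb⟩ : F) = ⟨a, ha⟩ * ⟨b, hb⟩ := rfl
    rw [e, map_mul]
    rcases hval ⟨a, ha⟩ with h2 | h2 <;> rcases hval ⟨b, hb⟩ with h3 | h3 <;> rw [h2, h3]
    · simp
    · simp [hne]
    · simp [hne]
    · simp only [mul_neg, mul_one, neg_neg, if_true, if_neg hne]
      decide
  · rw [hφ d hd, if_pos (hξ1 d hd hdD)]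
  · rw [hφ t ht, if_neg hξ2]
    decide

section

variable {V F : Subgroup G}

/-- `S_φ = {s ∈ W | φ([E, s]) = 0}` -/
def Sp [Finite G] (h : Hyp V F) {φ : G → ZMod 2} (hφ : Add2 F φ) : Subgroup G where
  carrier := {s | s ∈ WW V F ∧ ∀ e ∈ EE V F, φ (c e s) = 0}
  one_mem' := ⟨one_mem _, fun e _ => by rw [Hyp.c_one_right]; exact hφ.one⟩
  mul_mem' := by
    rintro s t ⟨hs, hs2⟩ ⟨ht, ht2⟩
    refine ⟨mul_mem hs ht, fun e he => ?_⟩
    rw [h.c_mul_right' he hs ht, hφ.mul _ (h.comm_EW he hs) _ (h.comm_EW he ht), hs2 e he, ht2 e he,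
      add_zero]
  inv_mem' := by
    rintro s ⟨hs, hs2⟩
    refine ⟨inv_mem hs, fun e he => ?_⟩
    have h1 := h.c_mul_right' he (inv_mem hs) hs
    rw [inv_mul_cancel, Hyp.c_one_right] at h1
    have h2 := hφ.mul _ (h.comm_EW he (inv_mem hs)) _ (h.comm_EW he hs)
    rw [← h1, hφ.one, hs2 e he, add_zero] at h2
    exact h2.symm

theorem mem_Sp [Finite G] {h : Hyp V F} {φ : G → ZMod 2} {hφ : Add2 F φ} {s : G} :
    s ∈ Sp h hφ ↔ s ∈ WW V F ∧ ∀ e ∈ EE V F, φ (c e s) = 0 := Iff.rfl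

theorem Sp_le_W [Finite G] (h : Hyp V F) {φ : G → ZMod 2} (hφ : Add2 F φ) : Sp h hφ ≤ WW V F :=
  fun _ hs => hs.1

theorem NN_le_Sp [Finite G] (h : Hyp V F) {φ : G → ZMod 2} (hφ : Add2 F φ) : NN V F ≤ Sp h hφ := by
  intro s hs
  refine ⟨hs.1, fun e he => ?_⟩
  rw [Hyp.c_E_NN he hs, hφ.one]

namespace Hyp

variable [Finite G] (h : Hyp V F) {φ : G → ZMod 2} (hφ : Add2 F φ)
include h hφ

/-- the form `φ([v, s, t])` -/
theorem bf_congr_v {v v' s t : G} (hv : v ∈ V) (hv' : v' ∈ V) (hs : s ∈ WW V F) (ht : t ∈ WW V F)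
    (hvv : v⁻¹ * v' ∈ EE V F) : φ (c (c v' s) t) = φ (c (c v s) t) := by
  have e1 : v' = v * (v⁻¹ * v') := by group
  have h1 : c (c (v⁻¹ * v') s) t = 1 := c_F (h.comm_EW hvv hs) ht
  rw [e1, h.beta_mul hv hvv.1 hs ht, h1, mul_one]

theorem bf_congr_t {v s t t' : G} (hv : v ∈ V) (hs : s ∈ WW V F) (ht : t ∈ WW V F)
    (htt : t⁻¹ * t' ∈ Sp h hφ) : φ (c (c v s) t') = φ (c (c v s) t) := by
  have e1 : t' = t * (t⁻¹ * t') := by group
  have h1 : φ (c (c v s) (t⁻¹ * t')) = 0 := htt.2 _ (h.c_memE hv hs)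
  rw [e1, h.beta_mul_right hv hs ht htt.1, hφ.mul _ (h.beta_memF hv hs ht) _ (h.beta_memF hv hs htt.1), h1,
    add_zero]

theorem bf_congr_s {v s s' t : G} (hv : v ∈ V) (hs : s ∈ WW V F) (ht : t ∈ WW V F)
    (hss : s⁻¹ * s' ∈ Sp h hφ) : φ (c (c v s') t) = φ (c (c v s) t) := by
  have hs' : s' ∈ WW V F := by
    have := mul_mem hs hss.1
    rwa [mul_inv_cancel_left] at this
  rw [h.beta_comm hv hs' ht, h.beta_comm hv hs ht]
  exact h.bf_congr_t hφ hv ht hs hss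

/-- **(PF)** the Pfaffian bound: `q² ≤ |W : S_φ|`. -/
theorem pfaff (hne : ∃ e ∈ EE V F, ∃ s ∈ WW V F, φ (c e s) ≠ 0) :
    (EE V F).relIndex V ^ 2 ≤ (Sp h hφ).relIndex (WW V F) := by
  classical
  let iV : CommGroup V :=
    { (inferInstance : Group V) with
      mul_comm := fun x y => Subtype.ext (h.V_comm x.2 y.2) }
  let E' : Subgroup V := (EE V F).subgroupOf V
  let S' : Subgroup ↥(WW V F) := (Sp h hφ).subgroupOf (WW V F)
  have hcomS : ∀ s t : ↥(WW V F), s * t * s⁻¹ * t⁻¹ ∈ S' := by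
    intro s t
    rw [mem_subgroupOf]
    exact NN_le_Sp h hφ (h.F_le_NN (h.comm_WW s.2 t.2))
  have hSn : S'.Normal := by
    refine ⟨fun s hs g => ?_⟩
    have h1 : g * s * g⁻¹ = (g * s * g⁻¹ * s⁻¹) * s := by group
    rw [h1]
    exact mul_mem (hcomS g s) hs
  let iS : CommGroup (↥(WW V F) ⧸ S') :=
    { (inferInstance : Group (↥(WW V F) ⧸ S')) with
      mul_comm := by
        intro x y
        refine QuotientGroup.induction_on x fun s => QuotientGroup.induction_on y fun t => ?_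
        rw [← QuotientGroup.mk_mul, ← QuotientGroup.mk_mul, QuotientGroup.eq]
        have h1 : (s * t)⁻¹ * (t * s) = t⁻¹ * s⁻¹ * (t⁻¹)⁻¹ * (s⁻¹)⁻¹ := by group
        rw [h1]
        exact hcomS _ _ }
  -- the form
  let bb : V → ↥(WW V F) → ↥(WW V F) → ZMod 2 := fun v s t => φ (c (c (v : G) s) t)
  have cv : ∀ (v v' : V) (s t : ↥(WW V F)), (v : V ⧸ E') = v' → bb v' s t = bb v s t := by
    intro v v' s t hvv
    rw [QuotientGroup.eq, mem_subgroupOf] at hvv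
    exact h.bf_congr_v hφ v.2 v'.2 s.2 t.2 hvv
  have cs : ∀ (v : V) (s s' t : ↥(WW V F)), (s : ↥(WW V F) ⧸ S') = s' → bb v s' t = bb v s t := by
    intro v s s' t hss
    rw [QuotientGroup.eq, mem_subgroupOf] at hss
    exact h.bf_congr_s hφ v.2 s.2 t.2 hss
  have ct : ∀ (v : V) (s t t' : ↥(WW V F)), (t : ↥(WW V F) ⧸ S') = t' → bb v s t' = bb v s t := by
    intro v s t t' htt
    rw [QuotientGroup.eq, mem_subgroupOf] at htt
    exact h.bf_congr_t hφ v.2 s.2 t.2 htt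
  have av : ∀ (v v' : V) (s t : ↥(WW V F)), bb (v * v') s t = bb v s t + bb v' s t := by
    intro v v' s t
    change φ (c (c ((v : G) * v') s) t) = _
    rw [h.beta_mul v.2 v'.2 s.2 t.2]
    exact hφ.mul _ (h.beta_memF v.2 s.2 t.2) _ (h.beta_memF v'.2 s.2 t.2)
  have as : ∀ (v : V) (s s' t : ↥(WW V F)), bb v (s * s') t = bb v s t + bb v s' t := by
    intro v s s' t
    change φ (c (c (v : G) ((s : G) * s')) t) = _
    rw [h.beta_mul_left v.2 s.2 s'.2 t.2]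
    exact hφ.mul _ (h.beta_memF v.2 s.2 t.2) _ (h.beta_memF v.2 s'.2 t.2)
  have at' : ∀ (v : V) (s t t' : ↥(WW V F)), bb v s (t * t') = bb v s t + bb v s t' := by
    intro v s t t'
    change φ (c (c (v : G) s) ((t : G) * t')) = _
    rw [h.beta_mul_right v.2 s.2 t.2 t'.2]
    exact hφ.mul _ (h.beta_memF v.2 s.2 t.2) _ (h.beta_memF v.2 s.2 t'.2)
  let A := V ⧸ E'
  let S := ↥(WW V F) ⧸ S'
  have outA : ∀ a b : A, ((a * b).out : V ⧸ E') = ((a.out * b.out : V) : V ⧸ E') := by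
    intro a b
    rw [QuotientGroup.mk_mul, QuotientGroup.out_eq', QuotientGroup.out_eq', QuotientGroup.out_eq']
  have outS : ∀ a b : S, ((a * b).out : ↥(WW V F) ⧸ S') =
      ((a.out * b.out : ↥(WW V F)) : ↥(WW V F) ⧸ S') := by
    intro a b
    rw [QuotientGroup.mk_mul, QuotientGroup.out_eq', QuotientGroup.out_eq', QuotientGroup.out_eq']
  let β : Additive A →+ Additive S →+ Additive S →+ ZMod 2 :=
    AddMonoidHom.mk' (fun a => AddMonoidHom.mk' (fun s => AddMonoidHom.mk'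
      (fun t => bb (Additive.toMul a).out (Additive.toMul s).out (Additive.toMul t).out)
      (by
        intro t t'
        have e : Additive.toMul (t + t') = Additive.toMul t * Additive.toMul t' := rfl
        rw [e, ← at', ct _ _ _ _ (outS _ _).symm]))
      (by
        intro s s'
        have e : Additive.toMul (s + s') = Additive.toMul s * Additive.toMul s' := rfl
        refine AddMonoidHom.ext fun t => ?_
        change bb _ (Additive.toMul (s + s')).out _ = bb _ _ _ + bb _ _ _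
        rw [e, ← as, cs _ _ _ _ (outS _ _).symm]))
      (by
        intro a b
        have e : Additive.toMul (a + b) = Additive.toMul a * Additive.toMul b := rfl
        refine AddMonoidHom.ext fun s => AddMonoidHom.ext fun t => ?_
        change bb (Additive.toMul (a + b)).out _ _ = bb _ _ _ + bb _ _ _
        rw [e, ← av, cv _ _ _ _ (outA _ _).symm])
  have hβ : ∀ (a : Additive A) (s t : Additive S),
      β a s t = bb (Additive.toMul a).out (Additive.toMul s).out (Additive.toMul t).out := fun _ _ _ => rfl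
  have key : Nat.card (Additive A) ^ 2 ≤ Nat.card (Additive S) := by
    refine NearFF.Pfaff.card_sq_le_card ?_ ?_ β ?_ ?_ ?_
    · intro a
      change Additive.ofMul (Additive.toMul a * Additive.toMul a) = 0
      rw [ofMul_eq_zero]
      refine QuotientGroup.induction_on (Additive.toMul a) fun v => ?_
      rw [← QuotientGroup.mk_mul]
      have h1 : v * v = 1 := Subtype.ext (h.sq' v.2)
      rw [h1]; rfl
    · intro a
      change Additive.ofMul (Additive.toMul a * Additive.toMul a) = 0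
      rw [ofMul_eq_zero]
      refine QuotientGroup.induction_on (Additive.toMul a) fun s => ?_
      rw [← QuotientGroup.mk_mul, QuotientGroup.eq_one_iff, mem_subgroupOf]
      exact NN_le_Sp h hφ (h.F_le_NN (h.sq_W s.2))
    · intro a s
      rw [hβ]
      change φ (c (c _ _) _) = 0
      rw [h.beta_self (Subtype.prop _) (Subtype.prop _), hφ.one]
    · intro a ha s hs
      have hv : ((Additive.toMul a).out : G) ∉ EE V F := by
        intro h1
        apply ha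
        have h2 : ((Additive.toMul a).out : V ⧸ E') = 1 := by
          rw [QuotientGroup.eq_one_iff, mem_subgroupOf]; exact h1
        rw [QuotientGroup.out_eq'] at h2
        exact h2
      have h3 : ((Additive.toMul s).out : G) ∈ Sp h hφ := by
        refine ⟨(Additive.toMul s).out.2, fun e he => ?_⟩
        obtain ⟨t, ht, hte⟩ := h.surj (Additive.toMul a).out.2 hv he
        have h4 := hs (Additive.ofMul ((⟨t, ht⟩ : ↥(WW V F)) : ↥(WW V F) ⧸ S'))
        rw [hβ] at h4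
        have h5 : bb (Additive.toMul a).out ⟨t, ht⟩ (Additive.toMul s).out = 0 := by
          rw [← h4]
          refine (cs _ _ _ _ ?_).symm
          rw [toMul_ofMul, QuotientGroup.out_eq']
        have h6 : c e ((Additive.toMul s).out : G) =
            c (c ((Additive.toMul a).out : G) t) ((Additive.toMul s).out : G) := by
          refine h.c_congr_left he.1 (h.c_memV (Additive.toMul a).out.2 ht) (Additive.toMul s).out.2 ?_
          have h7 := h.V_comm (h.c_memV (Additive.toMul a).out.2 ht) (inv_mem he.1)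
          rwa [h7] at hte
        rw [h6]
        exact h5
      have h4 : ((Additive.toMul s).out : ↥(WW V F) ⧸ S') = 1 := by
        rw [QuotientGroup.eq_one_iff, mem_subgroupOf]; exact h3
      rw [QuotientGroup.out_eq'] at h4
      exact h4
    · obtain ⟨e, he, s, hs, hes⟩ := hne
      refine ⟨⟨Additive.ofMul ((⟨s, hs⟩ : ↥(WW V F)) : ↥(WW V F) ⧸ S'), 0, fun h1 => hes ?_⟩⟩
      rw [ofMul_eq_zero, QuotientGroup.eq_one_iff, mem_subgroupOf] at h1
      exact h1.2 e he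
  exact key

omit hφ in
/-- `φ([E, W]) ≠ 0` for some `φ` which is trivial on `D` if `[E, W] ≰ D`. -/
theorem exists_phi {D : Subgroup G} {e s : G} (he : e ∈ EE V F) (hs : s ∈ WW V F) (hD : c e s ∉ D) :
    ∃ φ : G → ZMod 2, Add2 F φ ∧ (∀ d ∈ F, d ∈ D → φ d = 0) ∧ φ (c e s) ≠ 0 :=
  exists_add2 (fun a ha b hb => h.V_comm (h.F_le_V ha) (h.F_le_V hb)) (fun a ha => h.sq' (h.F_le_V ha))
    (h.comm_EW he hs) hD

omit hφ in
/-- **(PF)** `|V : E|² ≤ |E : F|` -/
theorem sq_le : (EE V F).relIndex V ^ 2 ≤ F.relIndex (EE V F) := by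
  obtain ⟨e, he, heF⟩ := SetLike.not_le_iff_exists.1 (not_le_of_gt h.F_lt_E)
  have h1 : ∃ s ∈ WW V F, c e s ≠ 1 := by
    by_contra hall
    push Not at hall
    apply heF
    rw [← h.cent_EW]
    refine mem_inf.2 ⟨he, ?_⟩
    rw [mem_centralizer_iff]
    intro s hs
    have h2 := hall s hs
    calc s * e = (c e s)⁻¹ * (e * s) := by rw [c]; group
      _ = e * s := by rw [h2, inv_one, one_mul]
  obtain ⟨s, hs, hes⟩ := h1
  obtain ⟨φ, hφ, -, h2⟩ := h.exists_phi (D := ⊥) he hs (by rwa [mem_bot])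
  refine (h.pfaff hφ ⟨e, he, s, hs, h2⟩).trans ?_
  rw [← h.relIndex_NN]
  exact relIndex_le_of_le_left (NN_le_Sp h hφ) index_ne_zero_of_finite

/-- **(PF)** equality: `S_φ = N` for every `φ` with `φ([E, W]) ≠ 0`. -/
theorem sp_eq (heq : F.relIndex (EE V F) = (EE V F).relIndex V ^ 2)
    (hne : ∃ e ∈ EE V F, ∃ s ∈ WW V F, φ (c e s) ≠ 0) : Sp h hφ = NN V F := by
  have h1 := h.pfaff hφ hne
  rw [← heq, ← h.relIndex_NN] at h1
  have h2 := relIndex_mul_relIndex (NN V F) (Sp h hφ) (WW V F) (NN_le_Sp h hφ) (Sp_le_W h hφ)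
  have h3 : (Sp h hφ).relIndex (WW V F) ≠ 0 := index_ne_zero_of_finite
  have h4 : (NN V F).relIndex (Sp h hφ) ≠ 0 := index_ne_zero_of_finite
  have h5 : (NN V F).relIndex (Sp h hφ) = 1 := by
    have h6 : (NN V F).relIndex (Sp h hφ) * (Sp h hφ).relIndex (WW V F) ≤ 1 * (Sp h hφ).relIndex (WW V F) := by
      rw [h2, one_mul]; exact h1
    have h7 := Nat.le_of_mul_le_mul_right h6 (Nat.pos_of_ne_zero h3)
    omega
  exact le_antisymm (relIndex_eq_one.1 h5) (NN_le_Sp h hφ)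

omit hφ in
/-- `[E, s] = {[e, s] | e ∈ E}` -/
def CE {s : G} (hs : s ∈ WW V F) : Subgroup G where
  carrier := {x | ∃ e ∈ EE V F, x = c e s}
  one_mem' := ⟨1, one_mem _, by rw [c]; group⟩
  mul_mem' := by
    rintro x y ⟨e, he, rfl⟩ ⟨f, hf, rfl⟩
    exact ⟨e * f, mul_mem he hf, (h.c_mul_left he.1 hf.1 hs).symm⟩
  inv_mem' := by
    rintro x ⟨e, he, rfl⟩
    exact ⟨e⁻¹, inv_mem he, (h.c_inv_left he.1 hs).symm⟩

omit hφ in
/-- **(PF)** equality: every commutator `[e, t]` is in `[E, s]`, for every `s ∈ W - N`. -/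
theorem exists_c_eq (heq : F.relIndex (EE V F) = (EE V F).relIndex V ^ 2) {s : G} (hs : s ∈ WW V F)
    (hsN : s ∉ NN V F) {e t : G} (he : e ∈ EE V F) (ht : t ∈ WW V F) : ∃ e' ∈ EE V F, c e t = c e' s := by
  by_contra hcon
  obtain ⟨φ, hφ, hD, h2⟩ := h.exists_phi (D := h.CE hs) he ht hcon
  apply hsN
  rw [← h.sp_eq hφ heq ⟨e, he, t, ht, h2⟩]
  exact ⟨hs, fun f hf => hD _ (h.comm_EW hf hs) ⟨f, hf, rfl⟩⟩

omit hφ in
/-- **(PF)** equality: `[E, W] = [E, s]` for every `s ∈ W - N`. -/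
theorem commutator_eq (heq : F.relIndex (EE V F) = (EE V F).relIndex V ^ 2) {s : G} (hs : s ∈ WW V F)
    (hsN : s ∉ NN V F) : ⁅EE V F, WW V F⁆ = h.CE hs := by
  apply le_antisymm
  · rw [commutator_le]
    intro e he t ht
    exact h.exists_c_eq heq hs hsN he ht
  · rintro x ⟨e, he, rfl⟩
    exact commutator_mem_commutator he hs

omit hφ in
/-- `|[E, s]| = |E : C_E(s)|` -/
theorem card_CE {s : G} (hs : s ∈ WW V F) : Nat.card (h.CE hs) = (centralizer {s}).relIndex (EE V F) := by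
  have h1 : Cos (fun e => c e s) (EE V F) (EE V F ⊓ centralizer {s}) (h.CE hs) ⊥ := by
    refine ⟨fun e he => ⟨e, he, rfl⟩, fun a ha b hb => ?_⟩
    rw [mem_bot, ← h.c_inv_left ha.1 hs, ← h.c_mul_left (inv_mem ha.1) hb.1 hs]
    constructor
    · intro h2
      refine mem_inf.2 ⟨mul_mem (inv_mem ha) hb, ?_⟩
      rw [mem_centralizer_singleton_iff]
      calc a⁻¹ * b * s = c (a⁻¹ * b) s * (s * (a⁻¹ * b)) := by rw [c]; group
        _ = s * (a⁻¹ * b) := by rw [h2, one_mul]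
    · intro h2
      have h3 := mem_centralizer_singleton_iff.1 (mem_inf.1 h2).2
      rw [c, h3, mul_inv_cancel_right, mul_inv_cancel]
  have h2 := h1.eq_of_surj (fun x ⟨e, he, hx⟩ => ⟨e, he, by rw [hx, inv_mul_cancel]; exact one_mem _⟩)
  rw [inf_relIndex_left, relIndex_bot_left] at h2
  exact h2.symm

omit hφ in
/-- **(PF)** equality: `|[E, W]| ≤ |V : E|`. -/
theorem card_commutator_le (heq : F.relIndex (EE V F) = (EE V F).relIndex V ^ 2) :
    Nat.card ↥(⁅EE V F, WW V F⁆ : Subgroup G) ≤ (EE V F).relIndex V := by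
  obtain ⟨s, hs, hsN⟩ := h.exists_not_mem_NN
  rw [h.commutator_eq heq hs hsN, h.card_CE hs]
  have h1 := h.relIndex_mul_le hs hsN
  rw [heq, pow_two] at h1
  exact Nat.le_of_mul_le_mul_left h1 (Nat.pos_of_ne_zero index_ne_zero_of_finite)

end Hyp

end

end Cfsg.Agent.Omega.NOne.Flat

end

section


/-!
# THEOREM D0ag (bb #15001, helper313): the abstract configuration

`V` is the module of the minimal parabolic `P`, `z i` (`i : ι`) are the points (the conjugates of `z`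
under `P`), `opp i j` means that `z i`, `z j` are not perpendicular; `C i` is the conjugate of the group
`C_1` at `z i`, `Q i = O₂(C i)`, `QF i = C_{Q i}(E_i/z_i)` (`E_i = V ∩ Q i = z_i^⊥`), `Qs i = ⟨E_i^{C i}⟩`,
`T = C_S(V)`.

`Conf` is the configuration after the frame (0) of the text (for all points, by conjugation in `P`).
-/

set_option autoImplicit false

namespace Cfsg.Agent.Omega.NOne.AG

open Subgroup Cfsg Cfsg.Agent.ZN

universe u

variable {G : Type u} [Group G] {ι : Type*}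

/-- The abstract configuration of D0ag. -/
structure Conf (P V T : Subgroup G) (z : ι → G) (opp : ι → ι → Prop) (C Q QF Qs : ι → Subgroup G) :
    Prop where
  -- the points
  ne_one : ∀ i, z i ≠ 1
  sq : ∀ i, z i * z i = 1
  zV : ∀ i, z i ∈ V
  irr : ∀ i, ¬ opp i i
  symm : ∀ {i j}, opp i j → opp j i
  -- `P`, `V`, `T`
  Vab : ∀ v ∈ V, ∀ w ∈ V, v * w = w * v
  Vsq : ∀ v ∈ V, v * v = 1
  cardV : Nat.card V = 16
  VT : V ≤ T
  TP : T ≤ P
  TV : ∀ t ∈ T, ∀ v ∈ V, t * v = v * t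
  nT : P ≤ normalizer (T : Set G)
  nV : P ≤ normalizer (V : Set G)
  pT : IsPGroup 2 T
  perm : ∀ m ∈ P, ∀ i, ∃ j, m * z i * m⁻¹ = z j
  -- transport
  eqC : ∀ m ∈ P, ∀ i j, m * z i * m⁻¹ = z j → ∀ x ∈ C i, m * x * m⁻¹ ∈ C j
  eqQ : ∀ m ∈ P, ∀ i j, m * z i * m⁻¹ = z j → ∀ x ∈ Q i, m * x * m⁻¹ ∈ Q j
  eqQF : ∀ m ∈ P, ∀ i j, m * z i * m⁻¹ = z j → ∀ x ∈ QF i, m * x * m⁻¹ ∈ QF j
  eqQs : ∀ m ∈ P, ∀ i j, m * z i * m⁻¹ = z j → ∀ x ∈ Qs i, m * x * m⁻¹ ∈ Qs j
  -- the local subgroups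
  Cz : ∀ i, ∀ c ∈ C i, c * z i = z i * c
  PC : ∀ i, ∀ m ∈ P, m * z i = z i * m → m ∈ C i
  /-- `C_1 = L_1 (P ∩ C)` -/
  gen : ∀ i, C i ≤ closure ({m | m ∈ P ∧ m * z i = z i * m} ∪
    {x | ∃ c ∈ C i, ∃ v ∈ V, x = c * v * c⁻¹})
  Qo2 : ∀ i, Q i = o2 (C i)
  char2 : ∀ i, ∀ c ∈ C i, (∀ x ∈ Q i, c * x = x * c) → c ∈ Q i
  QP : ∀ i, Q i ≤ P
  nQF : ∀ i, C i ≤ normalizer (QF i : Set G)
  nQs : ∀ i, C i ≤ normalizer (Qs i : Set G)
  QFQ : ∀ i, QF i ≤ Q i
  QsQF : ∀ i, Qs i ≤ QF i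
  /-- `[Qs i, QF i] ≤ ⟨z i⟩` -/
  com : ∀ i, ∀ x ∈ Qs i, ∀ y ∈ QF i, x * y = y * x ∨ x * y = z i * (y * x)
  QsGen : ∀ i, Qs i ≤ closure {y | ∃ c ∈ C i, ∃ e ∈ V, e ∈ Q i ∧ y = c * e * c⁻¹}
  -- `V` and the local subgroups
  /-- `E_i = V ∩ Q i` consists of the points perpendicular to `z i` (and their products) -/
  opp_iff : ∀ i j, opp i j ↔ z j ∉ Q i
  VQs : ∀ i, ∀ v ∈ V, v ∈ Q i → v ∈ Qs i
  VQ2 : ∀ i, ∀ v ∈ V, ∀ w ∈ V, v ∉ Q i → w ∉ Q i → v * w ∈ Q i
  VQc : ∀ i, ∀ x ∈ Q i, ∀ v ∈ V, x * v * x⁻¹ * v⁻¹ ∈ Q i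
  cT : ∀ i, ∀ x ∈ Q i, (∀ v ∈ V, x * v = v * x) → x ∈ T
  /-- no nontrivial element of `P/C_P(V)` centralises `E_i` -/
  faith : ∀ i, ∀ x ∈ P, (∀ v ∈ V, v ∈ Q i → x * v = v * x) → ∀ v ∈ V, x * v = v * x
  fixE : ∀ i, ∀ e ∈ V, (∀ x ∈ Qs i, x * e = e * x) → e = 1 ∨ e = z i
  QFT : ∀ i, ∀ x ∈ QF i, ∃ t ∈ T, ∃ y ∈ Qs i, x = t * y
  /-- `QF i = C_{Q i}(E_i / z_i)`, `|Q i : QF i| ≤ 2` -/
  QQF : ∀ i, ∀ x ∈ Q i, (∀ v ∈ V, v ∈ Q i → x * v = v * x ∨ x * v = z i * (v * x)) → x ∈ QF i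
  QF2 : ∀ i, ∀ x ∈ Q i, ∀ y ∈ Q i, x ∉ QF i → y ∉ QF i → x * y ∈ QF i
  /-- `v ∈ V - E_i`: `C_X(v) = E_i^⊥` -/
  kv : ∀ i, ∀ x ∈ Qs i, ∀ v ∈ V, v ∉ Q i → (x * v = v * x ∨ x * v = z i * (v * x)) → x ∈ T
  /-- `v ∈ V - E_i`: `[Qs i, v] ⟨z i⟩ = E_i` -/
  ev : ∀ i, ∀ e ∈ V, e ∈ Q i → ∀ v ∈ V, v ∉ Q i →
    ∃ x ∈ Qs i, x * v * x⁻¹ * v⁻¹ = e ∨ x * v * x⁻¹ * v⁻¹ = z i * e
  -- global
  /-- `⟨Qs i, Qs j⟩` is transitive on the points -/
  trans : ∀ i j, opp i j → ∀ k, ∃ x ∈ Qs i ⊔ Qs j, x * z i * x⁻¹ = z k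
  tri : ∀ i, ∃ j k, opp i j ∧ opp i k ∧ opp j k
  /-- `Ω₁ Z(S^p) = ⟨z i⟩` -/
  min : ∀ i, ∀ N : Subgroup G, N ≤ T →
    (∀ m ∈ P, m * z i = z i * m → ∀ x ∈ N, m * x * m⁻¹ ∈ N) → N ≠ ⊥ → z i ∈ N

namespace Conf

variable {P V T : Subgroup G} {z : ι → G} {opp : ι → ι → Prop} {C Q QF Qs : ι → Subgroup G}

/-- `B_i = C_{QF i}(Qs i)` -/
def B (_h : Conf P V T z opp C Q QF Qs) (i : ι) : Subgroup G :=
  QF i ⊓ centralizer (Qs i : Set G)

/-- `T_i = T ∩ Q i` -/
def Tt (_h : Conf P V T z opp C Q QF Qs) (i : ι) : Subgroup G := T ⊓ Q i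

/-- `Δ = ⋂ B_k V` -/
def Dl (h : Conf P V T z opp C Q QF Qs) : Subgroup G := ⨅ k, (h.B k ⊔ V)

end Conf

end Cfsg.Agent.Omega.NOne.AG

end

section


/-!
# THEOREM D0ag (bb #15001), type (α): labels

* `D4 a b c d`, `D5 a b c d m` : the indices (in `Fin 5`) are distinct;
* `Alp P V Z` : the 15 points of the natural `SL₂(4)`-module `V` for `S₅ = SL₂(4).2`, labelled as
  `Z a b c d = z_{ab|cd}` (`a, b, c, d` distinct);
* `Lab h y pt` : the case `Δ > V`: ten elements `y a b = y b a` of `Δ - V`, `z (pt a b c d) = y a b * y c d`.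

`Ov P y σ m` : `m ∈ P` acts as `σ` on the `y a b`.
-/

set_option autoImplicit false

namespace Cfsg.Agent.Omega.NOne.AG

open Subgroup Cfsg Cfsg.Agent.ZN

universe u

/-- the indices are distinct -/
def D4 (a b c d : Fin 5) : Prop := a ≠ b ∧ a ≠ c ∧ a ≠ d ∧ b ≠ c ∧ b ≠ d ∧ c ≠ d

/-- the indices are distinct -/
def D5 (a b c d m : Fin 5) : Prop := D4 a b c d ∧ m ≠ a ∧ m ≠ b ∧ m ≠ c ∧ m ≠ d

instance (a b c d : Fin 5) : Decidable (D4 a b c d) := by unfold D4; infer_instance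

instance (a b c d m : Fin 5) : Decidable (D5 a b c d m) := by unfold D5; infer_instance

variable {G : Type u} [Group G] {ι : Type*}

/-- **(α)**: the 15 points of `V`, labelled: `Z a b c d = z_{ab|cd}`. -/
structure Alp (P V : Subgroup G) (Z : Fin 5 → Fin 5 → Fin 5 → Fin 5 → G) : Prop where
  swap1 : ∀ a b c d, D4 a b c d → Z a b c d = Z b a c d
  swap2 : ∀ a b c d, D4 a b c d → Z a b c d = Z c d a b
  ne_one : ∀ a b c d, D4 a b c d → Z a b c d ≠ 1
  mem : ∀ a b c d, D4 a b c d → Z a b c d ∈ V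
  sq : ∀ v ∈ V, v * v = 1
  comm : ∀ v ∈ V, ∀ w ∈ V, v * w = w * v
  card : Nat.card V = 16
  surj : ∀ v ∈ V, v ≠ 1 → ∃ a b c d, D4 a b c d ∧ v = Z a b c d
  /-- the `F₄`-line of `z_{ab|cd}` -/
  line4 : ∀ a b c d, D4 a b c d → Z a b c d * Z a c b d = Z a d b c
  /-- `C_V((ab))` -/
  line2 : ∀ a b c d m, D5 a b c d m → Z a b c d * Z a b c m = Z a b d m
  /-- a hyperbolic line -/
  hyp : ∀ a b c d m, D5 a b c d m → Z a b c d * Z b c d m = Z b m a d
  act : ∀ m ∈ P, ∃ σ : Equiv.Perm (Fin 5), ∀ a b c d, D4 a b c d →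
    m * Z a b c d * m⁻¹ = Z (σ a) (σ b) (σ c) (σ d)
  full : ∀ σ : Equiv.Perm (Fin 5), ∃ m ∈ P, ∀ a b c d, D4 a b c d →
    m * Z a b c d * m⁻¹ = Z (σ a) (σ b) (σ c) (σ d)

/-- `m ∈ P` acts as `σ` on the `y a b` -/
def Ov (P : Subgroup G) (y : Fin 5 → Fin 5 → G) (σ : Equiv.Perm (Fin 5)) (m : G) : Prop :=
  m ∈ P ∧ ∀ a b, a ≠ b → m * y a b * m⁻¹ = y (σ a) (σ b)

/-- **The case `Δ > V`** (type (α)): the ten elements `y a b`. -/
structure Lab {P V T : Subgroup G} {z : ι → G} {opp : ι → ι → Prop} {C Q QF Qs : ι → Subgroup G}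
    (h : Conf P V T z opp C Q QF Qs) (y : Fin 5 → Fin 5 → G)
    (pt : Fin 5 → Fin 5 → Fin 5 → Fin 5 → ι) : Prop where
  symm : ∀ a b, y a b = y b a
  ne_one : ∀ a b, a ≠ b → y a b ≠ 1
  sq : ∀ a b, a ≠ b → y a b * y a b = 1
  comm : ∀ a b c d, a ≠ b → c ≠ d → y a b * y c d = y c d * y a b
  inj : ∀ a b c d, a ≠ b → c ≠ d → y a b = y c d → (a = c ∧ b = d) ∨ (a = d ∧ b = c)
  z_eq : ∀ a b c d, D4 a b c d → z (pt a b c d) = y a b * y c d
  surj : ∀ i, ∃ a b c d, D4 a b c d ∧ i = pt a b c d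
  /-- `y_{ab} y_{am} = z_{cd|bm}` -/
  rel : ∀ a b c d m, D5 a b c d m → y a b * y a m = y c d * y b m
  notV : ∀ a b, a ≠ b → y a b ∉ V
  /-- `Δ = V ∪ y V` -/
  mem_iff : ∀ a b, a ≠ b → ∀ x, x ∈ h.Dl ↔ x ∈ V ∨ x * y a b ∈ V
  /-- `Y_i = B_i ∩ Δ` -/
  B_iff : ∀ a b c d, D4 a b c d → ∀ x ∈ h.Dl,
    (x ∈ h.B (pt a b c d) ↔ x = 1 ∨ x = z (pt a b c d) ∨ x = y a b ∨ x = y c d)
  /-- `y_e ∈ Q_i` for `e ∈ {ab, am}` -/
  yQ : ∀ a b c d m, D5 a b c d m → y a b ∈ Q (pt a b c d) ∧ y a m ∈ Q (pt a b c d)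
  /-- `y_e ∉ Q_i` for `e = ac` -/
  yQ' : ∀ a b c d m, D5 a b c d m → y a c ∉ Q (pt a b c d)
  /-- `P / C_P(Δ) = S₅` -/
  act : ∀ m ∈ P, ∃ σ : Equiv.Perm (Fin 5), Ov P y σ m
  full : ∀ σ : Equiv.Perm (Fin 5), ∃ m, Ov P y σ m
  /-- `Qs i` induces `⟨(ab), (cd)⟩` -/
  Qs_ov : ∀ a b c d, D4 a b c d → ∀ x ∈ Qs (pt a b c d), Ov P y 1 x ∨ Ov P y (Equiv.swap a b) x ∨
    Ov P y (Equiv.swap c d) x ∨ Ov P y (Equiv.swap a b * Equiv.swap c d) x
  Qs_ex : ∀ a b c d, D4 a b c d → ∃ x ∈ Qs (pt a b c d), Ov P y (Equiv.swap a b) x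
  /-- the points opposite to `ab|cd` -/
  opp_iff : ∀ a b c d m, D5 a b c d m → ∀ i, opp (pt a b c d) i ↔
    i = pt a c b m ∨ i = pt a d b m ∨ i = pt b c a m ∨ i = pt b d a m ∨
    i = pt a c d m ∨ i = pt b c d m ∨ i = pt a d c m ∨ i = pt b d c m
  /-- `pt` depends only on the point -/
  pt1 : ∀ a b c d, D4 a b c d → pt a b c d = pt b a c d
  pt2 : ∀ a b c d, D4 a b c d → pt a b c d = pt c d a b

end Cfsg.Agent.Omega.NOne.AG

end

section


/-!
# NO-1, D0ag (#15001): the stabiliser of a chain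

`C` of characteristic 2 (`C_C(O₂(C)) ≤ O₂(C)`).  An element of `C` centralising the factors of a chain
`O₂(C) = A₀ ≥ A₁ ≥ … ≥ A_n = 1` of normal subgroups of `C` lies in `O₂(C)`.
-/

set_option autoImplicit false

namespace Cfsg.Agent.Omega.NOne.AG.K

open Subgroup Cfsg Cfsg.Agent.MinSimple.VModule Cfsg.Agent.MinSimple.Basic
open Cfsg.Agent.ZN (o2)
open Cfsg.Agent.Omega.NOne

universe u

variable {G : Type u} [Group G]

/-- The elements of `C` moving the elements of `A` by elements of `B`. -/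
def st (C A B : Subgroup G) (hB : ∀ c ∈ C, ∀ b ∈ B, c * b * c⁻¹ ∈ B) : Subgroup G where
  carrier := {g | g ∈ C ∧ ∀ a ∈ A, g * a * g⁻¹ * a⁻¹ ∈ B}
  one_mem' := ⟨one_mem _, fun u _ => by simp⟩
  mul_mem' := by
    rintro a b ⟨ha, ha'⟩ ⟨hb, hb'⟩
    refine ⟨mul_mem ha hb, fun x hx => ?_⟩
    have e : a * b * x * (a * b)⁻¹ * x⁻¹ =
        (a * (b * x * b⁻¹ * x⁻¹) * a⁻¹) * (a * x * a⁻¹ * x⁻¹) := by group
    rw [e]
    exact mul_mem (hB a ha _ (hb' x hx)) (ha' x hx)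
  inv_mem' := by
    rintro a ⟨ha, ha'⟩
    refine ⟨inv_mem ha, fun x hx => ?_⟩
    have e : a⁻¹ * x * a⁻¹⁻¹ * x⁻¹ = a⁻¹ * (a * x * a⁻¹ * x⁻¹)⁻¹ * a⁻¹⁻¹ := by group
    rw [e]
    exact hB _ (inv_mem ha) _ (inv_mem (ha' x hx))

theorem mem_st {C A B : Subgroup G} {hB : ∀ c ∈ C, ∀ b ∈ B, c * b * c⁻¹ ∈ B} {g : G} :
    g ∈ st C A B hB ↔ g ∈ C ∧ ∀ a ∈ A, g * a * g⁻¹ * a⁻¹ ∈ B := Iff.rfl

theorem st_conj {C A B : Subgroup G} {hB : ∀ c ∈ C, ∀ b ∈ B, c * b * c⁻¹ ∈ B}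
    (hA : ∀ c ∈ C, ∀ a ∈ A, c * a * c⁻¹ ∈ A) {c g : G} (hc : c ∈ C) (hg : g ∈ st C A B hB) :
    c * g * c⁻¹ ∈ st C A B hB := by
  obtain ⟨h1, h2⟩ := mem_st.1 hg
  refine mem_st.2 ⟨mul_mem (mul_mem hc h1) (inv_mem hc), fun a ha => ?_⟩
  have h3 := hB c hc _ (h2 _ (hA _ (inv_mem hc) a ha))
  have e : c * g * c⁻¹ * a * (c * g * c⁻¹)⁻¹ * a⁻¹ =
      c * (g * (c⁻¹ * a * c⁻¹⁻¹) * g⁻¹ * (c⁻¹ * a * c⁻¹⁻¹)⁻¹) * c⁻¹ := by group
  rw [e]
  exact h3

/-- **(K)**: the stabiliser in `C` (of characteristic 2) of a chain of normal subgroups from `O₂(C)` to `1`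
lies in `O₂(C)`. -/
theorem mem_of_chain [Finite G] {C : Subgroup G} (hC : C ⊓ centralizer (o2 C : Set G) ≤ o2 C) (n : ℕ)
    (A : ℕ → Subgroup G) (h0 : A 0 = o2 C) (hn : A n = ⊥)
    (hA : ∀ i, ∀ c ∈ C, ∀ a ∈ A i, c * a * c⁻¹ ∈ A i) (hle : ∀ i, A i ≤ o2 C) {g : G} (hg : g ∈ C)
    (h : ∀ i < n, ∀ a ∈ A i, g * a * g⁻¹ * a⁻¹ ∈ A (i + 1)) : g ∈ o2 C := by
  let B : Subgroup G := C ⊓ ⨅ i : Fin n, st C (A i) (A (i + 1)) (hA _)
  have hBst : ∀ x ∈ B, ∀ i < n, ∀ a ∈ A i, x * a * x⁻¹ * a⁻¹ ∈ A (i + 1) := by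
    intro x hx i hi a ha
    have h1 := (mem_inf.1 hx).2
    rw [mem_iInf] at h1
    exact (mem_st.1 (h1 ⟨i, hi⟩)).2 a ha
  have hBC : B ≤ C := inf_le_left
  -- a 2-power of an element of `B` centralises `A i`
  have key : ∀ j ≤ n, ∀ x ∈ B, ∃ k : ℕ, ∀ a ∈ A (n - j), x ^ 2 ^ k * a = a * x ^ 2 ^ k := by
    intro j
    induction j with
    | zero =>
      intro _ x _
      refine ⟨0, fun a ha => ?_⟩
      rw [Nat.sub_zero, hn, mem_bot] at ha
      rw [ha, mul_one, one_mul]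
    | succ j ih =>
      intro hj x hx
      obtain ⟨k, hk⟩ := ih (Nat.le_of_succ_le hj) x hx
      have hxk : x ^ 2 ^ k ∈ B := pow_mem hx _
      have hp : IsPGroup 2 (A (n - j)) := (o2_isPGroup C).to_le (hle _)
      have e : n - (j + 1) + 1 = n - j := by omega
      have h1 : ∀ q ∈ A (n - (j + 1)), x ^ 2 ^ k * q * (x ^ 2 ^ k)⁻¹ * q⁻¹ ∈ A (n - j) := by
        intro q hq
        have := hBst _ hxk (n - (j + 1)) (by omega) q hq
        rwa [e] at this
      obtain ⟨l, hl⟩ := LemmaT.exists_pow_comm hp hk h1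
      refine ⟨k + l, fun a ha => ?_⟩
      rw [pow_add, pow_mul]
      exact hl a ha
  have hB : B ≤ o2 C := by
    refine le_o2 hBC ?_ ?_
    · rintro ⟨x, hx⟩
      obtain ⟨k, hk⟩ := key n le_rfl x hx
      rw [Nat.sub_self, h0] at hk
      have h2 : x ^ 2 ^ k ∈ o2 C :=
        hC ⟨pow_mem (hBC hx) _, mem_centralizer_iff.2 fun r hr => (hk r hr).symm⟩
      obtain ⟨l, hl⟩ := LemmaT.exists_pow_eq_one (o2_isPGroup C)
      refine ⟨k + l, Subtype.ext ?_⟩
      change x ^ 2 ^ (k + l) = 1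
      rw [pow_add, pow_mul]
      exact hl _ h2
    · have hconj : ∀ c ∈ C, ∀ x ∈ B, c * x * c⁻¹ ∈ B := by
        intro c hc x hx
        refine mem_inf.2 ⟨mul_mem (mul_mem hc (hBC hx)) (inv_mem hc), ?_⟩
        have h1 := (mem_inf.1 hx).2
        rw [mem_iInf] at h1 ⊢
        exact fun i => st_conj (hA _) hc (h1 i)
      intro c hc
      rw [mem_normalizer_iff]
      intro x
      refine ⟨hconj c hc x, fun hx => ?_⟩
      have h6 := hconj c⁻¹ (inv_mem hc) _ hx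
      have e : c⁻¹ * (c * x * c⁻¹) * c⁻¹⁻¹ = x := by group
      rwa [e] at h6
  refine hB (mem_inf.2 ⟨hg, ?_⟩)
  rw [mem_iInf]
  exact fun i => mem_st.2 ⟨hg, h i i.2⟩

section

variable [Finite G] {C : Subgroup G}

/-- Form with the normal subgroups given by a list: `l = [A₁, …, A_n]`. -/
theorem mem_of_list (hC : C ⊓ centralizer (o2 C : Set G) ≤ o2 C) (l : List (Subgroup G))
    (hA : ∀ A ∈ l, ∀ c ∈ C, ∀ a ∈ A, c * a * c⁻¹ ∈ A) (hle : ∀ A ∈ l, A ≤ o2 C) {g : G} (hg : g ∈ C)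
    (h : List.IsChain (fun A B : Subgroup G => ∀ a ∈ A, g * a * g⁻¹ * a⁻¹ ∈ B)
      (o2 C :: (l ++ [⊥]))) : g ∈ o2 C := by
  have hlen : (o2 C :: (l ++ [⊥])).length = l.length + 2 := by simp
  refine mem_of_chain hC (l.length + 1) (fun i => (o2 C :: (l ++ [⊥])).getD i ⊥) rfl ?_ ?_ ?_ hg ?_
  · simp
  · intro i c hc a ha
    by_cases hi : i < (o2 C :: (l ++ [⊥])).length
    · rw [List.getD_eq_getElem _ _ hi] at ha ⊢
      have hm := List.getElem_mem hi
      rcases List.mem_cons.1 hm with h1 | h1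
      · rw [h1] at ha ⊢
        exact (mem_normalizer_iff.1 (le_normalizer_o2 C hc) a).1 ha
      · rcases List.mem_append.1 h1 with h2 | h2
        · exact hA _ h2 c hc a ha
        · rw [List.mem_singleton] at h2
          rw [h2, mem_bot] at ha ⊢
          rw [ha, mul_one, mul_inv_cancel]
    · rw [List.getD_eq_default _ _ (not_lt.1 hi), mem_bot] at ha ⊢
      rw [ha, mul_one, mul_inv_cancel]
  · intro i
    by_cases hi : i < (o2 C :: (l ++ [⊥])).length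
    · rw [List.getD_eq_getElem _ _ hi]
      have hm := List.getElem_mem hi
      rcases List.mem_cons.1 hm with h1 | h1
      · rw [h1]
      · rcases List.mem_append.1 h1 with h2 | h2
        · exact hle _ h2
        · rw [List.mem_singleton] at h2
          rw [h2]
          exact bot_le
    · rw [List.getD_eq_default _ _ (not_lt.1 hi)]
      exact bot_le
  · intro i hi a ha
    have h1 : i < (o2 C :: (l ++ [⊥])).length := by omega
    have h2 : i + 1 < (o2 C :: (l ++ [⊥])).length := by omega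
    rw [List.getD_eq_getElem _ _ h1] at ha
    rw [List.getD_eq_getElem _ _ h2]
    exact (List.isChain_iff_getElem.1 h i h2) a ha

/-- Chain `O₂(C) ≥ R ≥ 1`. -/
theorem chain2 (hC : C ⊓ centralizer (o2 C : Set G) ≤ o2 C) {R : Subgroup G}
    (nR : ∀ c ∈ C, ∀ a ∈ R, c * a * c⁻¹ ∈ R) (hR : R ≤ o2 C) {g : G} (hg : g ∈ C)
    (h1 : ∀ a ∈ o2 C, g * a * g⁻¹ * a⁻¹ ∈ R) (h2 : ∀ a ∈ R, g * a = a * g) : g ∈ o2 C := by
  refine mem_of_list hC [R] (by simpa using nR) (by simpa using hR) hg ?_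
  simp only [List.cons_append, List.nil_append, List.isChain_cons_cons, List.isChain_singleton, and_true]
  refine ⟨h1, fun a ha => ?_⟩
  rw [h2 a ha, mem_bot]
  group

/-- Chain `O₂(C) ≥ R ≥ Z ≥ 1`. -/
theorem chain3 (hC : C ⊓ centralizer (o2 C : Set G) ≤ o2 C) {R Z : Subgroup G}
    (nR : ∀ c ∈ C, ∀ a ∈ R, c * a * c⁻¹ ∈ R) (nZ : ∀ c ∈ C, ∀ a ∈ Z, c * a * c⁻¹ ∈ Z)
    (hR : R ≤ o2 C) (hZ : Z ≤ o2 C) {g : G} (hg : g ∈ C)
    (h1 : ∀ a ∈ o2 C, g * a * g⁻¹ * a⁻¹ ∈ R) (h2 : ∀ a ∈ R, g * a * g⁻¹ * a⁻¹ ∈ Z)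
    (h3 : ∀ a ∈ Z, g * a = a * g) : g ∈ o2 C := by
  refine mem_of_list hC [R, Z] (by simpa using ⟨nR, nZ⟩) (by simpa using ⟨hR, hZ⟩) hg ?_
  simp only [List.cons_append, List.nil_append, List.isChain_cons_cons, List.isChain_singleton, and_true]
  refine ⟨h1, h2, fun a ha => ?_⟩
  rw [h3 a ha, mem_bot]
  group

/-- Chain `O₂(C) ≥ R ≥ U ≥ Z ≥ 1`. -/
theorem chain4 (hC : C ⊓ centralizer (o2 C : Set G) ≤ o2 C) {R U Z : Subgroup G}
    (nR : ∀ c ∈ C, ∀ a ∈ R, c * a * c⁻¹ ∈ R) (nU : ∀ c ∈ C, ∀ a ∈ U, c * a * c⁻¹ ∈ U)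
    (nZ : ∀ c ∈ C, ∀ a ∈ Z, c * a * c⁻¹ ∈ Z)
    (hR : R ≤ o2 C) (hU : U ≤ o2 C) (hZ : Z ≤ o2 C) {g : G} (hg : g ∈ C)
    (h1 : ∀ a ∈ o2 C, g * a * g⁻¹ * a⁻¹ ∈ R) (h2 : ∀ a ∈ R, g * a * g⁻¹ * a⁻¹ ∈ U)
    (h3 : ∀ a ∈ U, g * a * g⁻¹ * a⁻¹ ∈ Z) (h4 : ∀ a ∈ Z, g * a = a * g) : g ∈ o2 C := by
  refine mem_of_list hC [R, U, Z] (by simpa using ⟨nR, nU, nZ⟩) (by simpa using ⟨hR, hU, hZ⟩) hg ?_
  simp only [List.cons_append, List.nil_append, List.isChain_cons_cons, List.isChain_singleton, and_true]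
  refine ⟨h1, h2, h3, fun a ha => ?_⟩
  rw [h4 a ha, mem_bot]
  group

/-- Chain `O₂(C) ≥ R ≥ U ≥ W ≥ Z ≥ 1`. -/
theorem chain5 (hC : C ⊓ centralizer (o2 C : Set G) ≤ o2 C) {R U W Z : Subgroup G}
    (nR : ∀ c ∈ C, ∀ a ∈ R, c * a * c⁻¹ ∈ R) (nU : ∀ c ∈ C, ∀ a ∈ U, c * a * c⁻¹ ∈ U)
    (nW : ∀ c ∈ C, ∀ a ∈ W, c * a * c⁻¹ ∈ W) (nZ : ∀ c ∈ C, ∀ a ∈ Z, c * a * c⁻¹ ∈ Z)
    (hR : R ≤ o2 C) (hU : U ≤ o2 C) (hW : W ≤ o2 C) (hZ : Z ≤ o2 C) {g : G} (hg : g ∈ C)
    (h1 : ∀ a ∈ o2 C, g * a * g⁻¹ * a⁻¹ ∈ R) (h2 : ∀ a ∈ R, g * a * g⁻¹ * a⁻¹ ∈ U)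
    (h3 : ∀ a ∈ U, g * a * g⁻¹ * a⁻¹ ∈ W) (h4 : ∀ a ∈ W, g * a * g⁻¹ * a⁻¹ ∈ Z)
    (h5 : ∀ a ∈ Z, g * a = a * g) : g ∈ o2 C := by
  refine mem_of_list hC [R, U, W, Z] (by simpa using ⟨nR, nU, nW, nZ⟩)
    (by simpa using ⟨hR, hU, hW, hZ⟩) hg ?_
  simp only [List.cons_append, List.nil_append, List.isChain_cons_cons, List.isChain_singleton, and_true]
  refine ⟨h1, h2, h3, h4, fun a ha => ?_⟩
  rw [h5 a ha, mem_bot]
  group

end

end Cfsg.Agent.Omega.NOne.AG.K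

end
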