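import Cfsg.Agent.Co2Type.Quad
import Cfsg.Agent.Mrg.Omega.NOne.LemmaT
import Cfsg.Agent.MinSimple.CosetFam

section


/-!
# NO-1, THEOREM D0 (text #11921), abstract form (helper302)

Five points `z i` (the singular vectors of an `O₄⁻(2)`-module), `Q i` normal in `C(z i)`,
`Qs i ≤ Q i` with `[Qs i, Q i] ≤ ⟨z i⟩`, `Qs i` transitive on the other four points.  Then
`C_{Q i}(Qs i) = ⟨z i⟩`, and `Q i` is a large extraspecial group (`Large (Q i) (z i)`).
-/

set_option autoImplicit false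

namespace Cfsg.Agent.Omega.NOne.DZero

open Subgroup

variable {G : Type*} [Group G]

/-- The abstract configuration. -/
structure DZ (M : Subgroup G) (z : Fin 5 → G) (Q Qs : Fin 5 → Subgroup G) : Prop where
  inj : Function.Injective z
  ne_one : ∀ i, z i ≠ 1
  sq : ∀ i, z i * z i = 1
  comm : ∀ i j, z i * z j = z j * z i
  prod : ∀ a b c d e : Fin 5, [a, b, c, d, e].Nodup → z a * z b * z c * z d = z e
  QM : ∀ i, Q i ≤ M
  perm : ∀ m ∈ M, ∀ i, ∃ j, m * z i * m⁻¹ = z j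
  eqQ : ∀ m ∈ M, ∀ i j, m * z i * m⁻¹ = z j → ∀ x ∈ Q i, m * x * m⁻¹ ∈ Q j
  eqQs : ∀ m ∈ M, ∀ i j, m * z i * m⁻¹ = z j → ∀ x ∈ Qs i, m * x * m⁻¹ ∈ Qs j
  nQ : ∀ i c, c * z i = z i * c → ∀ x ∈ Q i, c * x * c⁻¹ ∈ Q i
  nQs : ∀ i c, c * z i = z i * c → ∀ x ∈ Qs i, c * x * c⁻¹ ∈ Qs i
  le : ∀ i, Qs i ≤ Q i
  zmem : ∀ i, z i ∈ Qs i
  Qz : ∀ i, ∀ x ∈ Q i, x * z i = z i * x
  comQ : ∀ i, ∀ x ∈ Qs i, ∀ y ∈ Q i, x * y = y * x ∨ x * y = z i * (y * x)
  pair : ∀ i j k, j ≠ i → k ≠ i → j ≠ k → z j * z k ∈ Qs i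
  swap : ∀ i j k l m : Fin 5, [i, j, k, l, m].Nodup → ∃ u ∈ Qs i, u * z j * u⁻¹ = z k ∧
    u * z k * u⁻¹ = z j ∧ u * z l * u⁻¹ = z m ∧ u * z m * u⁻¹ = z l
  min : ∀ i, ∀ Y : Subgroup G, Y ≤ Q i →
    (∀ m ∈ M, m * z i = z i * m → ∀ y ∈ Y, m * y * m⁻¹ ∈ Y) → Y ≠ ⊥ → z i ∈ Y

theorem exists_three : ∀ i j : Fin 5, i ≠ j → ∃ k l m : Fin 5, [i, j, k, l, m].Nodup := by
  decide

theorem exists_two : ∀ i j k : Fin 5, [i, j, k].Nodup → ∃ l m : Fin 5, [i, j, k, l, m].Nodup := by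
  decide

theorem exists_fifth : ∀ a b c d : Fin 5, [a, b, c, d].Nodup → ∃ e : Fin 5, [a, b, c, d, e].Nodup := by
  decide

theorem conj_comm {x y : G} (h : x * y * x⁻¹ = y) : x * y = y * x := by
  calc x * y = x * y * x⁻¹ * x := by group
    _ = y * x := by rw [h]

theorem comm_conj {x y : G} (h : x * y = y * x) : x * y * x⁻¹ = y := by
  rw [h]; group

namespace DZ

variable {M : Subgroup G} {z : Fin 5 → G} {Q Qs : Fin 5 → Subgroup G}

/-- `C_{Q i}(Qs i)` -/
def D (_h : DZ M z Q Qs) (i : Fin 5) : Subgroup G := Q i ⊓ centralizer (Qs i : Set G)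

variable (h : DZ M z Q Qs)
include h

theorem mem_D {i : Fin 5} {x : G} : x ∈ h.D i ↔ x ∈ Q i ∧ ∀ y ∈ Qs i, x * y = y * x := by
  rw [D, mem_inf, mem_centralizer_iff]
  exact and_congr_right fun _ => ⟨fun H y hy => (H y hy).symm, fun H y hy => (H y hy).symm⟩

theorem zinv (i : Fin 5) : (z i)⁻¹ = z i := inv_eq_of_mul_eq_one_left (h.sq i)

theorem z_mem_D (i : Fin 5) : z i ∈ h.D i :=
  h.mem_D.2 ⟨h.le i (h.zmem i), fun y hy => (h.Qz i y (h.le i hy)).symm⟩

theorem QsM (i : Fin 5) : Qs i ≤ M := (h.le i).trans (h.QM i)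

theorem pair_inj {a b c d : Fin 5} (hab : a ≠ b) (hcd : c ≠ d) (e : z a * z b = z c * z d) :
    (a = c ∧ b = d) ∨ (a = d ∧ b = c) := by
  by_cases hac : a = c
  · subst hac
    exact Or.inl ⟨rfl, h.inj (mul_left_cancel e)⟩
  by_cases had : a = d
  · subst had
    rw [h.comm c a] at e
    exact Or.inr ⟨rfl, h.inj (mul_left_cancel e)⟩
  by_cases hbc : b = c
  · subst hbc
    rw [h.comm a b] at e
    exact absurd (h.inj (mul_left_cancel e)) had
  by_cases hbd : b = d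
  · subst hbd
    exact absurd (h.inj (mul_right_cancel e)) hac
  exfalso
  obtain ⟨f, hf⟩ := exists_fifth a b c d (by simp [hab, hac, had, hbc, hbd, hcd])
  have h1 := h.prod a b c d f hf
  rw [e, mul_assoc, mul_assoc, ← mul_assoc (z d), h.comm d c, mul_assoc (z c), h.sq d, mul_one,
    h.sq c] at h1
  exact h.ne_one f h1.symm

/-- An element of `M` centralising all `z j * z k` (`j, k ≠ i`) centralises all points. -/
theorem fixpts {i : Fin 5} {m : G} (hm : m ∈ M) (hi : m * z i = z i * m)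
    (hp : ∀ j k, j ≠ i → k ≠ i → j ≠ k → m * (z j * z k) = z j * z k * m) (j : Fin 5) :
    m * z j = z j * m := by
  by_cases hji : j = i
  · rw [hji]; exact hi
  obtain ⟨k, l, n, hn⟩ := exists_three i j (Ne.symm hji)
  simp only [List.nodup_cons, List.mem_cons, List.not_mem_nil, or_false, not_or, not_false_eq_true,
    List.nodup_nil, and_true] at hn
  obtain ⟨⟨-, hik, hil, hin⟩, ⟨hjk, hjl, hjn⟩, ⟨hkl, hkn⟩, hln⟩ := hn
  obtain ⟨j', hj'⟩ := h.perm m hm j
  obtain ⟨k', hk'⟩ := h.perm m hm k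
  obtain ⟨l', hl'⟩ := h.perm m hm l
  have hne : ∀ a b a' b' : Fin 5, m * z a * m⁻¹ = z a' → m * z b * m⁻¹ = z b' → a ≠ b → a' ≠ b' := by
    intro a b a' b' ha hb hab e
    apply hab
    rw [← e, ← ha] at hb
    exact h.inj (mul_left_cancel (mul_right_cancel hb)).symm
  have h1 : z j' * z k' = z j * z k := by
    rw [← hj', ← hk']
    calc m * z j * m⁻¹ * (m * z k * m⁻¹) = m * (z j * z k) * m⁻¹ := by group
      _ = z j * z k := comm_conj (hp j k hji (Ne.symm hik) hjk)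
  have h2 : z j' * z l' = z j * z l := by
    rw [← hj', ← hl']
    calc m * z j * m⁻¹ * (m * z l * m⁻¹) = m * (z j * z l) * m⁻¹ := by group
      _ = z j * z l := comm_conj (hp j l hji (Ne.symm hil) hjl)
  have e : j' = j := by
    rcases h.pair_inj (hne _ _ _ _ hj' hk' hjk) hjk h1 with ⟨h3, -⟩ | ⟨h3, -⟩
    · exact h3
    · rcases h.pair_inj (hne _ _ _ _ hj' hl' hjl) hjl h2 with ⟨h4, -⟩ | ⟨h4, -⟩
      · exact h4
      · exact absurd (h3.symm.trans h4) hkl
  rw [e] at hj'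
  exact conj_comm hj'

/-- `D i` centralises all points. -/
theorem D_comm_z {i : Fin 5} {d : G} (hd : d ∈ h.D i) (j : Fin 5) : d * z j = z j * d := by
  obtain ⟨hd1, hd2⟩ := h.mem_D.1 hd
  exact h.fixpts (h.QM i hd1) (h.Qz i d hd1)
    (fun j k hj hk hjk => hd2 _ (h.pair i j k hj hk hjk)) j

/-- equivariance of `D` -/
theorem eqD {m : G} (hm : m ∈ M) {i j : Fin 5} (hij : m * z i * m⁻¹ = z j) {d : G}
    (hd : d ∈ h.D i) : m * d * m⁻¹ ∈ h.D j := by
  obtain ⟨hd1, hd2⟩ := h.mem_D.1 hd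
  refine h.mem_D.2 ⟨h.eqQ m hm i j hij d hd1, fun y hy => ?_⟩
  have hji : m⁻¹ * z j * m⁻¹⁻¹ = z i := by rw [← hij]; group
  have hy' := h.eqQs m⁻¹ (inv_mem hm) j i hji y hy
  have e := hd2 _ hy'
  calc m * d * m⁻¹ * y = m * (d * (m⁻¹ * y * m⁻¹⁻¹)) * m⁻¹ := by group
    _ = m * (m⁻¹ * y * m⁻¹⁻¹ * d) * m⁻¹ := by rw [e]
    _ = y * (m * d * m⁻¹) := by group

/-- `C(z i)` normalises `D i`. -/
theorem nD {i : Fin 5} {c : G} (hc : c * z i = z i * c) {d : G} (hd : d ∈ h.D i) :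
    c * d * c⁻¹ ∈ h.D i := by
  obtain ⟨hd1, hd2⟩ := h.mem_D.1 hd
  refine h.mem_D.2 ⟨h.nQ i c hc d hd1, fun y hy => ?_⟩
  have hc' : c⁻¹ * z i = z i * c⁻¹ := by
    rw [inv_mul_eq_iff_eq_mul, ← mul_assoc, hc, mul_assoc, mul_inv_cancel, mul_one]
  have hy' := h.nQs i c⁻¹ hc' y hy
  have e := hd2 _ hy'
  calc c * d * c⁻¹ * y = c * (d * (c⁻¹ * y * c⁻¹⁻¹)) * c⁻¹ := by group
    _ = c * (c⁻¹ * y * c⁻¹⁻¹ * d) * c⁻¹ := by rw [e]
    _ = y * (c * d * c⁻¹) := by group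

theorem swap' {i j k : Fin 5} (hij : i ≠ j) (hik : i ≠ k) (hjk : j ≠ k) :
    ∃ u ∈ Qs i, u * z j * u⁻¹ = z k := by
  obtain ⟨l, m, hn⟩ := exists_two i j k (by simp [hij, hik, hjk])
  obtain ⟨u, hu, h1, -⟩ := h.swap i j k l m hn
  exact ⟨u, hu, h1⟩

/-- (2) -/
theorem le_all {i j : Fin 5} (hij : i ≠ j) {y : G} (h1 : y ∈ h.D i) (h2 : y ∈ h.D j) (k : Fin 5) :
    y ∈ h.D k := by
  by_cases hki : i = k
  · rw [← hki]; exact h1
  by_cases hkj : j = k
  · rw [← hkj]; exact h2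
  obtain ⟨u, hu, hu1⟩ := h.swap' hij hki hkj
  have h3 := h.eqD (h.QsM i hu) hu1 h2
  rwa [comm_conj ((h.mem_D.1 h1).2 u hu).symm] at h3

/-- (2) `D i ∩ D j = 1` -/
theorem disj {i j : Fin 5} (hij : i ≠ j) {y : G} (h1 : y ∈ h.D i) (h2 : y ∈ h.D j) : y = 1 := by
  by_contra hy
  have hY : z i ∈ ⨅ k, h.D k := by
    refine h.min i (⨅ k, h.D k) ((iInf_le _ i).trans inf_le_left) ?_ ?_
    · intro m hm _ y hy
      rw [mem_iInf] at hy ⊢
      intro k
      obtain ⟨k', hk'⟩ := h.perm m⁻¹ (inv_mem hm) k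
      refine h.eqD hm ?_ (hy k')
      rw [← hk']; group
    · intro e
      apply hy
      have : y ∈ ⨅ k, h.D k := mem_iInf.2 fun k => h.le_all hij h1 h2 k
      rwa [e, mem_bot] at this
  rw [mem_iInf] at hY
  obtain ⟨k, l, n, hn⟩ := exists_three i j hij
  simp only [List.nodup_cons, List.mem_cons, List.not_mem_nil, or_false, not_or, not_false_eq_true,
    List.nodup_nil, and_true] at hn
  obtain ⟨⟨-, hik, -, -⟩, ⟨hjk, -, -⟩, -, -⟩ := hn
  obtain ⟨u, hu, hu1⟩ := h.swap' (Ne.symm hij) hjk hik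
  rw [comm_conj ((h.mem_D.1 (hY j)).2 u hu).symm] at hu1
  exact hik (h.inj hu1)

/-- (2) `[D i, D j] = 1` -/
theorem DD_comm {i j : Fin 5} (hij : i ≠ j) {a b : G} (ha : a ∈ h.D i) (hb : b ∈ h.D j) :
    a * b = b * a := by
  have h1 : a * b * a⁻¹ * b⁻¹ ∈ h.D j :=
    mul_mem (h.nD (h.D_comm_z ha j) hb) (inv_mem hb)
  have h2 : a * b * a⁻¹ * b⁻¹ ∈ h.D i := by
    have e : a * b * a⁻¹ * b⁻¹ = a * (b * a⁻¹ * b⁻¹) := by group
    rw [e]
    exact mul_mem ha (h.nD (h.D_comm_z hb i) (inv_mem ha))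
  have h3 := h.disj hij h2 h1
  rw [mul_inv_eq_one, mul_inv_eq_iff_eq_mul] at h3
  exact h3

/-- (3) `D j ∩ Q i = 1` -/
theorem D_inf_Q {i j : Fin 5} (hij : i ≠ j) {b : G} (hb : b ∈ h.D j) (hbi : b ∈ Q i) : b = 1 := by
  by_contra hb1
  have key : ∀ k, i ≠ k → j ≠ k → z i * b ∈ h.D k := by
    intro k hik hjk
    obtain ⟨u, hu, hu1⟩ := h.swap' hij hik hjk
    have h1 := h.eqD (h.QsM i hu) hu1 hb
    rcases h.comQ i u hu b hbi with h2 | h2
    · rw [comm_conj h2] at h1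
      exact absurd (h.disj hjk hb h1) hb1
    · have e : u * b * u⁻¹ = z i * b := by rw [h2]; group
      rwa [e] at h1
  obtain ⟨k, l, n, hn⟩ := exists_three i j hij
  simp only [List.nodup_cons, List.mem_cons, List.not_mem_nil, or_false, not_or, not_false_eq_true,
    List.nodup_nil, and_true] at hn
  obtain ⟨⟨-, hik, hil, -⟩, ⟨hjk, hjl, -⟩, ⟨hkl, -⟩, -⟩ := hn
  have h1 := h.disj hkl (key k hik hjk) (key l hil hjl)
  have h2 : b = z i := by rw [← h.zinv i]; exact (inv_eq_of_mul_eq_one_right h1).symm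
  apply hb1
  refine h.disj hij ?_ hb
  rw [h2]; exact h.z_mem_D i

/-- (4) `[D j, C_{Q i}(z j)] = 1` -/
theorem comm_CQ {i j : Fin 5} (hij : i ≠ j) {d w : G} (hd : d ∈ h.D j) (hw : w ∈ Q i)
    (hwj : w * z j = z j * w) : w * d = d * w := by
  have h1 : w * d * w⁻¹ * d⁻¹ ∈ h.D j := mul_mem (h.nD hwj hd) (inv_mem hd)
  have h2 : w * d * w⁻¹ * d⁻¹ ∈ Q i := by
    have e : w * d * w⁻¹ * d⁻¹ = w * (d * w⁻¹ * d⁻¹) := by group
    rw [e]
    exact mul_mem hw (h.nQ i d (h.D_comm_z hd i) _ (inv_mem hw))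
  have h3 := h.D_inf_Q hij h1 h2
  rw [mul_inv_eq_one, mul_inv_eq_iff_eq_mul] at h3
  exact h3

/-- (4) the transport of `d` depends only on the target point. -/
theorem tr {i j : Fin 5} (hij : i ≠ j) {d u u' : G} (hd : d ∈ h.D j) (hu : u ∈ Q i) (hu' : u' ∈ Q i)
    (e : u * z j * u⁻¹ = u' * z j * u'⁻¹) : u * d * u⁻¹ = u' * d * u'⁻¹ := by
  have h1 : (u'⁻¹ * u) * z j = z j * (u'⁻¹ * u) := by
    apply conj_comm
    calc u'⁻¹ * u * z j * (u'⁻¹ * u)⁻¹ = u'⁻¹ * (u * z j * u⁻¹) * u' := by group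
      _ = z j := by rw [e]; group
  have h2 := h.comm_CQ hij hd (mul_mem (inv_mem hu') hu) h1
  calc u * d * u⁻¹ = u' * ((u'⁻¹ * u) * d) * u⁻¹ := by group
    _ = u' * (d * (u'⁻¹ * u)) * u⁻¹ := by rw [h2]
    _ = u' * d * u'⁻¹ := by group

/-- `[u, d] ∈ Q i` -/
theorem comm_mem_Q {i j : Fin 5} {d u : G} (hd : d ∈ h.D j) (hu : u ∈ Q i) :
    u * d * u⁻¹ * d⁻¹ ∈ Q i := by
  have e : u * d * u⁻¹ * d⁻¹ = u * (d * u⁻¹ * d⁻¹) := by group
  rw [e]
  exact mul_mem hu (h.nQ i d (h.D_comm_z hd i) _ (inv_mem hu))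

/-- (4) `D j` is abelian. -/
theorem D_abelian {j : Fin 5} {a b : G} (ha : a ∈ h.D j) (hb : b ∈ h.D j) : a * b = b * a := by
  obtain ⟨i, hij⟩ : ∃ i : Fin 5, i ≠ j := exists_ne j
  obtain ⟨k, l, n, hn⟩ := exists_three i j hij
  simp only [List.nodup_cons, List.mem_cons, List.not_mem_nil, or_false, not_or, not_false_eq_true,
    List.nodup_nil, and_true] at hn
  obtain ⟨⟨-, hik, hil, -⟩, ⟨hjk, hjl, -⟩, ⟨hkl, -⟩, -⟩ := hn
  obtain ⟨u, hu, hu1⟩ := h.swap' hij hik hjk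
  have ha' := h.eqD (h.QsM i hu) hu1 ha
  have h1 := h.DD_comm (Ne.symm hjk) ha' hb
  set q := u * a * u⁻¹ * a⁻¹ with hq
  have hqi : q ∈ Q i := h.comm_mem_Q ha (h.le i hu)
  have e1 : u * a * u⁻¹ = q * a := by rw [hq]; group
  rw [e1] at h1
  -- `q a b = b q a`
  have h2 : a * b * a⁻¹ * b⁻¹ = q⁻¹ * (b * q * b⁻¹) := by
    calc a * b * a⁻¹ * b⁻¹ = q⁻¹ * (q * a * b) * a⁻¹ * b⁻¹ := by group
      _ = q⁻¹ * (b * (q * a)) * a⁻¹ * b⁻¹ := by rw [h1]
      _ = q⁻¹ * (b * q * b⁻¹) := by group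
  have h3 : a * b * a⁻¹ * b⁻¹ ∈ Q i := by
    rw [h2]
    exact mul_mem (inv_mem hqi) (h.nQ i b (h.D_comm_z hb i) _ hqi)
  have h4 : a * b * a⁻¹ * b⁻¹ ∈ h.D j :=
    mul_mem (mul_mem (mul_mem ha hb) (inv_mem ha)) (inv_mem hb)
  have h5 := h.D_inf_Q hij h4 h3
  rw [mul_inv_eq_one, mul_inv_eq_iff_eq_mul] at h5
  exact h5

/-- `e` is the transport of `d ∈ D j` to the point `z k` by `Qs i`. -/
def T (_h : DZ M z Q Qs) (i j k : Fin 5) (d e : G) : Prop :=
  ∃ u ∈ Qs i, u * z j * u⁻¹ = z k ∧ e = u * d * u⁻¹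

theorem T_mem {i j k : Fin 5} {d e : G} (hd : d ∈ h.D j) (hT : h.T i j k d e) : e ∈ h.D k := by
  obtain ⟨u, hu, hu1, rfl⟩ := hT
  exact h.eqD (h.QsM i hu) hu1 hd

theorem T_eq {i j k : Fin 5} (hij : i ≠ j) {d e u : G} (hd : d ∈ h.D j) (hT : h.T i j k d e)
    (hu : u ∈ Qs i) (hu1 : u * z j * u⁻¹ = z k) : u * d * u⁻¹ = e := by
  obtain ⟨v, hv, hv1, rfl⟩ := hT
  exact h.tr hij hd (h.le i hu) (h.le i hv) (hu1.trans hv1.symm)

/-- (5) -/
theorem key {i j k l m : Fin 5} (hn : [i, j, k, l, m].Nodup) {d b c e : G} (hd : d ∈ h.D j)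
    (hb : h.T i j k d b) (hc : h.T i j l d c) (he : h.T i j m d e) :
    e * d = b * c ∨ e * d = z i * (b * c) := by
  have hn' := hn
  simp only [List.nodup_cons, List.mem_cons, List.not_mem_nil, or_false, not_or, not_false_eq_true,
    List.nodup_nil, and_true] at hn
  obtain ⟨⟨hij, hik, hil, him⟩, ⟨hjk, hjl, hjm⟩, ⟨hkl, hkm⟩, hlm⟩ := hn
  obtain ⟨u, hu, hu1, -⟩ := h.swap i j k l m hn'
  obtain ⟨v, hv, hv1, hv2, hv3, hv4⟩ := h.swap i j l k m (by
    simp [hij, hik, hil, him, hjk, hjl, hjm, Ne.symm hkl, hkm, hlm])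
  have eb : u * d * u⁻¹ = b := h.T_eq hij hd hb hu hu1
  have ec : v * d * v⁻¹ = c := h.T_eq hij hd hc hv hv1
  have ee : v * b * v⁻¹ = e := by
    have h1 : (v * u) * z j * (v * u)⁻¹ = z m := by
      calc (v * u) * z j * (v * u)⁻¹ = v * (u * z j * u⁻¹) * v⁻¹ := by group
        _ = z m := by rw [hu1, hv3]
    have h2 := h.T_eq hij hd he (mul_mem hv hu) h1
    rw [← h2, ← eb]; group
  have hbD := h.T_mem hd hb
  have hcD := h.T_mem hd hc
  have hx : b * d⁻¹ ∈ Q i := by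
    rw [← eb]; exact h.comm_mem_Q hd (h.le i hu)
  have hcd : c * d = d * c := h.DD_comm (Ne.symm hjl) hcD hd
  have hv5 : v * (b * d⁻¹) * v⁻¹ = e * c⁻¹ := by
    rw [← ee, ← ec]; group
  rcases h.comQ i v hv _ hx with h1 | h1
  · left
    rw [comm_conj h1] at hv5
    have h2 : e = b * d⁻¹ * c := by rw [hv5]; group
    rw [h2, mul_assoc, hcd]; group
  · right
    have h3 : v * (b * d⁻¹) * v⁻¹ = z i * (b * d⁻¹) := by rw [h1]; group
    rw [h3] at hv5
    have h2 : e = z i * (b * d⁻¹) * c := by rw [hv5]; group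
    rw [h2, mul_assoc, hcd]; group

/-- all transports exist -/
theorem exists_T {i j k : Fin 5} (hij : i ≠ j) (hik : i ≠ k) (hjk : j ≠ k) (d : G) :
    ∃ e, h.T i j k d e := by
  obtain ⟨u, hu, hu1⟩ := h.swap' hij hik hjk
  exact ⟨_, u, hu, hu1, rfl⟩

theorem sq_or {i j k l m : Fin 5} (hn : [i, j, k, l, m].Nodup) {d b c e : G} (hd : d ∈ h.D j)
    (hb : h.T i j k d b) (hc : h.T i j l d c) (he : h.T i j m d e) :
    d * d = b * b ∨ d * d = z i * (b * b) := by
  have h1 := h.key hn hd hb hc he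
  have hn' := hn
  simp only [List.nodup_cons, List.mem_cons, List.not_mem_nil, or_false, not_or, not_false_eq_true,
    List.nodup_nil, and_true] at hn
  obtain ⟨⟨hij, hik, hil, him⟩, ⟨hjk, hjl, hjm⟩, ⟨hkl, hkm⟩, hlm⟩ := hn
  have h2 := h.key (k := k) (l := m) (m := l) (by
    simp [hij, hik, hil, him, hjk, hjl, hjm, hkl, hkm, Ne.symm hlm]) hd hb he hc
  have hbD := h.T_mem hd hb
  have hcD := h.T_mem hd hc
  have heD := h.T_mem hd he
  have hcd : c * d = d * c := h.DD_comm (Ne.symm hjl) hcD hd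
  have hed : e * d = d * e := h.DD_comm (Ne.symm hjm) heD hd
  have hce : c * e = e * c := h.DD_comm hlm hcD heD
  have hbc : b * c = c * b := h.DD_comm hkl hbD hcD
  have hbe : b * e = e * b := h.DD_comm hkm hbD heD
  have hbz : b * z i = z i * b := h.D_comm_z hbD i
  have hcz : c * z i = z i * c := h.D_comm_z hcD i
  have hez : e * z i = z i * e := h.D_comm_z heD i
  have hdz : d * z i = z i * d := h.D_comm_z hd i
  have hzz := h.sq i
  -- `(c e)⁻¹ (e d) (c d) = d²`, `(c e)⁻¹ (b c) (b e) = b²`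
  have a1 : e * d * (c * d) = c * e * (d * d) := by
    calc e * d * (c * d) = e * (d * c) * d := by group
      _ = e * (c * d) * d := by rw [hcd]
      _ = (e * c) * (d * d) := by group
      _ = c * e * (d * d) := by rw [hce]
  have a2 : b * c * (b * e) = c * e * (b * b) := by
    calc b * c * (b * e) = (b * c) * (b * e) := rfl
      _ = (c * b) * (e * b) := by rw [hbc, hbe]
      _ = c * (b * e) * b := by group
      _ = c * (e * b) * b := by rw [hbe]
      _ = c * e * (b * b) := by group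
  rcases h1 with h1 | h1 <;> rcases h2 with h2 | h2
  · left
    rw [h1, h2, a2] at a1
    exact (mul_left_cancel a1).symm
  · right
    rw [h1, h2] at a1
    have a3 : b * c * (z i * (b * e)) = c * e * (z i * (b * b)) := by
      calc b * c * (z i * (b * e)) = b * (c * z i) * (b * e) := by group
        _ = b * (z i * c) * (b * e) := by rw [hcz]
        _ = (b * z i) * c * (b * e) := by group
        _ = (z i * b) * c * (b * e) := by rw [hbz]
        _ = z i * (b * c * (b * e)) := by group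
        _ = z i * (c * e * (b * b)) := by rw [a2]
        _ = (z i * c) * e * (b * b) := by group
        _ = (c * z i) * e * (b * b) := by rw [hcz]
        _ = c * (z i * e) * (b * b) := by group
        _ = c * (e * z i) * (b * b) := by rw [hez]
        _ = c * e * (z i * (b * b)) := by group
    rw [a3] at a1
    exact (mul_left_cancel a1).symm
  · right
    rw [h1, h2] at a1
    have a3 : z i * (b * c) * (b * e) = c * e * (z i * (b * b)) := by
      calc z i * (b * c) * (b * e) = z i * (b * c * (b * e)) := by group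
        _ = z i * (c * e * (b * b)) := by rw [a2]
        _ = (z i * c) * e * (b * b) := by group
        _ = (c * z i) * e * (b * b) := by rw [hcz]
        _ = c * (z i * e) * (b * b) := by group
        _ = c * (e * z i) * (b * b) := by rw [hez]
        _ = c * e * (z i * (b * b)) := by group
    rw [a3] at a1
    exact (mul_left_cancel a1).symm
  · left
    rw [h1, h2] at a1
    have a3 : z i * (b * c) * (z i * (b * e)) = c * e * (b * b) := by
      calc z i * (b * c) * (z i * (b * e)) = z i * b * (c * z i) * (b * e) := by group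
        _ = z i * b * (z i * c) * (b * e) := by rw [hcz]
        _ = z i * (b * z i) * c * (b * e) := by group
        _ = z i * (z i * b) * c * (b * e) := by rw [hbz]
        _ = (z i * z i) * (b * c * (b * e)) := by group
        _ = c * e * (b * b) := by rw [hzz, one_mul, a2]
    rw [a3] at a1
    exact (mul_left_cancel a1).symm

/-- (5) `D j` is elementary abelian. -/
theorem D_sq {j : Fin 5} {d : G} (hd : d ∈ h.D j) : d * d = 1 := by
  obtain ⟨i, hij⟩ : ∃ i : Fin 5, i ≠ j := exists_ne j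
  obtain ⟨k, l, m, hn⟩ := exists_three i j hij
  have hn' := hn
  simp only [List.nodup_cons, List.mem_cons, List.not_mem_nil, or_false, not_or, not_false_eq_true,
    List.nodup_nil, and_true] at hn
  obtain ⟨⟨-, hik, hil, him⟩, ⟨hjk, hjl, hjm⟩, ⟨hkl, hkm⟩, hlm⟩ := hn
  obtain ⟨b, hb⟩ := h.exists_T hij hik hjk d
  obtain ⟨c, hc⟩ := h.exists_T hij hil hjl d
  obtain ⟨e, he⟩ := h.exists_T hij him hjm d
  have hbD := h.T_mem hd hb
  have hcD := h.T_mem hd hc
  have h1 := h.sq_or hn' hd hb hc he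
  have h2 := h.sq_or (k := l) (l := k) (m := m) (by
    simp [hij, hik, hil, him, hjk, hjl, hjm, Ne.symm hkl, hkm, hlm]) hd hc hb he
  rcases h1 with h1 | h1
  · refine h.disj hjk (mul_mem hd hd) ?_
    rw [h1]; exact mul_mem hbD hbD
  rcases h2 with h2 | h2
  · refine h.disj hjl (mul_mem hd hd) ?_
    rw [h2]; exact mul_mem hcD hcD
  have h3 : b * b = c * c := mul_left_cancel (h1.symm.trans h2)
  have h4 : b * b = 1 := by
    refine h.disj hkl (mul_mem hbD hbD) ?_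
    rw [h3]; exact mul_mem hcD hcD
  obtain ⟨u, hu, hu1, rfl⟩ := hb
  have h5 : u * (d * d) * u⁻¹ = 1 := by
    rw [← h4]; group
  calc d * d = u⁻¹ * (u * (d * d) * u⁻¹) * u := by group
    _ = 1 := by rw [h5]; group

/-- (6) an element of `Qs i` fixing a point `z j`, `j ≠ i`, fixes all points. -/
theorem reg {i j : Fin 5} (hij : i ≠ j) {u : G} (hu : u ∈ Qs i) (huj : u * z j = z j * u) (k : Fin 5) :
    u * z k = z k * u := by
  have hui : u * z i = z i * u := h.Qz i u (h.le i hu)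
  have key : ∀ k, k ≠ i → u * z k = z k * u := by
    intro k hki
    by_cases hkj : k = j
    · rw [hkj]; exact huj
    have hp := h.le i (h.pair i j k (Ne.symm hij) hki (Ne.symm hkj))
    obtain ⟨k', hk'⟩ := h.perm u (h.QsM i hu) k
    rcases h.comQ i u hu _ hp with h1 | h1
    · have h2 : z j * (u * z k) = z j * (z k * u) := by
        calc z j * (u * z k) = (z j * u) * z k := by group
          _ = (u * z j) * z k := by rw [huj]
          _ = u * (z j * z k) := by group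
          _ = z j * z k * u := h1
          _ = z j * (z k * u) := by group
      exact mul_left_cancel h2
    · exfalso
      have h2 : u * z k * u⁻¹ = z i * z k := by
        have h3 : z j * (u * z k) = z j * (z i * z k * u) := by
          calc z j * (u * z k) = (z j * u) * z k := by group
            _ = (u * z j) * z k := by rw [huj]
            _ = u * (z j * z k) := by group
            _ = z i * (z j * z k * u) := h1
            _ = (z i * z j) * (z k * u) := by group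
            _ = (z j * z i) * (z k * u) := by rw [h.comm i j]
            _ = z j * (z i * z k * u) := by group
        rw [mul_left_cancel h3]; group
      rw [h2] at hk'
      -- `z i * z k = z k'`: three points with product one
      have hk'i : k' ≠ i := by
        rintro rfl
        exact h.ne_one k (mul_eq_left.1 hk')
      have hk'k : k' ≠ k := by
        rintro rfl
        exact h.ne_one i (mul_eq_right.1 hk')
      obtain ⟨a, b, hab⟩ := exists_two i k k' (by simp [Ne.symm hki, Ne.symm hk'i, Ne.symm hk'k])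
      have h4 := h.prod i k k' a b hab
      rw [hk', h.sq, one_mul] at h4
      simp only [List.nodup_cons, List.mem_cons, List.not_mem_nil, or_false, not_or,
        not_false_eq_true, List.nodup_nil, and_true] at hab
      exact hab.2.2.2 (h.inj h4)
  by_cases hki : k = i
  · rw [hki]; exact hui
  · exact key k hki

/-- (6) `A i j = {d ∈ D j : [Qs i, d] ≤ D i}` -/
def A (i j : Fin 5) (hij : i ≠ j) : Subgroup G where
  carrier := {d | d ∈ h.D j ∧ ∀ u ∈ Qs i, u * d * u⁻¹ * d⁻¹ ∈ h.D i}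
  one_mem' := ⟨one_mem _, fun u _ => by simp⟩
  mul_mem' := by
    rintro a b ⟨ha, ha'⟩ ⟨hb, hb'⟩
    refine ⟨mul_mem ha hb, fun u hu => ?_⟩
    have h1 := h.DD_comm hij (hb' u hu) ha
    have e : u * (a * b) * u⁻¹ * (a * b)⁻¹ =
        (u * a * u⁻¹ * a⁻¹) * (u * b * u⁻¹ * b⁻¹) := by
      calc u * (a * b) * u⁻¹ * (a * b)⁻¹ =
          u * a * u⁻¹ * ((u * b * u⁻¹ * b⁻¹) * a⁻¹) := by group
        _ = u * a * u⁻¹ * (a⁻¹ * (a * (u * b * u⁻¹ * b⁻¹)) * a⁻¹) := by group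
        _ = u * a * u⁻¹ * (a⁻¹ * ((u * b * u⁻¹ * b⁻¹) * a) * a⁻¹) := by rw [h1]
        _ = (u * a * u⁻¹ * a⁻¹) * (u * b * u⁻¹ * b⁻¹) := by group
    rw [e]
    exact mul_mem (ha' u hu) (hb' u hu)
  inv_mem' := by
    rintro a ⟨ha, ha'⟩
    refine ⟨inv_mem ha, fun u hu => ?_⟩
    have h1 := h.DD_comm hij (inv_mem (ha' u hu)) ha
    have e : u * a⁻¹ * u⁻¹ * a⁻¹⁻¹ = (u * a * u⁻¹ * a⁻¹)⁻¹ := by
      calc u * a⁻¹ * u⁻¹ * a⁻¹⁻¹ = a⁻¹ * ((u * a * u⁻¹ * a⁻¹)⁻¹ * a) := by group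
        _ = a⁻¹ * (a * (u * a * u⁻¹ * a⁻¹)⁻¹) := by rw [h1]
        _ = (u * a * u⁻¹ * a⁻¹)⁻¹ := by group
    rw [e]
    exact inv_mem (ha' u hu)

theorem mem_A {i j : Fin 5} {hij : i ≠ j} {d : G} :
    d ∈ h.A i j hij ↔ d ∈ h.D j ∧ ∀ u ∈ Qs i, u * d * u⁻¹ * d⁻¹ ∈ h.D i := Iff.rfl

/-- equivariance of `A` -/
theorem eqA {m : G} (hm : m ∈ M) {i j i' j' : Fin 5} (hi : m * z i * m⁻¹ = z i')
    (hj : m * z j * m⁻¹ = z j') {hij : i ≠ j} {hij' : i' ≠ j'} {d : G} (hd : d ∈ h.A i j hij) :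
    m * d * m⁻¹ ∈ h.A i' j' hij' := by
  obtain ⟨hd1, hd2⟩ := h.mem_A.1 hd
  refine h.mem_A.2 ⟨h.eqD hm hj hd1, fun u hu => ?_⟩
  have hi' : m⁻¹ * z i' * m⁻¹⁻¹ = z i := by rw [← hi]; group
  have h1 := h.eqD hm hi (hd2 _ (h.eqQs m⁻¹ (inv_mem hm) i' i hi' u hu))
  have e : u * (m * d * m⁻¹) * u⁻¹ * (m * d * m⁻¹)⁻¹ =
      m * (m⁻¹ * u * m⁻¹⁻¹ * d * (m⁻¹ * u * m⁻¹⁻¹)⁻¹ * d⁻¹) * m⁻¹ := by group
  rw [e]; exact h1

/-- (6) `A i j` does not depend on `i`. -/
theorem A_indep {i i' j : Fin 5} {hij : i ≠ j} {hij' : i' ≠ j} {d : G} (hd : d ∈ h.A i j hij) :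
    d ∈ h.A i' j hij' := by
  by_cases hii : i = i'
  · subst hii; exact hd
  obtain ⟨w, hw, hw1⟩ := h.swap' (Ne.symm hij) (Ne.symm hij') hii
  have hwj : w * z j * w⁻¹ = z j := comm_conj (h.Qz j w (h.le j hw))
  have h1 := h.eqA (hij' := hij') (h.QsM j hw) hw1 hwj hd
  rwa [comm_conj ((h.mem_D.1 (h.mem_A.1 hd).1).2 w hw).symm] at h1

/-- (6) `z j ∉ A i j` -/
theorem z_notMem_A {i j : Fin 5} {hij : i ≠ j} : z j ∉ h.A i j hij := by
  intro hz
  obtain ⟨k, l, m, hn⟩ := exists_three i j hij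
  have hn' := hn
  simp only [List.nodup_cons, List.mem_cons, List.not_mem_nil, or_false, not_or, not_false_eq_true,
    List.nodup_nil, and_true] at hn
  obtain ⟨⟨-, hik, hil, him⟩, ⟨hjk, hjl, hjm⟩, ⟨hkl, hkm⟩, hlm⟩ := hn
  obtain ⟨u, hu, hu1, -⟩ := h.swap i j k l m hn'
  obtain ⟨v, hv, hv1, hv2, hv3, hv4⟩ := h.swap i j l k m (by
    simp [hij, hik, hil, him, hjk, hjl, hjm, Ne.symm hkl, hkm, hlm])
  have h1 := (h.mem_D.1 ((h.mem_A.1 hz).2 u hu)).2 v hv
  rw [hu1, h.zinv] at h1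
  have h2 : v * (z k * z j) * v⁻¹ = z k * z j := comm_conj h1.symm
  have h3 : v * (z k * z j) * v⁻¹ = z m * z l := by
    calc v * (z k * z j) * v⁻¹ = (v * z k * v⁻¹) * (v * z j * v⁻¹) := by group
      _ = z m * z l := by rw [hv3, hv1]
  rw [h3] at h2
  rcases h.pair_inj (Ne.symm hlm) (Ne.symm hjk) h2 with ⟨h4, -⟩ | ⟨h4, -⟩
  · exact hkm h4.symm
  · exact hjm h4.symm

/-- (6) an element of `D j` with trivial norm lies in `A i j`. -/
theorem mem_A_of {i j k l m : Fin 5} (hn : [i, j, k, l, m].Nodup) (hij : i ≠ j) {d b c e : G}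
    (hd : d ∈ h.D j) (hb : h.T i j k d b) (hc : h.T i j l d c) (he : h.T i j m d e)
    (h1 : e * d = b * c) : d ∈ h.A i j hij := by
  have hn' := hn
  simp only [List.nodup_cons, List.mem_cons, List.not_mem_nil, or_false, not_or, not_false_eq_true,
    List.nodup_nil, and_true] at hn
  obtain ⟨⟨-, hik, hil, him⟩, ⟨hjk, hjl, hjm⟩, ⟨hkl, hkm⟩, hlm⟩ := hn
  have hbD := h.T_mem hd hb
  have hcD := h.T_mem hd hc
  have heD := h.T_mem hd he
  have hcd : c * d = d * c := h.DD_comm (Ne.symm hjl) hcD hd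
  have hed : e * d = d * e := h.DD_comm (Ne.symm hjm) heD hd
  have hbd : b * d = d * b := h.DD_comm (Ne.symm hjk) hbD hd
  have hce : c * e = e * c := h.DD_comm hlm hcD heD
  have hbc : b * c = c * b := h.DD_comm hkl hbD hcD
  have hbe : b * e = e * b := h.DD_comm hkm hbD heD
  have dd := h.D_sq hd
  have bb := h.D_sq hbD
  have cc := h.D_sq hcD
  have ee := h.D_sq heD
  obtain ⟨u, hu, hu1, hu2, hu3, hu4⟩ := h.swap i j k l m hn'
  obtain ⟨v, hv, hv1, hv2, hv3, hv4⟩ := h.swap i j l k m (by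
    simp [hij, hik, hil, him, hjk, hjl, hjm, Ne.symm hkl, hkm, hlm])
  have ub : u * d * u⁻¹ = b := h.T_eq hij hd hb hu hu1
  have vc : v * d * v⁻¹ = c := h.T_eq hij hd hc hv hv1
  have vb : v * b * v⁻¹ = e := by
    have h1 : (v * u) * z j * (v * u)⁻¹ = z m := by
      calc (v * u) * z j * (v * u)⁻¹ = v * (u * z j * u⁻¹) * v⁻¹ := by group
        _ = z m := by rw [hu1, hv3]
    have h2 := h.T_eq hij hd he (mul_mem hv hu) h1
    rw [← h2, ← ub]; group
  have uc : u * c * u⁻¹ = e := by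
    have h1 : (u * v) * z j * (u * v)⁻¹ = z m := by
      calc (u * v) * z j * (u * v)⁻¹ = u * (v * z j * v⁻¹) * u⁻¹ := by group
        _ = z m := by rw [hv1, hu3]
    have h2 := h.T_eq hij hd he (mul_mem hu hv) h1
    rw [← h2, ← vc]; group
  -- the other four products
  have r1 : e * d = b * c := h1
  have r2 : c * d = b * e := by
    have : b * (e * d) = b * (b * c) := by rw [h1]
    have h3 : b * (e * d) = c := by rw [this, ← mul_assoc, bb, one_mul]
    calc c * d = b * (e * d) * d := by rw [h3]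
      _ = b * e * (d * d) := by group
      _ = b * e := by rw [dd, mul_one]
  have r3 : b * d = c * e := by
    have : c * (e * d) = c * (c * b) := by rw [h1, hbc]
    have h3 : c * (e * d) = b := by rw [this, ← mul_assoc, cc, one_mul]
    calc b * d = c * (e * d) * d := by rw [h3]
      _ = c * e * (d * d) := by group
      _ = c * e := by rw [dd, mul_one]
  -- conjugation by `u`, `v` on the four elements
  have ud : u * b * u⁻¹ = d := by
    have h2 : (u * u) * z j * (u * u)⁻¹ = z j := by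
      calc (u * u) * z j * (u * u)⁻¹ = u * (u * z j * u⁻¹) * u⁻¹ := by group
        _ = z j := by rw [hu1, hu2]
    have h3 := h.comm_CQ hij hd (h.le i (mul_mem hu hu)) (conj_comm h2)
    rw [← ub]
    calc u * (u * d * u⁻¹) * u⁻¹ = (u * u) * d * (u * u)⁻¹ := by group
      _ = d := comm_conj h3
  have vd : v * c * v⁻¹ = d := by
    have h2 : (v * v) * z j * (v * v)⁻¹ = z j := by
      calc (v * v) * z j * (v * v)⁻¹ = v * (v * z j * v⁻¹) * v⁻¹ := by group
        _ = z j := by rw [hv1, hv2]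
    have h3 := h.comm_CQ hij hd (h.le i (mul_mem hv hv)) (conj_comm h2)
    rw [← vc]
    calc v * (v * d * v⁻¹) * v⁻¹ = (v * v) * d * (v * v)⁻¹ := by group
      _ = d := comm_conj h3
  have ue : u * e * u⁻¹ = c := by
    have h2 : (u * u) * z l * (u * u)⁻¹ = z l := by
      calc (u * u) * z l * (u * u)⁻¹ = u * (u * z l * u⁻¹) * u⁻¹ := by group
        _ = z l := by rw [hu3, hu4]
    have h3 := h.comm_CQ hil hcD (h.le i (mul_mem hu hu)) (conj_comm h2)
    rw [← uc]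
    calc u * (u * c * u⁻¹) * u⁻¹ = (u * u) * c * (u * u)⁻¹ := by group
      _ = c := comm_conj h3
  have ve : v * e * v⁻¹ = b := by
    have h2 : (v * v) * z k * (v * v)⁻¹ = z k := by
      calc (v * v) * z k * (v * v)⁻¹ = v * (v * z k * v⁻¹) * v⁻¹ := by group
        _ = z k := by rw [hv3, hv4]
    have h3 := h.comm_CQ hik hbD (h.le i (mul_mem hv hv)) (conj_comm h2)
    rw [← vb]
    calc v * (v * b * v⁻¹) * v⁻¹ = (v * v) * b * (v * v)⁻¹ := by group
      _ = b := comm_conj h3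
  -- an element commuting with `u`, `v` and lying in `D a · D d` commutes with `Qs i`
  have gen : ∀ a : Fin 5, i ≠ a → ∀ x ∈ h.D a, u * (x * d) * u⁻¹ = x * d →
      v * (x * d) * v⁻¹ = x * d → ∀ w ∈ Qs i, x * d * w = w * (x * d) := by
    intro a hia x hx hux hvx w hw
    obtain ⟨n, hn⟩ := h.perm w (h.QsM i hw) j
    -- `w` acts on the points as `t ∈ {1, u, v, v u}`
    have main : ∀ t ∈ Qs i, t * (x * d) * t⁻¹ = x * d → w * z j * w⁻¹ = t * z j * t⁻¹ →
        x * d * w = w * (x * d) := by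
      intro t ht htx e1
      have h2 : (t⁻¹ * w) * z j = z j * (t⁻¹ * w) := by
        apply conj_comm
        calc t⁻¹ * w * z j * (t⁻¹ * w)⁻¹ = t⁻¹ * (w * z j * w⁻¹) * t := by group
          _ = z j := by rw [e1]; group
      have htw := mul_mem (inv_mem ht) hw
      have h3 := h.comm_CQ hij hd (h.le i htw) h2
      have h4 := h.comm_CQ hia hx (h.le i htw) (h.reg hij htw h2 a)
      have h5 : (t⁻¹ * w) * (x * d) = (x * d) * (t⁻¹ * w) := by
        calc (t⁻¹ * w) * (x * d) = (t⁻¹ * w * x) * d := by group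
          _ = x * (t⁻¹ * w * d) := by rw [h4]; group
          _ = (x * d) * (t⁻¹ * w) := by rw [h3]; group
      have h6 : t * (x * d) = x * d * t := conj_comm htx
      calc x * d * w = x * d * t * (t⁻¹ * w) := by group
        _ = t * (x * d) * (t⁻¹ * w) := by rw [h6]
        _ = t * ((x * d) * (t⁻¹ * w)) := by group
        _ = t * ((t⁻¹ * w) * (x * d)) := by rw [h5]
        _ = w * (x * d) := by group
    have hni : n ≠ i := by
      rintro rfl
      have h2 : w * z n * w⁻¹ = z n := comm_conj (h.Qz n w (h.le n hw))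
      rw [← h2] at hn
      exact hij (h.inj (mul_left_cancel (mul_right_cancel hn))).symm
    have hcases : ∀ i j k l m : Fin 5, [i, j, k, l, m].Nodup → ∀ n, n ≠ i →
        n = j ∨ n = k ∨ n = l ∨ n = m := by decide
    rcases hcases i j k l m hn' n hni with rfl | rfl | rfl | rfl
    · exact main 1 (one_mem _) (by group) (by rw [hn]; group)
    · exact main u hu hux (by rw [hn, hu1])
    · exact main v hv hvx (by rw [hn, hv1])
    · refine main (v * u) (mul_mem hv hu) ?_ ?_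
      · calc (v * u) * (x * d) * (v * u)⁻¹ = v * (u * (x * d) * u⁻¹) * v⁻¹ := by group
          _ = x * d := by rw [hux, hvx]
      · rw [hn]
        calc z n = v * (u * z j * u⁻¹) * v⁻¹ := by rw [hu1, hv3]
          _ = (v * u) * z j * (v * u)⁻¹ := by group
  have inv_d : d⁻¹ = d := inv_eq_of_mul_eq_one_left dd
  refine h.mem_A.2 ⟨hd, fun w hw => ?_⟩
  refine h.mem_D.2 ⟨h.comm_mem_Q hd (h.le i hw), fun y hy => ?_⟩
  rw [inv_d]
  -- `w d w⁻¹ ∈ {d, b, c, e}`
  obtain ⟨n, hn⟩ := h.perm w (h.QsM i hw) j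
  have hni : n ≠ i := by
    rintro rfl
    have h2 : w * z n * w⁻¹ = z n := comm_conj (h.Qz n w (h.le n hw))
    rw [← h2] at hn
    exact hij (h.inj (mul_left_cancel (mul_right_cancel hn))).symm
  have hcases : ∀ i j k l m : Fin 5, [i, j, k, l, m].Nodup → ∀ n, n ≠ i →
      n = j ∨ n = k ∨ n = l ∨ n = m := by decide
  rcases hcases i j k l m hn' n hni with rfl | rfl | rfl | rfl
  · have h2 := h.comm_CQ hij hd (h.le i hw) (conj_comm hn)
    rw [comm_conj h2, dd, one_mul, mul_one]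
  · rw [h.T_eq hij hd hb hw hn]
    refine gen n hik b hbD ?_ ?_ y hy
    · calc u * (b * d) * u⁻¹ = (u * b * u⁻¹) * (u * d * u⁻¹) := by group
        _ = b * d := by rw [ud, ub, hbd]
    · calc v * (b * d) * v⁻¹ = (v * b * v⁻¹) * (v * d * v⁻¹) := by group
        _ = b * d := by rw [vb, vc, ← hce, r3]
  · rw [h.T_eq hij hd hc hw hn]
    refine gen n hil c hcD ?_ ?_ y hy
    · calc u * (c * d) * u⁻¹ = (u * c * u⁻¹) * (u * d * u⁻¹) := by group
        _ = c * d := by rw [uc, ub, ← hbe, r2]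
    · calc v * (c * d) * v⁻¹ = (v * c * v⁻¹) * (v * d * v⁻¹) := by group
        _ = c * d := by rw [vd, vc, hcd]
  · rw [h.T_eq hij hd he hw hn]
    refine gen n him e heD ?_ ?_ y hy
    · calc u * (e * d) * u⁻¹ = (u * e * u⁻¹) * (u * d * u⁻¹) := by group
        _ = e * d := by rw [ue, ub, ← hbc, r1]
    · calc v * (e * d) * v⁻¹ = (v * e * v⁻¹) * (v * d * v⁻¹) := by group
        _ = e * d := by rw [ve, vc, r1]

/-- (6) `A i j = 1` -/
theorem A_bot {i j : Fin 5} {hij : i ≠ j} {d : G} (hd : d ∈ h.A i j hij) : d = 1 := by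
  by_contra hne
  refine h.z_notMem_A (hij := hij) (h.min j (h.A i j hij) (fun x hx => (h.mem_D.1 (h.mem_A.1 hx).1).1)
    ?_ ?_)
  · intro m hm hmj y hy
    obtain ⟨i', hi'⟩ := h.perm m hm i
    have hj' : m * z j * m⁻¹ = z j := comm_conj hmj
    have hij' : i' ≠ j := by
      rintro rfl
      rw [← hj'] at hi'
      exact hij (h.inj (mul_left_cancel (mul_right_cancel hi')))
    exact h.A_indep (h.eqA (hij' := hij') hm hi' hj' hy)
  · intro e
    rw [e, mem_bot] at hd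
    exact hne hd

/-- THEOREM D0: `C_{Q j}(Qs j) = ⟨z j⟩`. -/
theorem D_eq {j : Fin 5} {d : G} (hd : d ∈ h.D j) : d = 1 ∨ d = z j := by
  obtain ⟨i, hij⟩ : ∃ i : Fin 5, i ≠ j := exists_ne j
  obtain ⟨k, l, m, hn⟩ := exists_three i j hij
  have hn' := hn
  simp only [List.nodup_cons, List.mem_cons, List.not_mem_nil, or_false, not_or, not_false_eq_true,
    List.nodup_nil, and_true] at hn
  obtain ⟨⟨-, hik, hil, him⟩, ⟨hjk, hjl, hjm⟩, ⟨hkl, hkm⟩, hlm⟩ := hn
  obtain ⟨b, hb⟩ := h.exists_T hij hik hjk d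
  obtain ⟨c, hc⟩ := h.exists_T hij hil hjl d
  obtain ⟨e, he⟩ := h.exists_T hij him hjm d
  have hbD := h.T_mem hd hb
  have hcD := h.T_mem hd hc
  have heD := h.T_mem hd he
  rcases h.key hn' hd hb hc he with h1 | h1
  · exact Or.inl (h.A_bot (h.mem_A_of hn' hij hd hb hc he h1))
  · right
    -- replace `d` by `z j * d`
    have hT : ∀ n x, h.T i j n d x → h.T i j n (z j * d) (z n * x) := by
      rintro n x ⟨u, hu, hu1, rfl⟩
      refine ⟨u, hu, hu1, ?_⟩
      rw [← hu1]; group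
    have h2 : z m * e * (z j * d) = z k * b * (z l * c) := by
      have e1 : z m * e * (z j * d) = z m * z j * (e * d) := by
        calc z m * e * (z j * d) = z m * (e * z j) * d := by group
          _ = z m * (z j * e) * d := by rw [h.D_comm_z heD j]
          _ = z m * z j * (e * d) := by group
      have e2 : z k * b * (z l * c) = z k * z l * (b * c) := by
        calc z k * b * (z l * c) = z k * (b * z l) * c := by group
          _ = z k * (z l * b) * c := by rw [h.D_comm_z hbD l]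
          _ = z k * z l * (b * c) := by group
      have e3 : z m * z j * z i = z k * z l := by
        have h3 := h.prod k l m j i (by
          simp [Ne.symm hij, Ne.symm hik, Ne.symm hil, Ne.symm him, Ne.symm hjk, Ne.symm hjl,
            Ne.symm hjm, hkl, hkm, hlm])
        rw [← h3]
        have e4 : z m * z j * (z k * z l * z m * z j) = z k * z l := by
          calc z m * z j * (z k * z l * z m * z j) = z m * z j * (z k * z l * (z m * z j)) := by group
            _ = (z k * z l * (z m * z j)) * (z m * z j) := by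
                have c1 : z m * z j * (z k * z l) = z k * z l * (z m * z j) := by
                  calc z m * z j * (z k * z l) = z m * (z j * z k) * z l := by group
                    _ = z m * (z k * z j) * z l := by rw [h.comm j k]
                    _ = (z m * z k) * (z j * z l) := by group
                    _ = (z k * z m) * (z l * z j) := by rw [h.comm m k, h.comm j l]
                    _ = z k * (z m * z l) * z j := by group
                    _ = z k * (z l * z m) * z j := by rw [h.comm m l]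
                    _ = z k * z l * (z m * z j) := by group
                calc z m * z j * (z k * z l * (z m * z j)) =
                    (z m * z j * (z k * z l)) * (z m * z j) := by group
                  _ = _ := by rw [c1]
            _ = z k * z l * ((z m * z j) * (z m * z j)) := by group
            _ = z k * z l * ((z j * z m) * (z m * z j)) := by rw [h.comm m j]
            _ = z k * z l * (z j * (z m * z m) * z j) := by group
            _ = z k * z l * (z j * z j) := by rw [h.sq m]; group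
            _ = z k * z l := by rw [h.sq j, mul_one]
        exact e4
      rw [e1, e2, h1, ← e3]; group
    have h3 := h.A_bot (h.mem_A_of hn' hij (mul_mem (h.z_mem_D j) hd) (hT k b hb) (hT l c hc)
      (hT m e he) h2)
    rw [← h.zinv j]
    exact (inv_eq_of_mul_eq_one_right h3).symm

open Cfsg.Agent.Co2Type.Quad in
/-- THEOREM D0: `Q i` is large extraspecial. -/
theorem large (i : Fin 5) (self : ∀ g, g * z i = z i * g → (∀ x ∈ Q i, g * x = x * g) → g ∈ Q i) :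
    Large (Q i) (z i) := by
  have hzi := h.sq i
  -- `[y, x] ∈ ⟨z i⟩` for `x ∈ Q i`, `y ∈ Qs i`
  have hc : ∀ x ∈ Q i, ∀ y ∈ Qs i, x * y * x⁻¹ = y ∨ x * y * x⁻¹ = z i * y := by
    intro x hx y hy
    rcases h.comQ i y hy x hx with h1 | h1
    · left; rw [← h1]; group
    · right
      have e1 : z i * (y * x) = x * y := by
        rw [h1, ← mul_assoc, hzi, one_mul]
      rw [← e1]; group
  have hzc : ∀ x ∈ Q i, x * z i * x⁻¹ = z i := fun x hx => comm_conj (h.Qz i x hx)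
  have hmem : ∀ x, (∀ y ∈ Qs i, x * y * x⁻¹ = y) → x ∈ Q i → x = 1 ∨ x = z i := fun x hx hxQ =>
    h.D_eq (h.mem_D.2 ⟨hxQ, fun y hy => conj_comm (hx y hy)⟩)
  refine ⟨h.le i (h.zmem i), h.ne_one i, hzi, h.Qz i, h.nQ i, ?_, ?_, ?_, self⟩
  · intro x hx
    refine hmem _ (fun y hy => ?_) (mul_mem hx hx)
    have e1 : x * x * y * (x * x)⁻¹ = x * (x * y * x⁻¹) * x⁻¹ := by group
    rw [e1]
    rcases hc x hx y hy with h1 | h1
    · rw [h1, h1]
    · rw [h1]
      calc x * (z i * y) * x⁻¹ = (x * z i * x⁻¹) * (x * y * x⁻¹) := by group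
        _ = y := by rw [hzc x hx, h1, ← mul_assoc, hzi, one_mul]
  · intro x hx y hy
    have h1 : x * y * x⁻¹ * y⁻¹ = 1 ∨ x * y * x⁻¹ * y⁻¹ = z i := by
      refine hmem _ (fun w hw => ?_)
        (mul_mem (mul_mem (mul_mem hx hy) (inv_mem hx)) (inv_mem hy))
      have e1 : x * y * x⁻¹ * y⁻¹ * w * (x * y * x⁻¹ * y⁻¹)⁻¹ =
          x * (y * (x⁻¹ * (y⁻¹ * w * y⁻¹⁻¹) * x⁻¹⁻¹) * y⁻¹) * x⁻¹ := by group
      rw [e1]
      have step : ∀ g ∈ Q i, ∀ v, (v = w ∨ v = z i * w) →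
          (g * v * g⁻¹ = w ∨ g * v * g⁻¹ = z i * w) := by
        intro g hg v hv
        have h2 := hc g hg w hw
        rcases hv with rfl | rfl
        · exact h2
        · have e2 : g * (z i * w) * g⁻¹ = (g * z i * g⁻¹) * (g * w * g⁻¹) := by group
          rw [e2, hzc g hg]
          rcases h2 with h2 | h2
          · right; rw [h2]
          · left; rw [h2, ← mul_assoc, hzi, one_mul]
      -- the signs of `x` and `y` appear twice
      have sgn : ∀ g ∈ Q i, ∀ v, (v = w ∨ v = z i * w) → g * v * g⁻¹ = v * (w⁻¹ * (g * w * g⁻¹)) := by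
        intro g hg v hv
        rcases hv with rfl | rfl
        · group
        · calc g * (z i * w) * g⁻¹ = (g * z i * g⁻¹) * (g * w * g⁻¹) := by group
            _ = z i * (g * w * g⁻¹) := by rw [hzc g hg]
            _ = z i * w * (w⁻¹ * (g * w * g⁻¹)) := by group
      have hinv : ∀ g ∈ Q i, w⁻¹ * (g⁻¹ * w * g⁻¹⁻¹) = w⁻¹ * (g * w * g⁻¹) := by
        intro g hg
        rcases hc g hg w hw with h2 | h2
        · have : g⁻¹ * w * g⁻¹⁻¹ = w := by
            calc g⁻¹ * w * g⁻¹⁻¹ = g⁻¹ * (g * w * g⁻¹) * g := by rw [h2]; group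
              _ = w := by group
          rw [this, h2]
        · have h3 : g⁻¹ * w * g⁻¹⁻¹ = z i * w := by
            have h4 : g * (z i * w) * g⁻¹ = w := by
              calc g * (z i * w) * g⁻¹ = (g * z i * g⁻¹) * (g * w * g⁻¹) := by group
                _ = w := by rw [hzc g hg, h2, ← mul_assoc, hzi, one_mul]
            calc g⁻¹ * w * g⁻¹⁻¹ = g⁻¹ * (g * (z i * w) * g⁻¹) * g := by rw [h4]; group
              _ = z i * w := by group
          rw [h3, h2]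
      have hzw : z i * w = w * z i := (h.Qz i w (h.le i hw)).symm
      have val : ∀ g ∈ Q i, w⁻¹ * (g * w * g⁻¹) = 1 ∨ w⁻¹ * (g * w * g⁻¹) = z i := by
        intro g hg
        rcases hc g hg w hw with h2 | h2
        · left; rw [h2]; group
        · right; rw [h2, hzw]; group
      have s1 : y⁻¹ * w * y⁻¹⁻¹ = w ∨ y⁻¹ * w * y⁻¹⁻¹ = z i * w := step _ (inv_mem hy) w (Or.inl rfl)
      have s2 := step _ (inv_mem hx) _ s1
      have s3 := step _ hy _ s2
      rw [sgn x hx _ s3, sgn y hy _ s2, sgn x⁻¹ (inv_mem hx) _ s1, sgn y⁻¹ (inv_mem hy) w (Or.inl rfl),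
        hinv x hx, hinv y hy]
      rcases val x hx with v1 | v1 <;> rcases val y hy with v2 | v2 <;> rw [v1, v2] <;>
        simp only [mul_one, mul_assoc, hzi]
    rcases h1 with h1 | h1
    · left
      rw [mul_inv_eq_one, mul_inv_eq_iff_eq_mul] at h1
      exact h1
    · right
      have h2 : x * y = z i * (y * x) := by
        calc x * y = x * y * x⁻¹ * y⁻¹ * (y * x) := by group
          _ = z i * (y * x) := by rw [h1]
      rw [h2]
      exact (h.Qz i _ (mul_mem hy hx)).symm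
  · intro x hx hxc
    exact hmem x (fun y hy => comm_conj (hxc y (h.le i hy))) hx

end DZ

end Cfsg.Agent.Omega.NOne.DZero

end

section


/-!
# NO-1, THEOREM D0: the instance (helper302)

`G` of characteristic 2 type, `S` a Sylow 2-subgroup with `Ω₁ Z(S) = ⟨z 0⟩`, `S ≤ M ≤ N(V)`,
`V = {1} ∪ {z i} ∪ {z i z j}` of order 16 with `M` inducing `A₅` or `S₅` on the five points `z i`
(`V = O₄⁻(2)`-module).  If `V ≰ O₂(C(z 0))`, then `O₂(C(z 0))` is extraspecial:
`Large (o2 (centralizer {z 0})) (z 0)`.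
-/

set_option autoImplicit false

namespace Cfsg.Agent.Omega.NOne.DZeroPts

open Subgroup Cfsg Cfsg.Agent.ZN
open Cfsg.Agent.MinSimple.VModule (o2_isPGroup)
open Cfsg.Agent.Omega.NOne.DZero
open scoped Pointwise

set_option maxRecDepth 100000 in
theorem two_elt : ∀ i : Fin 5, ∀ σ : Equiv.Perm (Fin 5), σ i = i →
    (∀ j, j ≠ i → σ j ≠ j ∧ σ (σ j) = j) ∨ σ = 1 ∨
      ∃ τ : Equiv.Perm (Fin 5), τ i = i ∧ Equiv.Perm.sign τ = 1 ∧
        (σ * (τ * σ * τ⁻¹)) ^ 3 = 1 ∧ σ * (τ * σ * τ⁻¹) ≠ 1 := by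
  decide +kernel

set_option maxRecDepth 100000 in
theorem two_trans : ∀ i j k a b : Fin 5, [i, j, k].Nodup → [i, a, b].Nodup →
    ∃ τ : Equiv.Perm (Fin 5), τ i = i ∧ τ j = a ∧ τ k = b ∧ Equiv.Perm.sign τ = 1 := by
  decide +kernel

universe u

variable {G : Type u} [Group G]

/-- The five singular vectors of an `O₄⁻(2)`-module `V` with `M` inducing `A₅` or `S₅`. -/
structure Pts (M V : Subgroup G) (z : Fin 5 → G) : Prop where
  mem : ∀ i, z i ∈ V
  gen : ∀ v ∈ V, v = 1 ∨ (∃ i, v = z i) ∨ ∃ i j, i ≠ j ∧ v = z i * z j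
  inj : Function.Injective z
  ne_one : ∀ i, z i ≠ 1
  sq : ∀ i, z i * z i = 1
  comm : ∀ i j, z i * z j = z j * z i
  prod : ∀ a b c d e : Fin 5, [a, b, c, d, e].Nodup → z a * z b * z c * z d = z e
  perm : ∀ m ∈ M, ∃ σ : Equiv.Perm (Fin 5), ∀ j, m * z j * m⁻¹ = z (σ j)
  alt : ∀ σ : Equiv.Perm (Fin 5), Equiv.Perm.sign σ = 1 → ∃ m ∈ M, ∀ j, m * z j * m⁻¹ = z (σ j)

/-- `C(x)` -/
abbrev CC (x : G) : Subgroup G := centralizer ((zpowers x : Subgroup G) : Set G)

/-- `O₂(C(x))` -/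
abbrev QQ (x : G) : Subgroup G := o2 (CC x)

/-- `⟨(V ∩ O₂(C(x)))^{C(x)}⟩` -/
def QS (V : Subgroup G) (x : G) : Subgroup G :=
  closure {y | ∃ c ∈ CC x, ∃ e ∈ V ⊓ QQ x, y = c * e * c⁻¹}

theorem mem_CC {x g : G} : g ∈ CC x ↔ g * x = x * g := by
  rw [CC, mem_centralizer_iff]
  constructor
  · intro h
    exact (h x (mem_zpowers x)).symm
  · rintro h y ⟨n, rfl⟩
    exact ((show Commute g x from h).zpow_right n).symm

theorem CC_eq (x : G) : CC x = centralizer ({x} : Set G) := by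
  ext g
  rw [mem_CC, mem_centralizer_singleton_iff]

theorem conj_smul_zpowers (g x : G) : MulAut.conj g • zpowers x = zpowers (g * x * g⁻¹) := by
  rw [Cfsg.Agent.MinSimple.CosetFam.conj_smul_def, MonoidHom.map_zpowers]
  rfl

theorem conj_mem_iff {g x : G} {H : Subgroup G} :
    g * x * g⁻¹ ∈ MulAut.conj g • H ↔ x ∈ H := by
  rw [Cfsg.Agent.MinSimple.CosetGraph.mem_conj_smul]
  have e : g⁻¹ * (g * x * g⁻¹) * g = x := by group
  rw [e]

theorem CC_conj (g x : G) : CC (g * x * g⁻¹) = MulAut.conj g • CC x := by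
  rw [CC, ← conj_smul_zpowers, Cfsg.Agent.MinSimple.CosetFam.centralizer_conj]

theorem QQ_conj (g x : G) : QQ (g * x * g⁻¹) = MulAut.conj g • QQ x := by
  rw [QQ, CC_conj, Cfsg.Agent.MinSimple.CosetFam.o2_conj]

theorem mem_CC_conj {g x y : G} : g * y * g⁻¹ ∈ CC (g * x * g⁻¹) ↔ y ∈ CC x := by
  rw [CC_conj, conj_mem_iff]

theorem mem_QQ_conj {g x y : G} : g * y * g⁻¹ ∈ QQ (g * x * g⁻¹) ↔ y ∈ QQ x := by
  rw [QQ_conj, conj_mem_iff]

theorem QQ_le (x : G) : QQ x ≤ CC x := o2_le _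

theorem QQ_norm {x c : G} (hc : c * x = x * c) {y : G} (hy : y ∈ QQ x) : c * y * c⁻¹ ∈ QQ x := by
  have h1 := (mem_QQ_conj (g := c)).2 hy
  rwa [comm_conj hc] at h1

theorem QS_conj {V : Subgroup G} {g x y : G} (hg : g ∈ normalizer (V : Set G)) (hy : y ∈ QS V x) :
    g * y * g⁻¹ ∈ QS V (g * x * g⁻¹) := by
  unfold QS at hy
  induction hy using closure_induction with
  | mem y hy =>
    obtain ⟨c, hc, e, he, rfl⟩ := hy
    refine subset_closure ⟨g * c * g⁻¹, mem_CC_conj.2 hc, g * e * g⁻¹,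
      ⟨(mem_normalizer_iff.1 hg e).1 he.1, mem_QQ_conj.2 he.2⟩, by group⟩
  | one => simpa using one_mem _
  | mul a b _ _ ha hb =>
    have e : g * (a * b) * g⁻¹ = (g * a * g⁻¹) * (g * b * g⁻¹) := by group
    rw [e]; exact mul_mem ha hb
  | inv a _ ha =>
    have e : g * a⁻¹ * g⁻¹ = (g * a * g⁻¹)⁻¹ := by group
    rw [e]; exact inv_mem ha

theorem QS_norm {V : Subgroup G} {c x y : G} (hc : c * x = x * c) (hy : y ∈ QS V x) :
    c * y * c⁻¹ ∈ QS V x := by
  unfold QS at hy ⊢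
  induction hy using closure_induction with
  | mem y hy =>
    obtain ⟨d, hd, e, he, rfl⟩ := hy
    exact subset_closure ⟨c * d, mul_mem (mem_CC.2 hc) hd, e, he, by group⟩
  | one => simpa using one_mem _
  | mul a b _ _ ha hb =>
    have e : c * (a * b) * c⁻¹ = (c * a * c⁻¹) * (c * b * c⁻¹) := by group
    rw [e]; exact mul_mem ha hb
  | inv a _ ha =>
    have e : c * a⁻¹ * c⁻¹ = (c * a * c⁻¹)⁻¹ := by group
    rw [e]; exact inv_mem ha

theorem QS_le (V : Subgroup G) (x : G) : QS V x ≤ QQ x := by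
  unfold QS
  rw [closure_le]
  rintro y ⟨c, hc, e, he, rfl⟩
  exact QQ_norm (mem_CC.1 hc) he.2

theorem mem_QS {V : Subgroup G} {x e : G} (he : e ∈ V) (he' : e ∈ QQ x) : e ∈ QS V x :=
  subset_closure ⟨1, one_mem _, e, ⟨he, he'⟩, by group⟩

theorem z_mem_QQ {x : G} (hx : x * x = 1) : x ∈ QQ x := by
  have h1 : zpowers x ≤ QQ x := by
    refine le_o2 ?_ ?_ ?_
    · rw [zpowers_le]; exact mem_CC.2 rfl
    · rintro ⟨y, hy⟩
      obtain ⟨n, rfl⟩ := mem_zpowers_iff.1 hy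
      refine ⟨1, Subtype.ext ?_⟩
      change (x ^ n) ^ 2 ^ 1 = 1
      rw [pow_one, ← zpow_natCast, ← zpow_mul, mul_comm, zpow_mul]
      have : x ^ (2 : ℤ) = 1 := by rw [zpow_two]; exact hx
      rw [Nat.cast_ofNat, this, one_zpow]
    · exact LemmaT.centralizer_le_normalizer' _
  exact h1 (mem_zpowers x)

/-- local data at the point `z i` -/
structure Loc (M V : Subgroup G) (z : Fin 5 → G) (T : Subgroup G) (i : Fin 5) : Prop where
  TM : T ≤ M
  pg : IsPGroup 2 T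
  cz : ∀ t ∈ T, t * z i = z i * t
  QT : QQ (z i) ≤ T
  Z : ∀ x ∈ T, (∀ s ∈ T, x * s = s * x) → x * x = 1 → x = 1 ∨ x = z i
  char2 : ∀ g, g * z i = z i * g → (∀ x ∈ QQ (z i), g * x = x * g) → g ∈ QQ (z i)
  VQ : ¬ V ≤ QQ (z i)
  E : ∃ e ∈ V ⊓ QQ (z i), e ≠ 1 ∧ e ≠ z i

/-- transport of the local data -/
theorem Loc.conj {M V : Subgroup G} {z : Fin 5 → G} {T : Subgroup G} {i j : Fin 5}
    (h : Loc M V z T i) (hMV : M ≤ normalizer (V : Set G)) {m : G} (hm : m ∈ M)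
    (hij : m * z i * m⁻¹ = z j) : Loc M V z (MulAut.conj m • T) j := by
  have hVm : ∀ {v}, v ∈ V ↔ m * v * m⁻¹ ∈ V := fun {v} => mem_normalizer_iff.1 (hMV hm) v
  have back : ∀ y : G, ∃ x, y = m * x * m⁻¹ := fun y => ⟨m⁻¹ * y * m, by group⟩
  have hcomm : ∀ {a b : G}, m * a * m⁻¹ * (m * b * m⁻¹) = m * b * m⁻¹ * (m * a * m⁻¹) ↔
      a * b = b * a := by
    intro a b
    have e1 : m * a * m⁻¹ * (m * b * m⁻¹) = m * (a * b) * m⁻¹ := by group
    have e2 : m * b * m⁻¹ * (m * a * m⁻¹) = m * (b * a) * m⁻¹ := by group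
    rw [e1, e2]
    exact ⟨fun h => mul_left_cancel (mul_right_cancel h), fun h => by rw [h]⟩
  have hQ : QQ (z j) = MulAut.conj m • QQ (z i) := by rw [← hij, QQ_conj]
  refine ⟨?_, ?_, ?_, ?_, ?_, ?_, ?_, ?_⟩
  · intro y hy
    obtain ⟨x, rfl⟩ := back y
    exact mul_mem (mul_mem hm (h.TM (conj_mem_iff.1 hy))) (inv_mem hm)
  · exact h.pg.map _
  · intro y hy
    obtain ⟨x, rfl⟩ := back y
    rw [← hij]
    exact hcomm.2 (h.cz x (conj_mem_iff.1 hy))
  · intro y hy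
    obtain ⟨x, rfl⟩ := back y
    rw [hQ, conj_mem_iff] at hy
    exact conj_mem_iff.2 (h.QT hy)
  · intro y hy hys hy2
    obtain ⟨x, rfl⟩ := back y
    have h1 : x * x = 1 := by
      calc x * x = m⁻¹ * (m * x * m⁻¹ * (m * x * m⁻¹)) * m := by group
        _ = 1 := by rw [hy2]; group
    rcases h.Z x (conj_mem_iff.1 hy) (fun s hs => hcomm.1 (hys _ (conj_mem_iff.2 hs))) h1 with
      rfl | rfl
    · left; group
    · right; exact hij
  · intro y hy hys
    obtain ⟨x, rfl⟩ := back y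
    rw [← hij] at hy
    rw [hQ, conj_mem_iff]
    refine h.char2 x (hcomm.1 hy) fun w hw => hcomm.1 (hys _ ?_)
    rw [hQ, conj_mem_iff]; exact hw
  · intro hV
    apply h.VQ
    intro v hv
    have h1 := hV (hVm.1 hv)
    rwa [hQ, conj_mem_iff] at h1
  · obtain ⟨e, he, he1, he2⟩ := h.E
    refine ⟨m * e * m⁻¹, ⟨hVm.1 he.1, ?_⟩, ?_, ?_⟩
    · rw [hQ]; exact conj_mem_iff.2 he.2
    · intro h1
      apply he1
      calc e = m⁻¹ * (m * e * m⁻¹) * m := by group
        _ = 1 := by rw [h1]; group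
    · intro h1
      apply he2
      rw [← hij] at h1
      exact mul_left_cancel (mul_right_cancel h1)

section Facts

variable {M V : Subgroup G} {z : Fin 5 → G}

theorem nodup3 {i j k : Fin 5} (h1 : i ≠ j) (h2 : i ≠ k) (h3 : j ≠ k) : [i, j, k].Nodup := by
  simp [h1, h2, h3]

/-- the points outside `z i` are not in `O₂(C(z i))` -/
theorem not_mem (h : Pts M V z) {T : Subgroup G} {i : Fin 5} (hl : Loc M V z T i) {j : Fin 5}
    (hji : j ≠ i) : z j ∉ QQ (z i) := by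
  intro hj
  apply hl.VQ
  have hall : ∀ k, z k ∈ QQ (z i) := by
    intro k
    by_cases hki : k = i
    · rw [hki]; exact z_mem_QQ (h.sq i)
    obtain ⟨a, ha1, ha2⟩ : ∃ a : Fin 5, a ≠ i ∧ a ≠ j := by
      have : ∀ i k : Fin 5, ∃ b : Fin 5, b ≠ i ∧ b ≠ k := by decide
      exact this i j
    obtain ⟨b, hb1, hb2⟩ : ∃ b : Fin 5, b ≠ i ∧ b ≠ k := by
      have : ∀ i k : Fin 5, ∃ b : Fin 5, b ≠ i ∧ b ≠ k := by decide
      exact this i k
    obtain ⟨τ, h1, h2, -, h4⟩ := two_trans i j a k b (nodup3 (Ne.symm hji) (Ne.symm ha1) (Ne.symm ha2))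
      (nodup3 (Ne.symm hki) (Ne.symm hb1) (Ne.symm hb2))
    obtain ⟨m, hm, hmz⟩ := h.alt τ h4
    have h5 := (mem_QQ_conj (g := m)).2 hj
    rwa [hmz, hmz, h1, h2] at h5
  intro v hv
  rcases h.gen v hv with rfl | ⟨k, rfl⟩ | ⟨k, l, -, rfl⟩
  · exact one_mem _
  · exact hall k
  · exact mul_mem (hall k) (hall l)

/-- `z j z k ∈ O₂(C(z i))` for `j, k ≠ i` -/
theorem pair_mem (h : Pts M V z) {T : Subgroup G} {i : Fin 5} (hl : Loc M V z T i) {j k : Fin 5}
    (hji : j ≠ i) (hki : k ≠ i) (hjk : j ≠ k) : z j * z k ∈ QQ (z i) := by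
  have hz := z_mem_QQ (h.sq i)
  obtain ⟨e, he, he1, he2⟩ := hl.E
  -- some pair outside `i` is in `QQ (z i)`
  obtain ⟨a, b, hai, hbi, hab, hmem⟩ : ∃ a b, a ≠ i ∧ b ≠ i ∧ a ≠ b ∧ z a * z b ∈ QQ (z i) := by
    rcases h.gen e he.1 with rfl | ⟨a, rfl⟩ | ⟨a, b, hab, rfl⟩
    · exact absurd rfl he1
    · have hai : a ≠ i := fun h => he2 (by rw [h])
      exact absurd he.2 (not_mem h hl hai)
    · by_cases hai : a = i
      · subst hai
        have h1 : z b ∈ QQ (z a) := by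
          have h2 := mul_mem hz he.2
          rwa [← mul_assoc, h.sq, one_mul] at h2
        exact absurd h1 (not_mem h hl (Ne.symm hab))
      by_cases hbi : b = i
      · subst hbi
        have h1 : z a ∈ QQ (z b) := by
          have h2 := mul_mem he.2 hz
          rwa [mul_assoc, h.sq, mul_one] at h2
        exact absurd h1 (not_mem h hl hab)
      exact ⟨a, b, hai, hbi, hab, he.2⟩
  obtain ⟨τ, h1, h2, h3, h4⟩ := two_trans i a b j k (nodup3 (Ne.symm hai) (Ne.symm hbi) hab)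
    (nodup3 (Ne.symm hji) (Ne.symm hki) hjk)
  obtain ⟨m, hm, hmz⟩ := h.alt τ h4
  have h5 := (mem_QQ_conj (g := m)).2 hmem
  have e : m * (z a * z b) * m⁻¹ = (m * z a * m⁻¹) * (m * z b * m⁻¹) := by group
  rwa [e, hmz, hmz, hmz, h1, h2, h3] at h5

/-- the permutation induced by an element fixing `z i` fixes `i` -/
theorem fix_of (h : Pts M V z) {i : Fin 5} {q : G} {σ : Equiv.Perm (Fin 5)}
    (hσ : ∀ j, q * z j * q⁻¹ = z (σ j)) (hq : q * z i = z i * q) : σ i = i := by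
  apply h.inj
  rw [← hσ, comm_conj hq]

/-- `O₂(C(z i))` acts on the other four points as a subgroup of the Klein four-group. -/
theorem act_four [Finite G] (h : Pts M V z) {T : Subgroup G} {i : Fin 5} (hl : Loc M V z T i) {q : G}
    (hq : q ∈ QQ (z i)) {σ : Equiv.Perm (Fin 5)} (hσ : ∀ j, q * z j * q⁻¹ = z (σ j)) :
    (∀ j, j ≠ i → σ j ≠ j ∧ σ (σ j) = j) ∨ σ = 1 := by
  rcases two_elt i σ (fix_of h hσ (hl.cz q (hl.QT hq))) with h1 | h1 | ⟨τ, h1, h2, h3, h4⟩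
  · exact Or.inl h1
  · exact Or.inr h1
  exfalso
  obtain ⟨m, hm, hmz⟩ := h.alt τ h2
  set ρ := σ * (τ * σ * τ⁻¹) with hρ
  have hq' : m * q * m⁻¹ ∈ QQ (z i) := by
    have h5 := (mem_QQ_conj (g := m)).2 hq
    rwa [hmz, h1] at h5
  have hmi : ∀ j, m⁻¹ * z j * m⁻¹⁻¹ = z (τ⁻¹ j) := by
    intro j
    have h5 := hmz (τ⁻¹ j)
    rw [show τ (τ⁻¹ j) = j from τ.apply_symm_apply j] at h5
    rw [← h5]; group
  have hr : ∀ j, (q * (m * q * m⁻¹)) * z j * (q * (m * q * m⁻¹))⁻¹ = z (ρ j) := by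
    intro j
    calc (q * (m * q * m⁻¹)) * z j * (q * (m * q * m⁻¹))⁻¹ =
        q * (m * (q * (m⁻¹ * z j * m⁻¹⁻¹) * q⁻¹) * m⁻¹) * q⁻¹ := by group
      _ = z (ρ j) := by
        rw [hmi, hσ, hmz, hσ, hρ]
        simp only [Equiv.Perm.coe_mul, Function.comp_apply]
  have hrn : ∀ n : ℕ, ∀ j, (q * (m * q * m⁻¹)) ^ n * z j * ((q * (m * q * m⁻¹)) ^ n)⁻¹ =
      z ((ρ ^ n) j) := by
    intro n
    induction n with
    | zero => intro j; simp
    | succ n ih =>
      intro j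
      have e : (q * (m * q * m⁻¹)) ^ (n + 1) * z j * ((q * (m * q * m⁻¹)) ^ (n + 1))⁻¹ =
          (q * (m * q * m⁻¹)) ^ n * ((q * (m * q * m⁻¹)) * z j * (q * (m * q * m⁻¹))⁻¹) *
            ((q * (m * q * m⁻¹)) ^ n)⁻¹ := by
        rw [pow_succ]; group
      rw [e, hr, ih, pow_succ]; rfl
  obtain ⟨n, hn⟩ := o2_isPGroup (CC (z i)) ⟨q * (m * q * m⁻¹), mul_mem hq hq'⟩
  have hn' : (q * (m * q * m⁻¹)) ^ 2 ^ n = 1 := congrArg Subtype.val hn
  have h5 : ρ ^ 2 ^ n = 1 := by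
    ext1 j
    apply h.inj
    rw [← hrn, hn']; simp
  have h6 : orderOf ρ ∣ 2 ^ n := orderOf_dvd_of_pow_eq_one h5
  have h7 : orderOf ρ ∣ 3 := orderOf_dvd_of_pow_eq_one h3
  have h8 : orderOf ρ ∣ 1 := by
    have hc : Nat.Coprime (2 ^ n) 3 := Nat.Coprime.pow_left n (by norm_num)
    rw [← hc.gcd_eq_one]
    exact Nat.dvd_gcd h6 h7
  exact h4 (orderOf_eq_one_iff.1 (Nat.dvd_one.1 h8))

/-- `[O₂(C(z i)), V ∩ O₂(C(z i))] ≤ ⟨z i⟩` -/
theorem comm_E [Finite G] (h : Pts M V z) {T : Subgroup G} {i : Fin 5} (hl : Loc M V z T i) {q e : G}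
    (hq : q ∈ QQ (z i)) (he : e ∈ V ⊓ QQ (z i)) : q * e * q⁻¹ = e ∨ q * e * q⁻¹ = z i * e := by
  have hqz : q * z i = z i * q := hl.cz q (hl.QT hq)
  obtain ⟨σ, hσ⟩ := h.perm q (hl.TM (hl.QT hq))
  have hz := z_mem_QQ (h.sq i)
  rcases h.gen e he.1 with rfl | ⟨a, rfl⟩ | ⟨a, b, hab, rfl⟩
  · left; group
  · by_cases hai : a = i
    · subst hai
      exact Or.inl (comm_conj hqz)
    · exact absurd he.2 (not_mem h hl hai)
  · by_cases hai : a = i
    · subst hai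
      have h1 : z b ∈ QQ (z a) := by
        have h2 := mul_mem hz he.2
        rwa [← mul_assoc, h.sq, one_mul] at h2
      exact absurd h1 (not_mem h hl (Ne.symm hab))
    by_cases hbi : b = i
    · subst hbi
      have h1 : z a ∈ QQ (z b) := by
        have h2 := mul_mem he.2 hz
        rwa [mul_assoc, h.sq, mul_one] at h2
      exact absurd h1 (not_mem h hl hab)
    have e1 : q * (z a * z b) * q⁻¹ = z (σ a) * z (σ b) := by
      calc q * (z a * z b) * q⁻¹ = (q * z a * q⁻¹) * (q * z b * q⁻¹) := by group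
        _ = _ := by rw [hσ, hσ]
    rw [e1]
    have hi : σ i = i := fix_of h hσ hqz
    rcases act_four h hl hq hσ with h1 | h1
    · obtain ⟨a1, a2⟩ := h1 a hai
      obtain ⟨b1, b2⟩ := h1 b hbi
      by_cases hab' : σ a = b
      · left
        rw [hab'] at a2
        rw [hab', a2, h.comm]
      · right
        have hba' : σ b ≠ a := fun h2 => hab' (by rw [← h2, b2])
        have hne : σ a ≠ σ b := fun h2 => hab (σ.injective h2)
        have hai' : σ a ≠ i := fun h2 => hai (σ.injective (h2.trans hi.symm))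
        have hbi' : σ b ≠ i := fun h2 => hbi (σ.injective (h2.trans hi.symm))
        have h2 := h.prod i a b (σ a) (σ b) (by
          simp [Ne.symm hai, Ne.symm hbi, Ne.symm hai', Ne.symm hbi', hab, Ne.symm a1, Ne.symm hba',
            Ne.symm hab', Ne.symm b1, hne])
        rw [← h2]
        have h3 : z (σ a) * (z i * z a * z b * z (σ a)) = z i * (z a * z b) := by
          calc z (σ a) * (z i * z a * z b * z (σ a)) =
              (z (σ a) * z i) * z a * z b * z (σ a) := by group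
            _ = z i * (z (σ a) * z a) * z b * z (σ a) := by rw [h.comm (σ a) i]; group
            _ = z i * z a * (z (σ a) * z b) * z (σ a) := by rw [h.comm (σ a) a]; group
            _ = z i * (z a * z b) * (z (σ a) * z (σ a)) := by rw [h.comm (σ a) b]; group
            _ = z i * (z a * z b) := by rw [h.sq, mul_one]
        exact h3
    · left; rw [h1]; rfl

/-- `[QS, O₂(C(z i))] ≤ ⟨z i⟩` -/
theorem comm_QS [Finite G] (h : Pts M V z) {T : Subgroup G} {i : Fin 5} (hl : Loc M V z T i) {x : G}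
    (hx : x ∈ QS V (z i)) : ∀ y ∈ QQ (z i), x * y * x⁻¹ = y ∨ x * y * x⁻¹ = z i * y := by
  have hzz := h.sq i
  have hQz : ∀ y ∈ QQ (z i), y * z i = z i * y := fun y hy => hl.cz y (hl.QT hy)
  have hx' := hx
  unfold QS at hx
  induction hx using closure_induction with
  | mem x hx =>
    obtain ⟨c, hc, e, he, rfl⟩ := hx
    intro y hy
    have hc' := mem_CC.1 hc
    have hci : c⁻¹ * z i = z i * c⁻¹ := by
      rw [inv_mul_eq_iff_eq_mul, ← mul_assoc, hc', mul_assoc, mul_inv_cancel, mul_one]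
    have hy' := QQ_norm hci hy
    have h1 := comm_E h hl hy' he
    -- `e y' e⁻¹ ∈ {y', z y'}`
    have h2 : e * (c⁻¹ * y * c⁻¹⁻¹) * e⁻¹ = c⁻¹ * y * c⁻¹⁻¹ ∨
        e * (c⁻¹ * y * c⁻¹⁻¹) * e⁻¹ = z i * (c⁻¹ * y * c⁻¹⁻¹) := by
      rcases h1 with h1 | h1
      · left; exact comm_conj (conj_comm h1).symm
      · right
        have h3 : (c⁻¹ * y * c⁻¹⁻¹) * e = z i * e * (c⁻¹ * y * c⁻¹⁻¹) := by
          rw [← h1]; group
        have h4 : e * (c⁻¹ * y * c⁻¹⁻¹) = z i * ((c⁻¹ * y * c⁻¹⁻¹) * e) := by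
          rw [h3]
          calc e * (c⁻¹ * y * c⁻¹⁻¹) = 1 * (e * (c⁻¹ * y * c⁻¹⁻¹)) := by rw [one_mul]
            _ = z i * z i * (e * (c⁻¹ * y * c⁻¹⁻¹)) := by rw [hzz]
            _ = z i * (z i * e * (c⁻¹ * y * c⁻¹⁻¹)) := by group
        rw [h4]; group
    have e1 : c * e * c⁻¹ * y * (c * e * c⁻¹)⁻¹ = c * (e * (c⁻¹ * y * c⁻¹⁻¹) * e⁻¹) * c⁻¹ := by
      group
    rw [e1]
    rcases h2 with h2 | h2
    · left; rw [h2]; group
    · right
      rw [h2]
      calc c * (z i * (c⁻¹ * y * c⁻¹⁻¹)) * c⁻¹ = (c * z i) * (c⁻¹ * y) := by group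
        _ = z i * y := by rw [hc']; group
  | one => intro y _; left; group
  | mul a b ha0 hb0 ha hb =>
    intro y hy
    have e : a * b * y * (a * b)⁻¹ = a * (b * y * b⁻¹) * a⁻¹ := by group
    rw [e]
    rcases hb hb0 y hy with h1 | h1
    · rw [h1]; exact ha ha0 y hy
    · rw [h1]
      have e2 : a * (z i * y) * a⁻¹ = z i * (a * y * a⁻¹) := by
        calc a * (z i * y) * a⁻¹ = (a * z i) * y * a⁻¹ := by group
          _ = z i * (a * y * a⁻¹) := by rw [hQz a (QS_le V _ ha0)]; group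
      rw [e2]
      rcases ha ha0 y hy with h2 | h2
      · right; rw [h2]
      · left; rw [h2, ← mul_assoc, hzz, one_mul]
  | inv a ha0 ha =>
    intro y hy
    rcases ha ha0 y hy with h1 | h1
    · left
      calc a⁻¹ * y * a⁻¹⁻¹ = a⁻¹ * (a * y * a⁻¹) * a := by rw [h1]; group
        _ = y := by group
    · right
      have h2 : a * (z i * y) * a⁻¹ = y := by
        calc a * (z i * y) * a⁻¹ = (a * z i) * y * a⁻¹ := by group
          _ = z i * (a * y * a⁻¹) := by rw [hQz a (QS_le V _ ha0)]; group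
          _ = y := by rw [h1, ← mul_assoc, hzz, one_mul]
      calc a⁻¹ * y * a⁻¹⁻¹ = a⁻¹ * (a * (z i * y) * a⁻¹) * a := by rw [h2]; group
        _ = z i * y := by group

/-- `QS` moves a point -/
theorem exists_move [Finite G] (h : Pts M V z) (hMV : M ≤ normalizer (V : Set G)) {T : Subgroup G}
    {i : Fin 5} (hl : Loc M V z T i) : ∃ u ∈ QS V (z i), ∃ j, u * z j ≠ z j * u := by
  by_contra hcon
  push Not at hcon
  apply hl.VQ
  have hVcomm : ∀ v ∈ V, ∀ u ∈ QS V (z i), v * u = u * v := by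
    intro v hv u hu
    rcases h.gen v hv with rfl | ⟨a, rfl⟩ | ⟨a, b, -, rfl⟩
    · simp
    · exact (hcon u hu a).symm
    · calc z a * z b * u = z a * (z b * u) := by group
        _ = (z a * u) * z b := by rw [← hcon u hu b]; group
        _ = u * (z a * z b) := by rw [← hcon u hu a]; group
  have hVz : ∀ v ∈ V, v * z i = z i * v := by
    intro v hv
    rcases h.gen v hv with rfl | ⟨a, rfl⟩ | ⟨a, b, -, rfl⟩
    · simp
    · exact h.comm a i
    · calc z a * z b * z i = z a * (z b * z i) := by group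
        _ = (z a * z i) * z b := by rw [h.comm b i]; group
        _ = z i * (z a * z b) := by rw [h.comm a i]; group
  -- the stabiliser of `Q ≥ QS ≥ 1` in `C(z i)`
  let B : Subgroup G :=
    { carrier := {x | x ∈ CC (z i) ∧ (∀ u ∈ QS V (z i), x * u = u * x) ∧
        ∀ q ∈ QQ (z i), x * q * x⁻¹ * q⁻¹ ∈ QS V (z i)}
      one_mem' := ⟨one_mem _, fun u _ => by simp, fun q _ => by simp⟩
      mul_mem' := by
        rintro x y ⟨hx1, hx2, hx3⟩ ⟨hy1, hy2, hy3⟩
        refine ⟨mul_mem hx1 hy1, fun u hu => ?_, fun q hq => ?_⟩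
        · calc x * y * u = x * (y * u) := by group
            _ = (x * u) * y := by rw [hy2 u hu]; group
            _ = u * (x * y) := by rw [hx2 u hu]; group
        · have e : x * y * q * (x * y)⁻¹ * q⁻¹ =
              (x * (y * q * y⁻¹ * q⁻¹) * x⁻¹) * (x * q * x⁻¹ * q⁻¹) := by group
          rw [e, comm_conj (hx2 _ (hy3 q hq))]
          exact mul_mem (hy3 q hq) (hx3 q hq)
      inv_mem' := by
        rintro x ⟨hx1, hx2, hx3⟩
        have hx2' : ∀ u ∈ QS V (z i), x⁻¹ * u = u * x⁻¹ := by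
          intro u hu
          rw [inv_mul_eq_iff_eq_mul, ← mul_assoc, hx2 u hu, mul_assoc, mul_inv_cancel, mul_one]
        refine ⟨inv_mem hx1, hx2', fun q hq => ?_⟩
        have e : x⁻¹ * q * x⁻¹⁻¹ * q⁻¹ = x⁻¹ * (x * q * x⁻¹ * q⁻¹)⁻¹ * x⁻¹⁻¹ := by group
        rw [e, comm_conj (hx2' _ (inv_mem (hx3 q hq)))]
        exact inv_mem (hx3 q hq) }
  have hB : B ≤ QQ (z i) := by
    refine le_o2 (fun x hx => hx.1) ?_ ?_
    · rintro ⟨x, hx1, hx2, hx3⟩
      obtain ⟨k, hk⟩ := LemmaT.exists_pow_comm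
        ((o2_isPGroup (CC (z i))).to_le (QS_le V (z i)) : IsPGroup 2 ↥(QS V (z i))) hx2 hx3
      have h2 : x ^ 2 ^ k ∈ QQ (z i) :=
        hl.char2 _ (mem_CC.1 (pow_mem hx1 _)) fun r hr => hk r hr
      obtain ⟨l, hl'⟩ := LemmaT.exists_pow_eq_one (o2_isPGroup (CC (z i)))
      refine ⟨k + l, Subtype.ext ?_⟩
      change x ^ 2 ^ (k + l) = 1
      rw [pow_add, pow_mul]
      exact hl' _ h2
    · have key : ∀ c ∈ CC (z i), ∀ x ∈ B, c * x * c⁻¹ ∈ B := by
        rintro c hc x ⟨hx1, hx2, hx3⟩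
        have hc' := mem_CC.1 hc
        have hci : c⁻¹ * z i = z i * c⁻¹ := by
          rw [inv_mul_eq_iff_eq_mul, ← mul_assoc, hc', mul_assoc, mul_inv_cancel, mul_one]
        refine ⟨mul_mem (mul_mem hc hx1) (inv_mem hc), fun u hu => ?_, fun q hq => ?_⟩
        · have h1 := hx2 _ (QS_norm hci hu)
          calc c * x * c⁻¹ * u = c * (x * (c⁻¹ * u * c⁻¹⁻¹)) * c⁻¹ := by group
            _ = c * ((c⁻¹ * u * c⁻¹⁻¹) * x) * c⁻¹ := by rw [h1]
            _ = u * (c * x * c⁻¹) := by group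
        · have h1 := QS_norm hc' (hx3 _ (QQ_norm hci hq))
          have e : c * x * c⁻¹ * q * (c * x * c⁻¹)⁻¹ * q⁻¹ =
              c * (x * (c⁻¹ * q * c⁻¹⁻¹) * x⁻¹ * (c⁻¹ * q * c⁻¹⁻¹)⁻¹) * c⁻¹ := by group
          rw [e]; exact h1
      intro c hc
      rw [mem_normalizer_iff]
      intro x
      refine ⟨key c hc x, fun hx => ?_⟩
      have h6 := key c⁻¹ (inv_mem hc) _ hx
      have e : c⁻¹ * (c * x * c⁻¹) * c⁻¹⁻¹ = x := by group
      rwa [e] at h6
  intro v hv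
  refine hB ⟨mem_CC.2 (hVz v hv), hVcomm v hv, fun q hq => ?_⟩
  have h1 : v * q * v⁻¹ * q⁻¹ ∈ V := by
    have e : v * q * v⁻¹ * q⁻¹ = v * (q * v⁻¹ * q⁻¹) := by group
    rw [e]
    exact mul_mem hv ((mem_normalizer_iff.1 (hMV (hl.TM (hl.QT hq))) _).1 (inv_mem hv))
  exact mem_QS h1 (mul_mem (QQ_norm (hVz v hv) hq) (inv_mem hq))

/-- the swaps -/
theorem exists_swap [Finite G] (h : Pts M V z) (hMV : M ≤ normalizer (V : Set G)) {T : Subgroup G}
    {i : Fin 5} (hl : Loc M V z T i) {j k l m : Fin 5} (hn : [i, j, k, l, m].Nodup) :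
    ∃ u ∈ QS V (z i), u * z j * u⁻¹ = z k ∧ u * z k * u⁻¹ = z j ∧ u * z l * u⁻¹ = z m ∧
      u * z m * u⁻¹ = z l := by
  have hn' := hn
  simp only [List.nodup_cons, List.mem_cons, List.not_mem_nil, or_false, not_or, not_false_eq_true,
    List.nodup_nil, and_true] at hn
  obtain ⟨⟨hij, hik, hil, him⟩, ⟨hjk, hjl, hjm⟩, ⟨hkl, hkm⟩, hlm⟩ := hn
  obtain ⟨u₀, hu₀, j₀, hj₀⟩ := exists_move h hMV hl
  obtain ⟨σ₀, hσ₀⟩ := h.perm u₀ (hl.TM (hl.QT (QS_le V _ hu₀)))
  have hi₀ : σ₀ i = i := fix_of h hσ₀ (hl.cz _ (hl.QT (QS_le V _ hu₀)))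
  have hgood : ∀ j, j ≠ i → σ₀ j ≠ j ∧ σ₀ (σ₀ j) = j := by
    rcases act_four h hl (QS_le V _ hu₀) hσ₀ with h1 | h1
    · exact h1
    · exfalso
      apply hj₀
      apply conj_comm
      rw [hσ₀, h1]; rfl
  obtain ⟨h1, h2⟩ := hgood j (Ne.symm hij)
  have h3 : σ₀ j ≠ i := fun h3 => hij (σ₀.injective (hi₀.trans h3.symm))
  obtain ⟨τ, t1, t2, t3, t4⟩ := two_trans i j (σ₀ j) j k
    (nodup3 hij (Ne.symm h3) (Ne.symm h1)) (nodup3 hij hik hjk)
  obtain ⟨n, hn, hnz⟩ := h.alt τ t4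
  set u := n * u₀ * n⁻¹ with hu
  have huQ : u ∈ QS V (z i) := by
    have h5 := QS_conj (hMV hn) hu₀
    rwa [hnz, t1] at h5
  have hujk : u * z j * u⁻¹ = z k := by
    have e : n⁻¹ * z j * n = z j := by
      have h5 := hnz j
      rw [t2] at h5
      calc n⁻¹ * z j * n = n⁻¹ * (n * z j * n⁻¹) * n := by rw [h5]
        _ = z j := by group
    calc u * z j * u⁻¹ = n * (u₀ * (n⁻¹ * z j * n) * u₀⁻¹) * n⁻¹ := by rw [hu]; group
      _ = z k := by rw [e, hσ₀, hnz, t3]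
  obtain ⟨σ, hσ⟩ := h.perm u (hl.TM (hl.QT (QS_le V _ huQ)))
  have hi : σ i = i := fix_of h hσ (hl.cz _ (hl.QT (QS_le V _ huQ)))
  have hjk' : σ j = k := h.inj (by rw [← hσ, hujk])
  have hgood' : ∀ j, j ≠ i → σ j ≠ j ∧ σ (σ j) = j := by
    rcases act_four h hl (QS_le V _ huQ) hσ with h1 | h1
    · exact h1
    · exfalso
      rw [h1] at hjk'
      exact hjk hjk'
  have hkj : σ k = j := by rw [← hjk']; exact (hgood' j (Ne.symm hij)).2
  obtain ⟨l1, l2⟩ := hgood' l (Ne.symm hil)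
  have hli : σ l ≠ i := fun h5 => hil (σ.injective (hi.trans h5.symm))
  have hlj : σ l ≠ j := fun h5 => hkl (σ.injective (hkj.trans h5.symm))
  have hlk : σ l ≠ k := fun h5 => hjl (σ.injective (hjk'.trans h5.symm))
  have hcases : ∀ i j k l m : Fin 5, [i, j, k, l, m].Nodup → ∀ n, [i, j, k, l, n].Nodup → n = m := by
    decide
  have hlm' : σ l = m := hcases i j k l m hn' _ (by
    simp [hij, hik, hil, hjk, hjl, hkl, Ne.symm hli, Ne.symm hlj, Ne.symm hlk, Ne.symm l1])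
  have hml : σ m = l := by rw [← hlm']; exact l2
  exact ⟨u, huQ, hujk, by rw [hσ, hkj], by rw [hσ, hlm'], by rw [hσ, hml]⟩

/-- `min` -/
theorem min_mem [Finite G] (h : Pts M V z) {T : Subgroup G} {i : Fin 5} (hl : Loc M V z T i)
    {Y : Subgroup G} (hY : Y ≤ QQ (z i))
    (hn : ∀ m ∈ M, m * z i = z i * m → ∀ y ∈ Y, m * y * m⁻¹ ∈ Y) (hne : Y ≠ ⊥) : z i ∈ Y := by
  have hYT : Y ≤ T := hY.trans hl.QT
  have : Fact (Nat.Prime 2) := ⟨Nat.prime_two⟩
  have : Group.IsNilpotent T := hl.pg.isNilpotent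
  have hN : (Y.subgroupOf T).Normal := ⟨fun y hy t => by
    rw [mem_subgroupOf] at hy ⊢
    exact hn t (hl.TM t.2) (hl.cz t t.2) y hy⟩
  have hNb : Y.subgroupOf T ≠ ⊥ := by
    intro h1
    apply hne
    rw [eq_bot_iff]
    intro y hy
    have h2 : (⟨y, hYT hy⟩ : T) ∈ Y.subgroupOf T := mem_subgroupOf.2 hy
    rw [h1, mem_bot] at h2
    exact mem_bot.2 (congrArg Subtype.val h2)
  have h1 := Cfsg.Agent.Lib.NormalAbelian.normal_inf_center_ne_bot (Y.subgroupOf T) hNb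
  obtain ⟨⟨x, hxT⟩, hx, hx1⟩ : ∃ x : T, x ∈ Y.subgroupOf T ⊓ center T ∧ x ≠ 1 := by
    by_contra hcon
    push Not at hcon
    exact h1 (eq_bot_iff.2 fun x hx => mem_bot.2 (hcon x hx))
  have hx1' : x ≠ 1 := fun h => hx1 (Subtype.ext h)
  obtain ⟨hxY, hxZ⟩ := mem_inf.1 hx
  rw [mem_subgroupOf] at hxY
  have hxc : ∀ s ∈ T, x * s = s * x := by
    intro s hs
    have := mem_center_iff.1 hxZ ⟨s, hs⟩
    exact (congrArg Subtype.val this).symm
  -- an involution in `⟨x⟩`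
  obtain ⟨k, hk⟩ := (IsPGroup.iff_orderOf.1 hl.pg) ⟨x, hxT⟩
  have hk' : orderOf x = 2 ^ k := by
    rw [← hk, ← orderOf_submonoid]
  have hk0 : k ≠ 0 := by
    rintro rfl
    rw [pow_zero, orderOf_eq_one_iff] at hk'
    exact hx1' hk'
  obtain ⟨k, rfl⟩ := Nat.exists_eq_succ_of_ne_zero hk0
  have hy2 : x ^ 2 ^ k * x ^ 2 ^ k = 1 := by
    rw [← pow_add, ← two_mul, ← pow_succ', ← Nat.succ_eq_add_one, ← hk']
    exact pow_orderOf_eq_one x
  have hy1 : x ^ 2 ^ k ≠ 1 := by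
    intro h5
    have h6 := orderOf_dvd_of_pow_eq_one h5
    rw [hk', Nat.succ_eq_add_one, Nat.pow_dvd_pow_iff_le_right (by norm_num)] at h6
    omega
  rcases hl.Z (x ^ 2 ^ k) (pow_mem hxT _) (fun s hs => (show Commute x s from hxc s hs).pow_left _) hy2
    with h5 | h5
  · exact absurd h5 hy1
  · rw [← h5]; exact pow_mem hxY _

end Facts

/-- The local data at `z 0` -/
theorem loc_zero [Finite G] (hG : IsCharacteristicTwoType G) (S : Sylow 2 G) {M V : Subgroup G}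
    {z : Fin 5 → G} (h : Pts M V z) (hMV : M ≤ normalizer (V : Set G)) (hSM : (S : Subgroup G) ≤ M)
    (hVS : V ≤ (S : Subgroup G)) (hzS : ∀ s ∈ (S : Subgroup G), s * z 0 = z 0 * s)
    (hZ : ∀ x ∈ (S : Subgroup G), (∀ s ∈ (S : Subgroup G), x * s = s * x) → x * x = 1 →
      x = 1 ∨ x = z 0)
    (hVQ : ¬ V ≤ o2 (centralizer ({z 0} : Set G))) : Loc M V z (S : Subgroup G) 0 := by
  have hSF : (S : Subgroup G) ≤ CC (z 0) := fun s hs => mem_CC.2 (hzS s hs)
  have hSF' : (S : Subgroup G) ≤ normalizer ((zpowers (z 0) : Subgroup G) : Set G) :=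
    hSF.trans (LemmaT.centralizer_le_normalizer' _)
  have hF : IsPGroup 2 (zpowers (z 0)) := by
    refine S.isPGroup'.to_le ?_
    rw [zpowers_le]
    exact hVS (h.mem 0)
  have hF1 : (zpowers (z 0) : Subgroup G) ≠ ⊥ := by
    rw [Ne, zpowers_eq_bot]; exact h.ne_one 0
  have hVV : V ≤ centralizer (V : Set G) := by
    have hc : ∀ v ∈ V, ∀ i, v * z i = z i * v := by
      intro v hv i
      rcases h.gen v hv with rfl | ⟨a, rfl⟩ | ⟨a, b, -, rfl⟩
      · simp
      · exact h.comm a i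
      · calc z a * z b * z i = z a * (z b * z i) := by group
          _ = (z a * z i) * z b := by rw [h.comm b i]; group
          _ = z i * (z a * z b) := by rw [h.comm a i]; group
    intro v hv
    rw [mem_centralizer_iff]
    intro w hw
    rcases h.gen w hw with rfl | ⟨a, rfl⟩ | ⟨a, b, -, rfl⟩
    · simp
    · exact (hc v hv a).symm
    · calc z a * z b * v = z a * (z b * v) := by group
        _ = (z a * v) * z b := by rw [← hc v hv b]; group
        _ = v * (z a * z b) := by rw [← hc v hv a]; group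
  refine ⟨hSM, S.isPGroup', hzS, LemmaT.o2_centralizer_le S hSF', hZ, ?_, ?_, ?_⟩
  · intro g hg hgx
    refine LemmaT.char2_centralizer hG hF hF1 (mem_inf.2 ⟨mem_CC.2 hg, ?_⟩)
    rw [mem_centralizer_iff]
    exact fun x hx => (hgx x hx).symm
  · rwa [QQ, CC_eq]
  · have hz0 : z 0 ∈ QQ (z 0) := z_mem_QQ (h.sq 0)
    rcases LemmaT.lemmaT' hG S hF1 (by rw [zpowers_le]; exact h.mem 0) hVS (hSM.trans hMV) hSF' hVV with
      h1 | ⟨h1, -⟩
    · exfalso
      apply hVQ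
      rw [← CC_eq]; exact h1
    · obtain ⟨e, he, he'⟩ := SetLike.exists_of_lt h1
      refine ⟨e, he, ?_, ?_⟩
      · rintro rfl
        exact he' (one_mem _)
      · rintro rfl
        exact he' (mem_zpowers _)

/-- The configuration `DZ`. -/
theorem dz [Finite G] (hG : IsCharacteristicTwoType G) (S : Sylow 2 G) {M V : Subgroup G}
    {z : Fin 5 → G} (h : Pts M V z) (hMV : M ≤ normalizer (V : Set G)) (hSM : (S : Subgroup G) ≤ M)
    (hVS : V ≤ (S : Subgroup G)) (hzS : ∀ s ∈ (S : Subgroup G), s * z 0 = z 0 * s)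
    (hZ : ∀ x ∈ (S : Subgroup G), (∀ s ∈ (S : Subgroup G), x * s = s * x) → x * x = 1 →
      x = 1 ∨ x = z 0)
    (hVQ : ¬ V ≤ o2 (centralizer ({z 0} : Set G))) :
    DZ M z (fun i => QQ (z i)) (fun i => QS V (z i)) := by
  have h0 := loc_zero hG S h hMV hSM hVS hzS hZ hVQ
  have hloc : ∀ i, ∃ T, Loc M V z T i := by
    intro i
    obtain ⟨τ, ht, hti⟩ : ∃ τ : Equiv.Perm (Fin 5), τ 0 = i ∧ Equiv.Perm.sign τ = 1 := by
      have key : ∀ i : Fin 5, ∃ a b : Fin 5, [a, 0, b].Nodup ∧ ∃ c, [a, i, c].Nodup := by decide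
      obtain ⟨a, b, h1, c, h2⟩ := key i
      obtain ⟨τ, -, t2, -, t4⟩ := two_trans a 0 b i c h1 h2
      exact ⟨τ, t2, t4⟩
    obtain ⟨m, hm, hmz⟩ := h.alt τ hti
    exact ⟨_, h0.conj hMV hm (by rw [hmz, ht])⟩
  choose T hT using hloc
  exact
    { inj := h.inj
      ne_one := h.ne_one
      sq := h.sq
      comm := h.comm
      prod := h.prod
      QM := fun i => (hT i).QT.trans (hT i).TM
      perm := fun m hm i => by
        obtain ⟨σ, hσ⟩ := h.perm m hm
        exact ⟨σ i, hσ i⟩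
      eqQ := fun m _ i j hij x hx => by
        have h1 := (mem_QQ_conj (g := m)).2 hx
        rwa [hij] at h1
      eqQs := fun m hm i j hij x hx => by
        have h1 := QS_conj (hMV hm) hx
        rwa [hij] at h1
      nQ := fun i c hc x hx => QQ_norm hc hx
      nQs := fun i c hc x hx => QS_norm hc hx
      le := fun i => QS_le V _
      zmem := fun i => mem_QS (h.mem i) (z_mem_QQ (h.sq i))
      Qz := fun i x hx => (hT i).cz x ((hT i).QT hx)
      comQ := fun i x hx y hy => by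
        rcases comm_QS h (hT i) hx y hy with h1 | h1
        · exact Or.inl (conj_comm h1)
        · right
          calc x * y = x * y * x⁻¹ * x := by group
            _ = z i * (y * x) := by rw [h1]; group
      pair := fun i j k hji hki hjk =>
        mem_QS (mul_mem (h.mem j) (h.mem k)) (pair_mem h (hT i) hji hki hjk)
      swap := fun i j k l m hn => exists_swap h hMV (hT i) hn
      min := fun i Y hY hn hne => min_mem h (hT i) hY hn hne }

open Cfsg.Agent.Co2Type.Quad in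
/-- **THEOREM D0.** -/
theorem large [Finite G] (hG : IsCharacteristicTwoType G) (S : Sylow 2 G) {M V : Subgroup G}
    {z : Fin 5 → G} (h : Pts M V z) (hMV : M ≤ normalizer (V : Set G)) (hSM : (S : Subgroup G) ≤ M)
    (hVS : V ≤ (S : Subgroup G)) (hzS : ∀ s ∈ (S : Subgroup G), s * z 0 = z 0 * s)
    (hZ : ∀ x ∈ (S : Subgroup G), (∀ s ∈ (S : Subgroup G), x * s = s * x) → x * x = 1 →
      x = 1 ∨ x = z 0)
    (hVQ : ¬ V ≤ o2 (centralizer ({z 0} : Set G))) :
    Large (o2 (centralizer ({z 0} : Set G))) (z 0) := by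
  have h1 := dz hG S h hMV hSM hVS hzS hZ hVQ
  have h0 := loc_zero hG S h hMV hSM hVS hzS hZ hVQ
  have h2 := h1.large 0 h0.char2
  have e : QQ (z 0) = o2 (centralizer ({z 0} : Set G)) := by rw [QQ, CC_eq]
  rwa [e] at h2

end Cfsg.Agent.Omega.NOne.DZeroPts

end

section


/-!
# NO-1: points with four opposite points, abstract form (helper537)

The second half ((3)-(7)) of the texts #11921 (THEOREM D0) and #12107 (THEOREM D0+), for an arbitrary
system of points `z i` with a relation `op i j` ("`z i`, `z j` are not perpendicular") such that every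
point has exactly four opposite points and `Qs i` induces the regular four-group on them.
`D i = C_{Q i}(Qs i)`.  If the `D i` intersect trivially and centralise all points, then
`D i = ⟨z i⟩` and `Q i` is a large extraspecial group (`Large (Q i) (z i)`).

The text is helper302's `DZero.lean`, for a general index set.
-/

set_option autoImplicit false

namespace Cfsg.Agent.Omega.NOne.QuadPts

open Subgroup

variable {G : Type*} [Group G] {ι : Type*}

/-- `j, k, l, m` are four distinct points opposite to `i` -/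
def Qd (op : ι → ι → Prop) (i j k l m : ι) : Prop :=
  (op i j ∧ op i k ∧ op i l ∧ op i m) ∧ (j ≠ k ∧ j ≠ l ∧ j ≠ m ∧ k ≠ l ∧ k ≠ m ∧ l ≠ m)

/-- The abstract configuration. -/
structure QZ (M : Subgroup G) (z : ι → G) (Q Qs : ι → Subgroup G) (op : ι → ι → Prop) : Prop where
  inj : Function.Injective z
  ne_one : ∀ i, z i ≠ 1
  sq : ∀ i, z i * z i = 1
  comm : ∀ i j, z i * z j = z j * z i
  QM : ∀ i, Q i ≤ M
  perm : ∀ m ∈ M, ∀ i, ∃ j, m * z i * m⁻¹ = z j
  eqQ : ∀ m ∈ M, ∀ i j, m * z i * m⁻¹ = z j → ∀ x ∈ Q i, m * x * m⁻¹ ∈ Q j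
  eqQs : ∀ m ∈ M, ∀ i j, m * z i * m⁻¹ = z j → ∀ x ∈ Qs i, m * x * m⁻¹ ∈ Qs j
  nQ : ∀ i c, c * z i = z i * c → ∀ x ∈ Q i, c * x * c⁻¹ ∈ Q i
  nQs : ∀ i c, c * z i = z i * c → ∀ x ∈ Qs i, c * x * c⁻¹ ∈ Qs i
  le : ∀ i, Qs i ≤ Q i
  zmem : ∀ i, z i ∈ Qs i
  Qz : ∀ i, ∀ x ∈ Q i, x * z i = z i * x
  comQ : ∀ i, ∀ x ∈ Qs i, ∀ y ∈ Q i, x * y = y * x ∨ x * y = z i * (y * x)
  irr : ∀ i, ¬ op i i
  symm : ∀ i j, op i j → op j i
  eqOp : ∀ m ∈ M, ∀ i j i' j', op i j → m * z i * m⁻¹ = z i' → m * z j * m⁻¹ = z j' → op i' j'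
  ex : ∀ j, ∃ i, op i j
  four : ∀ i j, op i j → ∃ k l m, Qd op i j k l m
  all : ∀ i j k l m n, Qd op i j k l m → op i n → n = j ∨ n = k ∨ n = l ∨ n = m
  prod : ∀ i j k l m, Qd op i j k l m → z j * z k * z l * z m = z i
  swap : ∀ i j k l m, Qd op i j k l m → ∃ u ∈ Qs i, u * z j * u⁻¹ = z k ∧
    u * z k * u⁻¹ = z j ∧ u * z l * u⁻¹ = z m ∧ u * z m * u⁻¹ = z l
  rg : ∀ i j k u, op i j → op i k → u ∈ Qs i → u * z j = z j * u → u * z k = z k * u
  fix : ∀ i d, d ∈ Q i ⊓ centralizer (Qs i : Set G) → ∀ j, d * z j = z j * d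
  dis : ∀ i j, i ≠ j → ∀ y, y ∈ Q i ⊓ centralizer (Qs i : Set G) →
    y ∈ Q j ⊓ centralizer (Qs j : Set G) → y = 1
  min : ∀ i, ∀ Y : Subgroup G, Y ≤ Q i →
    (∀ m ∈ M, m * z i = z i * m → ∀ y ∈ Y, m * y * m⁻¹ ∈ Y) → Y ≠ ⊥ → z i ∈ Y

theorem conj_comm {x y : G} (h : x * y * x⁻¹ = y) : x * y = y * x := by
  calc x * y = x * y * x⁻¹ * x := by group
    _ = y * x := by rw [h]

theorem comm_conj {x y : G} (h : x * y = y * x) : x * y * x⁻¹ = y := by
  rw [h]; group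


theorem Qd.ex1 {op : ι → ι → Prop} {i j k l m : ι} (h : Qd op i j k l m) : Qd op i j k m l := by
  obtain ⟨⟨a, b, c, d⟩, e, f, g, u, v, w⟩ := h
  exact ⟨⟨a, b, d, c⟩, e, g, f, v, u, w.symm⟩

theorem Qd.ex2 {op : ι → ι → Prop} {i j k l m : ι} (h : Qd op i j k l m) : Qd op i j l k m := by
  obtain ⟨⟨a, b, c, d⟩, e, f, g, u, v, w⟩ := h
  exact ⟨⟨a, c, b, d⟩, f, e, g, u.symm, w, v⟩

theorem Qd.ex3 {op : ι → ι → Prop} {i j k l m : ι} (h : Qd op i j k l m) : Qd op i k j l m := by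
  obtain ⟨⟨a, b, c, d⟩, e, f, g, u, v, w⟩ := h
  exact ⟨⟨b, a, c, d⟩, e.symm, u, v, f, g, w⟩

namespace QZ

variable {M : Subgroup G} {z : ι → G} {Q Qs : ι → Subgroup G} {op : ι → ι → Prop}

/-- `C_{Q i}(Qs i)` -/
def D (_h : QZ M z Q Qs op) (i : ι) : Subgroup G := Q i ⊓ centralizer (Qs i : Set G)

variable (h : QZ M z Q Qs op)
include h

theorem mem_D {i : ι} {x : G} : x ∈ h.D i ↔ x ∈ Q i ∧ ∀ y ∈ Qs i, x * y = y * x := by
  rw [D, mem_inf, mem_centralizer_iff]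
  exact and_congr_right fun _ => ⟨fun H y hy => (H y hy).symm, fun H y hy => (H y hy).symm⟩

theorem ne {i j : ι} (hij : op i j) : i ≠ j := by
  rintro rfl
  exact h.irr i hij

theorem zinv (i : ι) : (z i)⁻¹ = z i := inv_eq_of_mul_eq_one_left (h.sq i)

theorem z_mem_D (i : ι) : z i ∈ h.D i :=
  h.mem_D.2 ⟨h.le i (h.zmem i), fun y hy => (h.Qz i y (h.le i hy)).symm⟩

theorem QsM (i : ι) : Qs i ≤ M := (h.le i).trans (h.QM i)

/-- `D i` centralises all points. -/
theorem D_comm_z {i : ι} {d : G} (hd : d ∈ h.D i) (j : ι) : d * z j = z j * d := h.fix i d hd j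

theorem disj {i j : ι} (hij : i ≠ j) {y : G} (h1 : y ∈ h.D i) (h2 : y ∈ h.D j) : y = 1 :=
  h.dis i j hij y h1 h2

theorem reg {i j k : ι} (hij : op i j) (hik : op i k) {u : G} (hu : u ∈ Qs i)
    (huj : u * z j = z j * u) : u * z k = z k * u := h.rg i j k u hij hik hu huj

/-- three more opposite points -/
theorem exists_two {i j k : ι} (hij : op i j) (hik : op i k) (hjk : j ≠ k) :
    ∃ l m, Qd op i j k l m := by
  obtain ⟨a, b, c, hn⟩ := h.four i j hij
  rcases h.all i j a b c k hn hik with rfl | rfl | rfl | rfl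
  · exact absurd rfl hjk
  · exact ⟨b, c, hn⟩
  · exact ⟨a, c, hn.ex2⟩
  · exact ⟨b, a, hn.ex2.ex1.ex2⟩

/-- equivariance of `D` -/
theorem eqD {m : G} (hm : m ∈ M) {i j : ι} (hij : m * z i * m⁻¹ = z j) {d : G}
    (hd : d ∈ h.D i) : m * d * m⁻¹ ∈ h.D j := by
  obtain ⟨hd1, hd2⟩ := h.mem_D.1 hd
  refine h.mem_D.2 ⟨h.eqQ m hm i j hij d hd1, fun y hy => ?_⟩
  have hji : m⁻¹ * z j * m⁻¹⁻¹ = z i := by rw [← hij]; group
  have hy' := h.eqQs m⁻¹ (inv_mem hm) j i hji y hy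
  have e := hd2 _ hy'
  calc m * d * m⁻¹ * y = m * (d * (m⁻¹ * y * m⁻¹⁻¹)) * m⁻¹ := by group
    _ = m * (m⁻¹ * y * m⁻¹⁻¹ * d) * m⁻¹ := by rw [e]
    _ = y * (m * d * m⁻¹) := by group

/-- `C(z i)` normalises `D i`. -/
theorem nD {i : ι} {c : G} (hc : c * z i = z i * c) {d : G} (hd : d ∈ h.D i) :
    c * d * c⁻¹ ∈ h.D i := by
  obtain ⟨hd1, hd2⟩ := h.mem_D.1 hd
  refine h.mem_D.2 ⟨h.nQ i c hc d hd1, fun y hy => ?_⟩
  have hc' : c⁻¹ * z i = z i * c⁻¹ := by
    rw [inv_mul_eq_iff_eq_mul, ← mul_assoc, hc, mul_assoc, mul_inv_cancel, mul_one]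
  have hy' := h.nQs i c⁻¹ hc' y hy
  have e := hd2 _ hy'
  calc c * d * c⁻¹ * y = c * (d * (c⁻¹ * y * c⁻¹⁻¹)) * c⁻¹ := by group
    _ = c * (c⁻¹ * y * c⁻¹⁻¹ * d) * c⁻¹ := by rw [e]
    _ = y * (c * d * c⁻¹) := by group

theorem swap' {i j k : ι} (hij : op i j) (hik : op i k) (hjk : j ≠ k) :
    ∃ u ∈ Qs i, u * z j * u⁻¹ = z k := by
  obtain ⟨l, m, hn⟩ := h.exists_two hij hik hjk
  obtain ⟨u, hu, h1, -⟩ := h.swap i j k l m hn
  exact ⟨u, hu, h1⟩

/-- (2) `[D i, D j] = 1` -/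
theorem DD_comm {i j : ι} (hij : i ≠ j) {a b : G} (ha : a ∈ h.D i) (hb : b ∈ h.D j) :
    a * b = b * a := by
  have h1 : a * b * a⁻¹ * b⁻¹ ∈ h.D j :=
    mul_mem (h.nD (h.D_comm_z ha j) hb) (inv_mem hb)
  have h2 : a * b * a⁻¹ * b⁻¹ ∈ h.D i := by
    have e : a * b * a⁻¹ * b⁻¹ = a * (b * a⁻¹ * b⁻¹) := by group
    rw [e]
    exact mul_mem ha (h.nD (h.D_comm_z hb i) (inv_mem ha))
  have h3 := h.disj hij h2 h1
  rw [mul_inv_eq_one, mul_inv_eq_iff_eq_mul] at h3
  exact h3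

/-- (3) `D j ∩ Q i = 1` -/
theorem D_inf_Q {i j : ι} (hij : op i j) {b : G} (hb : b ∈ h.D j) (hbi : b ∈ Q i) : b = 1 := by
  by_contra hb1
  have key : ∀ k, op i k → j ≠ k → z i * b ∈ h.D k := by
    intro k hik hjk
    obtain ⟨u, hu, hu1⟩ := h.swap' hij hik hjk
    have h1 := h.eqD (h.QsM i hu) hu1 hb
    rcases h.comQ i u hu b hbi with h2 | h2
    · rw [comm_conj h2] at h1
      exact absurd (h.disj hjk hb h1) hb1
    · have e : u * b * u⁻¹ = z i * b := by rw [h2]; group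
      rwa [e] at h1
  obtain ⟨k, l, n, hn⟩ := h.four i j hij
  obtain ⟨⟨-, hik, hil, -⟩, hjk, hjl, -, hkl, -, -⟩ := hn
  have h1 := h.disj hkl (key k hik hjk) (key l hil hjl)
  have h2 : b = z i := by rw [← h.zinv i]; exact (inv_eq_of_mul_eq_one_right h1).symm
  apply hb1
  refine h.disj (h.ne hij) ?_ hb
  rw [h2]; exact h.z_mem_D i

/-- (4) `[D j, C_{Q i}(z j)] = 1` -/
theorem comm_CQ {i j : ι} (hij : op i j) {d w : G} (hd : d ∈ h.D j) (hw : w ∈ Q i)
    (hwj : w * z j = z j * w) : w * d = d * w := by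
  have h1 : w * d * w⁻¹ * d⁻¹ ∈ h.D j := mul_mem (h.nD hwj hd) (inv_mem hd)
  have h2 : w * d * w⁻¹ * d⁻¹ ∈ Q i := by
    have e : w * d * w⁻¹ * d⁻¹ = w * (d * w⁻¹ * d⁻¹) := by group
    rw [e]
    exact mul_mem hw (h.nQ i d (h.D_comm_z hd i) _ (inv_mem hw))
  have h3 := h.D_inf_Q hij h1 h2
  rw [mul_inv_eq_one, mul_inv_eq_iff_eq_mul] at h3
  exact h3

/-- (4) the transport of `d` depends only on the target point. -/
theorem tr {i j : ι} (hij : op i j) {d u u' : G} (hd : d ∈ h.D j) (hu : u ∈ Q i) (hu' : u' ∈ Q i)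
    (e : u * z j * u⁻¹ = u' * z j * u'⁻¹) : u * d * u⁻¹ = u' * d * u'⁻¹ := by
  have h1 : (u'⁻¹ * u) * z j = z j * (u'⁻¹ * u) := by
    apply conj_comm
    calc u'⁻¹ * u * z j * (u'⁻¹ * u)⁻¹ = u'⁻¹ * (u * z j * u⁻¹) * u' := by group
      _ = z j := by rw [e]; group
  have h2 := h.comm_CQ hij hd (mul_mem (inv_mem hu') hu) h1
  calc u * d * u⁻¹ = u' * ((u'⁻¹ * u) * d) * u⁻¹ := by group
    _ = u' * (d * (u'⁻¹ * u)) * u⁻¹ := by rw [h2]
    _ = u' * d * u'⁻¹ := by group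

/-- `[u, d] ∈ Q i` -/
theorem comm_mem_Q {i j : ι} {d u : G} (hd : d ∈ h.D j) (hu : u ∈ Q i) :
    u * d * u⁻¹ * d⁻¹ ∈ Q i := by
  have e : u * d * u⁻¹ * d⁻¹ = u * (d * u⁻¹ * d⁻¹) := by group
  rw [e]
  exact mul_mem hu (h.nQ i d (h.D_comm_z hd i) _ (inv_mem hu))

/-- (4) `D j` is abelian. -/
theorem D_abelian {j : ι} {a b : G} (ha : a ∈ h.D j) (hb : b ∈ h.D j) : a * b = b * a := by
  obtain ⟨i, hij⟩ := h.ex j
  obtain ⟨k, l, n, hn⟩ := h.four i j hij
  obtain ⟨⟨-, hik, hil, -⟩, hjk, hjl, -, hkl, -, -⟩ := hn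
  obtain ⟨u, hu, hu1⟩ := h.swap' hij hik hjk
  have ha' := h.eqD (h.QsM i hu) hu1 ha
  have h1 := h.DD_comm (Ne.symm hjk) ha' hb
  set q := u * a * u⁻¹ * a⁻¹ with hq
  have hqi : q ∈ Q i := h.comm_mem_Q ha (h.le i hu)
  have e1 : u * a * u⁻¹ = q * a := by rw [hq]; group
  rw [e1] at h1
  -- `q a b = b q a`
  have h2 : a * b * a⁻¹ * b⁻¹ = q⁻¹ * (b * q * b⁻¹) := by
    calc a * b * a⁻¹ * b⁻¹ = q⁻¹ * (q * a * b) * a⁻¹ * b⁻¹ := by group
      _ = q⁻¹ * (b * (q * a)) * a⁻¹ * b⁻¹ := by rw [h1]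
      _ = q⁻¹ * (b * q * b⁻¹) := by group
  have h3 : a * b * a⁻¹ * b⁻¹ ∈ Q i := by
    rw [h2]
    exact mul_mem (inv_mem hqi) (h.nQ i b (h.D_comm_z hb i) _ hqi)
  have h4 : a * b * a⁻¹ * b⁻¹ ∈ h.D j :=
    mul_mem (mul_mem (mul_mem ha hb) (inv_mem ha)) (inv_mem hb)
  have h5 := h.D_inf_Q hij h4 h3
  rw [mul_inv_eq_one, mul_inv_eq_iff_eq_mul] at h5
  exact h5

/-- `e` is the transport of `d ∈ D j` to the point `z k` by `Qs i`. -/
def T (_h : QZ M z Q Qs op) (i j k : ι) (d e : G) : Prop :=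
  ∃ u ∈ Qs i, u * z j * u⁻¹ = z k ∧ e = u * d * u⁻¹

theorem T_mem {i j k : ι} {d e : G} (hd : d ∈ h.D j) (hT : h.T i j k d e) : e ∈ h.D k := by
  obtain ⟨u, hu, hu1, rfl⟩ := hT
  exact h.eqD (h.QsM i hu) hu1 hd

theorem T_eq {i j k : ι} (hij : op i j) {d e u : G} (hd : d ∈ h.D j) (hT : h.T i j k d e)
    (hu : u ∈ Qs i) (hu1 : u * z j * u⁻¹ = z k) : u * d * u⁻¹ = e := by
  obtain ⟨v, hv, hv1, rfl⟩ := hT
  exact h.tr hij hd (h.le i hu) (h.le i hv) (hu1.trans hv1.symm)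

/-- (5) -/
theorem key {i j k l m : ι} (hn : Qd op i j k l m) {d b c e : G} (hd : d ∈ h.D j)
    (hb : h.T i j k d b) (hc : h.T i j l d c) (he : h.T i j m d e) :
    e * d = b * c ∨ e * d = z i * (b * c) := by
  have hn' := hn
  obtain ⟨⟨hij, hik, hil, him⟩, hjk, hjl, hjm, hkl, hkm, hlm⟩ := hn
  obtain ⟨u, hu, hu1, -⟩ := h.swap i j k l m hn'
  obtain ⟨v, hv, hv1, hv2, hv3, hv4⟩ := h.swap i j l k m hn'.ex2
  have eb : u * d * u⁻¹ = b := h.T_eq hij hd hb hu hu1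
  have ec : v * d * v⁻¹ = c := h.T_eq hij hd hc hv hv1
  have ee : v * b * v⁻¹ = e := by
    have h1 : (v * u) * z j * (v * u)⁻¹ = z m := by
      calc (v * u) * z j * (v * u)⁻¹ = v * (u * z j * u⁻¹) * v⁻¹ := by group
        _ = z m := by rw [hu1, hv3]
    have h2 := h.T_eq hij hd he (mul_mem hv hu) h1
    rw [← h2, ← eb]; group
  have hbD := h.T_mem hd hb
  have hcD := h.T_mem hd hc
  have hx : b * d⁻¹ ∈ Q i := by
    rw [← eb]; exact h.comm_mem_Q hd (h.le i hu)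
  have hcd : c * d = d * c := h.DD_comm (Ne.symm hjl) hcD hd
  have hv5 : v * (b * d⁻¹) * v⁻¹ = e * c⁻¹ := by
    rw [← ee, ← ec]; group
  rcases h.comQ i v hv _ hx with h1 | h1
  · left
    rw [comm_conj h1] at hv5
    have h2 : e = b * d⁻¹ * c := by rw [hv5]; group
    rw [h2, mul_assoc, hcd]; group
  · right
    have h3 : v * (b * d⁻¹) * v⁻¹ = z i * (b * d⁻¹) := by rw [h1]; group
    rw [h3] at hv5
    have h2 : e = z i * (b * d⁻¹) * c := by rw [hv5]; group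
    rw [h2, mul_assoc, hcd]; group

/-- all transports exist -/
theorem exists_T {i j k : ι} (hij : op i j) (hik : op i k) (hjk : j ≠ k) (d : G) :
    ∃ e, h.T i j k d e := by
  obtain ⟨u, hu, hu1⟩ := h.swap' hij hik hjk
  exact ⟨_, u, hu, hu1, rfl⟩

theorem sq_or {i j k l m : ι} (hn : Qd op i j k l m) {d b c e : G} (hd : d ∈ h.D j)
    (hb : h.T i j k d b) (hc : h.T i j l d c) (he : h.T i j m d e) :
    d * d = b * b ∨ d * d = z i * (b * b) := by
  have h1 := h.key hn hd hb hc he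
  have hn' := hn
  obtain ⟨⟨hij, hik, hil, him⟩, hjk, hjl, hjm, hkl, hkm, hlm⟩ := hn
  have h2 := h.key (k := k) (l := m) (m := l) hn'.ex1 hd hb he hc
  have hbD := h.T_mem hd hb
  have hcD := h.T_mem hd hc
  have heD := h.T_mem hd he
  have hcd : c * d = d * c := h.DD_comm (Ne.symm hjl) hcD hd
  have hed : e * d = d * e := h.DD_comm (Ne.symm hjm) heD hd
  have hce : c * e = e * c := h.DD_comm hlm hcD heD
  have hbc : b * c = c * b := h.DD_comm hkl hbD hcD
  have hbe : b * e = e * b := h.DD_comm hkm hbD heD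
  have hbz : b * z i = z i * b := h.D_comm_z hbD i
  have hcz : c * z i = z i * c := h.D_comm_z hcD i
  have hez : e * z i = z i * e := h.D_comm_z heD i
  have hdz : d * z i = z i * d := h.D_comm_z hd i
  have hzz := h.sq i
  -- `(c e)⁻¹ (e d) (c d) = d²`, `(c e)⁻¹ (b c) (b e) = b²`
  have a1 : e * d * (c * d) = c * e * (d * d) := by
    calc e * d * (c * d) = e * (d * c) * d := by group
      _ = e * (c * d) * d := by rw [hcd]
      _ = (e * c) * (d * d) := by group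
      _ = c * e * (d * d) := by rw [hce]
  have a2 : b * c * (b * e) = c * e * (b * b) := by
    calc b * c * (b * e) = (b * c) * (b * e) := rfl
      _ = (c * b) * (e * b) := by rw [hbc, hbe]
      _ = c * (b * e) * b := by group
      _ = c * (e * b) * b := by rw [hbe]
      _ = c * e * (b * b) := by group
  rcases h1 with h1 | h1 <;> rcases h2 with h2 | h2
  · left
    rw [h1, h2, a2] at a1
    exact (mul_left_cancel a1).symm
  · right
    rw [h1, h2] at a1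
    have a3 : b * c * (z i * (b * e)) = c * e * (z i * (b * b)) := by
      calc b * c * (z i * (b * e)) = b * (c * z i) * (b * e) := by group
        _ = b * (z i * c) * (b * e) := by rw [hcz]
        _ = (b * z i) * c * (b * e) := by group
        _ = (z i * b) * c * (b * e) := by rw [hbz]
        _ = z i * (b * c * (b * e)) := by group
        _ = z i * (c * e * (b * b)) := by rw [a2]
        _ = (z i * c) * e * (b * b) := by group
        _ = (c * z i) * e * (b * b) := by rw [hcz]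
        _ = c * (z i * e) * (b * b) := by group
        _ = c * (e * z i) * (b * b) := by rw [hez]
        _ = c * e * (z i * (b * b)) := by group
    rw [a3] at a1
    exact (mul_left_cancel a1).symm
  · right
    rw [h1, h2] at a1
    have a3 : z i * (b * c) * (b * e) = c * e * (z i * (b * b)) := by
      calc z i * (b * c) * (b * e) = z i * (b * c * (b * e)) := by group
        _ = z i * (c * e * (b * b)) := by rw [a2]
        _ = (z i * c) * e * (b * b) := by group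
        _ = (c * z i) * e * (b * b) := by rw [hcz]
        _ = c * (z i * e) * (b * b) := by group
        _ = c * (e * z i) * (b * b) := by rw [hez]
        _ = c * e * (z i * (b * b)) := by group
    rw [a3] at a1
    exact (mul_left_cancel a1).symm
  · left
    rw [h1, h2] at a1
    have a3 : z i * (b * c) * (z i * (b * e)) = c * e * (b * b) := by
      calc z i * (b * c) * (z i * (b * e)) = z i * b * (c * z i) * (b * e) := by group
        _ = z i * b * (z i * c) * (b * e) := by rw [hcz]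
        _ = z i * (b * z i) * c * (b * e) := by group
        _ = z i * (z i * b) * c * (b * e) := by rw [hbz]
        _ = (z i * z i) * (b * c * (b * e)) := by group
        _ = c * e * (b * b) := by rw [hzz, one_mul, a2]
    rw [a3] at a1
    exact (mul_left_cancel a1).symm

/-- (5) `D j` is elementary abelian. -/
theorem D_sq {j : ι} {d : G} (hd : d ∈ h.D j) : d * d = 1 := by
  obtain ⟨i, hij⟩ := h.ex j
  obtain ⟨k, l, m, hn⟩ := h.four i j hij
  have hn' := hn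
  obtain ⟨⟨-, hik, hil, him⟩, hjk, hjl, hjm, hkl, hkm, hlm⟩ := hn
  obtain ⟨b, hb⟩ := h.exists_T hij hik hjk d
  obtain ⟨c, hc⟩ := h.exists_T hij hil hjl d
  obtain ⟨e, he⟩ := h.exists_T hij him hjm d
  have hbD := h.T_mem hd hb
  have hcD := h.T_mem hd hc
  have h1 := h.sq_or hn' hd hb hc he
  have h2 := h.sq_or (k := l) (l := k) (m := m) hn'.ex2 hd hc hb he
  rcases h1 with h1 | h1
  · refine h.disj hjk (mul_mem hd hd) ?_
    rw [h1]; exact mul_mem hbD hbD
  rcases h2 with h2 | h2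
  · refine h.disj hjl (mul_mem hd hd) ?_
    rw [h2]; exact mul_mem hcD hcD
  have h3 : b * b = c * c := mul_left_cancel (h1.symm.trans h2)
  have h4 : b * b = 1 := by
    refine h.disj hkl (mul_mem hbD hbD) ?_
    rw [h3]; exact mul_mem hcD hcD
  obtain ⟨u, hu, hu1, rfl⟩ := hb
  have h5 : u * (d * d) * u⁻¹ = 1 := by
    rw [← h4]; group
  calc d * d = u⁻¹ * (u * (d * d) * u⁻¹) * u := by group
    _ = 1 := by rw [h5]; group

/-- (6) `A i j = {d ∈ D j : [Qs i, d] ≤ D i}` -/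
def A (i j : ι) (hij : op i j) : Subgroup G where
  carrier := {d | d ∈ h.D j ∧ ∀ u ∈ Qs i, u * d * u⁻¹ * d⁻¹ ∈ h.D i}
  one_mem' := ⟨one_mem _, fun u _ => by simp⟩
  mul_mem' := by
    rintro a b ⟨ha, ha'⟩ ⟨hb, hb'⟩
    refine ⟨mul_mem ha hb, fun u hu => ?_⟩
    have h1 := h.DD_comm (h.ne hij) (hb' u hu) ha
    have e : u * (a * b) * u⁻¹ * (a * b)⁻¹ =
        (u * a * u⁻¹ * a⁻¹) * (u * b * u⁻¹ * b⁻¹) := by
      calc u * (a * b) * u⁻¹ * (a * b)⁻¹ =
          u * a * u⁻¹ * ((u * b * u⁻¹ * b⁻¹) * a⁻¹) := by group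
        _ = u * a * u⁻¹ * (a⁻¹ * (a * (u * b * u⁻¹ * b⁻¹)) * a⁻¹) := by group
        _ = u * a * u⁻¹ * (a⁻¹ * ((u * b * u⁻¹ * b⁻¹) * a) * a⁻¹) := by rw [h1]
        _ = (u * a * u⁻¹ * a⁻¹) * (u * b * u⁻¹ * b⁻¹) := by group
    rw [e]
    exact mul_mem (ha' u hu) (hb' u hu)
  inv_mem' := by
    rintro a ⟨ha, ha'⟩
    refine ⟨inv_mem ha, fun u hu => ?_⟩
    have h1 := h.DD_comm (h.ne hij) (inv_mem (ha' u hu)) ha
    have e : u * a⁻¹ * u⁻¹ * a⁻¹⁻¹ = (u * a * u⁻¹ * a⁻¹)⁻¹ := by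
      calc u * a⁻¹ * u⁻¹ * a⁻¹⁻¹ = a⁻¹ * ((u * a * u⁻¹ * a⁻¹)⁻¹ * a) := by group
        _ = a⁻¹ * (a * (u * a * u⁻¹ * a⁻¹)⁻¹) := by rw [h1]
        _ = (u * a * u⁻¹ * a⁻¹)⁻¹ := by group
    rw [e]
    exact inv_mem (ha' u hu)

theorem mem_A {i j : ι} {hij : op i j} {d : G} :
    d ∈ h.A i j hij ↔ d ∈ h.D j ∧ ∀ u ∈ Qs i, u * d * u⁻¹ * d⁻¹ ∈ h.D i := Iff.rfl

/-- equivariance of `A` -/
theorem eqA {m : G} (hm : m ∈ M) {i j i' j' : ι} (hi : m * z i * m⁻¹ = z i')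
    (hj : m * z j * m⁻¹ = z j') {hij : op i j} {hij' : op i' j'} {d : G} (hd : d ∈ h.A i j hij) :
    m * d * m⁻¹ ∈ h.A i' j' hij' := by
  obtain ⟨hd1, hd2⟩ := h.mem_A.1 hd
  refine h.mem_A.2 ⟨h.eqD hm hj hd1, fun u hu => ?_⟩
  have hi' : m⁻¹ * z i' * m⁻¹⁻¹ = z i := by rw [← hi]; group
  have h1 := h.eqD hm hi (hd2 _ (h.eqQs m⁻¹ (inv_mem hm) i' i hi' u hu))
  have e : u * (m * d * m⁻¹) * u⁻¹ * (m * d * m⁻¹)⁻¹ =
      m * (m⁻¹ * u * m⁻¹⁻¹ * d * (m⁻¹ * u * m⁻¹⁻¹)⁻¹ * d⁻¹) * m⁻¹ := by group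
  rw [e]; exact h1

/-- (6) `A i j` does not depend on `i`. -/
theorem A_indep {i i' j : ι} {hij : op i j} {hij' : op i' j} {d : G} (hd : d ∈ h.A i j hij) :
    d ∈ h.A i' j hij' := by
  by_cases hii : i = i'
  · subst hii; exact hd
  obtain ⟨w, hw, hw1⟩ := h.swap' (h.symm i j hij) (h.symm i' j hij') hii
  have hwj : w * z j * w⁻¹ = z j := comm_conj (h.Qz j w (h.le j hw))
  have h1 := h.eqA (hij' := hij') (h.QsM j hw) hw1 hwj hd
  rwa [comm_conj ((h.mem_D.1 (h.mem_A.1 hd).1).2 w hw).symm] at h1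

/-- (6) `z j ∉ A i j` -/
theorem z_notMem_A {i j : ι} {hij : op i j} : z j ∉ h.A i j hij := by
  intro hz
  obtain ⟨k, l, m, hn⟩ := h.four i j hij
  have hn' := hn
  obtain ⟨⟨-, hik, hil, him⟩, hjk, hjl, hjm, hkl, hkm, hlm⟩ := hn
  obtain ⟨u, hu, hu1, -⟩ := h.swap i j k l m hn'
  obtain ⟨v, hv, hv1, hv2, hv3, hv4⟩ := h.swap i j l k m hn'.ex2
  have h1 := (h.mem_D.1 ((h.mem_A.1 hz).2 u hu)).2 v hv
  rw [hu1, h.zinv] at h1
  have h2 : v * (z k * z j) * v⁻¹ = z k * z j := comm_conj h1.symm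
  have h3 : v * (z k * z j) * v⁻¹ = z m * z l := by
    calc v * (z k * z j) * v⁻¹ = (v * z k * v⁻¹) * (v * z j * v⁻¹) := by group
      _ = z m * z l := by rw [hv3, hv1]
  rw [h3] at h2
  have h4 := h.prod i j k l m hn'
  have h5 : z j * z k * z l * z m = (z k * z j) * (z m * z l) := by
    rw [h.comm k j, h.comm m l]; group
  rw [h5, h2] at h4
  have h6 : (z k * z j) * (z k * z j) = 1 := by
    calc (z k * z j) * (z k * z j) = z k * (z j * z k) * z j := by group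
      _ = z k * (z k * z j) * z j := by rw [h.comm j k]
      _ = (z k * z k) * (z j * z j) := by group
      _ = 1 := by rw [h.sq k, h.sq j, one_mul]
  exact h.ne_one i (h4.symm.trans h6)

/-- (6) an element of `D j` with trivial norm lies in `A i j`. -/
theorem mem_A_of {i j k l m : ι} (hn : Qd op i j k l m) (hij : op i j) {d b c e : G}
    (hd : d ∈ h.D j) (hb : h.T i j k d b) (hc : h.T i j l d c) (he : h.T i j m d e)
    (h1 : e * d = b * c) : d ∈ h.A i j hij := by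
  have hn' := hn
  obtain ⟨⟨-, hik, hil, him⟩, hjk, hjl, hjm, hkl, hkm, hlm⟩ := hn
  have hbD := h.T_mem hd hb
  have hcD := h.T_mem hd hc
  have heD := h.T_mem hd he
  have hcd : c * d = d * c := h.DD_comm (Ne.symm hjl) hcD hd
  have hed : e * d = d * e := h.DD_comm (Ne.symm hjm) heD hd
  have hbd : b * d = d * b := h.DD_comm (Ne.symm hjk) hbD hd
  have hce : c * e = e * c := h.DD_comm hlm hcD heD
  have hbc : b * c = c * b := h.DD_comm hkl hbD hcD
  have hbe : b * e = e * b := h.DD_comm hkm hbD heD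
  have dd := h.D_sq hd
  have bb := h.D_sq hbD
  have cc := h.D_sq hcD
  have ee := h.D_sq heD
  obtain ⟨u, hu, hu1, hu2, hu3, hu4⟩ := h.swap i j k l m hn'
  obtain ⟨v, hv, hv1, hv2, hv3, hv4⟩ := h.swap i j l k m hn'.ex2
  have ub : u * d * u⁻¹ = b := h.T_eq hij hd hb hu hu1
  have vc : v * d * v⁻¹ = c := h.T_eq hij hd hc hv hv1
  have vb : v * b * v⁻¹ = e := by
    have h1 : (v * u) * z j * (v * u)⁻¹ = z m := by
      calc (v * u) * z j * (v * u)⁻¹ = v * (u * z j * u⁻¹) * v⁻¹ := by group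
        _ = z m := by rw [hu1, hv3]
    have h2 := h.T_eq hij hd he (mul_mem hv hu) h1
    rw [← h2, ← ub]; group
  have uc : u * c * u⁻¹ = e := by
    have h1 : (u * v) * z j * (u * v)⁻¹ = z m := by
      calc (u * v) * z j * (u * v)⁻¹ = u * (v * z j * v⁻¹) * u⁻¹ := by group
        _ = z m := by rw [hv1, hu3]
    have h2 := h.T_eq hij hd he (mul_mem hu hv) h1
    rw [← h2, ← vc]; group
  -- the other four products
  have r1 : e * d = b * c := h1
  have r2 : c * d = b * e := by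
    have : b * (e * d) = b * (b * c) := by rw [h1]
    have h3 : b * (e * d) = c := by rw [this, ← mul_assoc, bb, one_mul]
    calc c * d = b * (e * d) * d := by rw [h3]
      _ = b * e * (d * d) := by group
      _ = b * e := by rw [dd, mul_one]
  have r3 : b * d = c * e := by
    have : c * (e * d) = c * (c * b) := by rw [h1, hbc]
    have h3 : c * (e * d) = b := by rw [this, ← mul_assoc, cc, one_mul]
    calc b * d = c * (e * d) * d := by rw [h3]
      _ = c * e * (d * d) := by group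
      _ = c * e := by rw [dd, mul_one]
  -- conjugation by `u`, `v` on the four elements
  have ud : u * b * u⁻¹ = d := by
    have h2 : (u * u) * z j * (u * u)⁻¹ = z j := by
      calc (u * u) * z j * (u * u)⁻¹ = u * (u * z j * u⁻¹) * u⁻¹ := by group
        _ = z j := by rw [hu1, hu2]
    have h3 := h.comm_CQ hij hd (h.le i (mul_mem hu hu)) (conj_comm h2)
    rw [← ub]
    calc u * (u * d * u⁻¹) * u⁻¹ = (u * u) * d * (u * u)⁻¹ := by group
      _ = d := comm_conj h3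
  have vd : v * c * v⁻¹ = d := by
    have h2 : (v * v) * z j * (v * v)⁻¹ = z j := by
      calc (v * v) * z j * (v * v)⁻¹ = v * (v * z j * v⁻¹) * v⁻¹ := by group
        _ = z j := by rw [hv1, hv2]
    have h3 := h.comm_CQ hij hd (h.le i (mul_mem hv hv)) (conj_comm h2)
    rw [← vc]
    calc v * (v * d * v⁻¹) * v⁻¹ = (v * v) * d * (v * v)⁻¹ := by group
      _ = d := comm_conj h3
  have ue : u * e * u⁻¹ = c := by
    have h2 : (u * u) * z l * (u * u)⁻¹ = z l := by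
      calc (u * u) * z l * (u * u)⁻¹ = u * (u * z l * u⁻¹) * u⁻¹ := by group
        _ = z l := by rw [hu3, hu4]
    have h3 := h.comm_CQ hil hcD (h.le i (mul_mem hu hu)) (conj_comm h2)
    rw [← uc]
    calc u * (u * c * u⁻¹) * u⁻¹ = (u * u) * c * (u * u)⁻¹ := by group
      _ = c := comm_conj h3
  have ve : v * e * v⁻¹ = b := by
    have h2 : (v * v) * z k * (v * v)⁻¹ = z k := by
      calc (v * v) * z k * (v * v)⁻¹ = v * (v * z k * v⁻¹) * v⁻¹ := by group
        _ = z k := by rw [hv3, hv4]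
    have h3 := h.comm_CQ hik hbD (h.le i (mul_mem hv hv)) (conj_comm h2)
    rw [← vb]
    calc v * (v * b * v⁻¹) * v⁻¹ = (v * v) * b * (v * v)⁻¹ := by group
      _ = b := comm_conj h3
  -- an element commuting with `u`, `v` and lying in `D a · D d` commutes with `Qs i`
  have gen : ∀ a : ι, op i a → ∀ x ∈ h.D a, u * (x * d) * u⁻¹ = x * d →
      v * (x * d) * v⁻¹ = x * d → ∀ w ∈ Qs i, x * d * w = w * (x * d) := by
    intro a hia x hx hux hvx w hw
    obtain ⟨n, hn⟩ := h.perm w (h.QsM i hw) j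
    -- `w` acts on the points as `t ∈ {1, u, v, v u}`
    have main : ∀ t ∈ Qs i, t * (x * d) * t⁻¹ = x * d → w * z j * w⁻¹ = t * z j * t⁻¹ →
        x * d * w = w * (x * d) := by
      intro t ht htx e1
      have h2 : (t⁻¹ * w) * z j = z j * (t⁻¹ * w) := by
        apply conj_comm
        calc t⁻¹ * w * z j * (t⁻¹ * w)⁻¹ = t⁻¹ * (w * z j * w⁻¹) * t := by group
          _ = z j := by rw [e1]; group
      have htw := mul_mem (inv_mem ht) hw
      have h3 := h.comm_CQ hij hd (h.le i htw) h2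
      have h4 := h.comm_CQ hia hx (h.le i htw) (h.reg hij hia htw h2)
      have h5 : (t⁻¹ * w) * (x * d) = (x * d) * (t⁻¹ * w) := by
        calc (t⁻¹ * w) * (x * d) = (t⁻¹ * w * x) * d := by group
          _ = x * (t⁻¹ * w * d) := by rw [h4]; group
          _ = (x * d) * (t⁻¹ * w) := by rw [h3]; group
      have h6 : t * (x * d) = x * d * t := conj_comm htx
      calc x * d * w = x * d * t * (t⁻¹ * w) := by group
        _ = t * (x * d) * (t⁻¹ * w) := by rw [h6]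
        _ = t * ((x * d) * (t⁻¹ * w)) := by group
        _ = t * ((t⁻¹ * w) * (x * d)) := by rw [h5]
        _ = w * (x * d) := by group
    have hin : op i n := h.eqOp w (h.QsM i hw) i j i n hij (comm_conj (h.Qz i w (h.le i hw))) hn
    rcases h.all i j k l m n hn' hin with rfl | rfl | rfl | rfl
    · exact main 1 (one_mem _) (by group) (by rw [hn]; group)
    · exact main u hu hux (by rw [hn, hu1])
    · exact main v hv hvx (by rw [hn, hv1])
    · refine main (v * u) (mul_mem hv hu) ?_ ?_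
      · calc (v * u) * (x * d) * (v * u)⁻¹ = v * (u * (x * d) * u⁻¹) * v⁻¹ := by group
          _ = x * d := by rw [hux, hvx]
      · rw [hn]
        calc z n = v * (u * z j * u⁻¹) * v⁻¹ := by rw [hu1, hv3]
          _ = (v * u) * z j * (v * u)⁻¹ := by group
  have inv_d : d⁻¹ = d := inv_eq_of_mul_eq_one_left dd
  refine h.mem_A.2 ⟨hd, fun w hw => ?_⟩
  refine h.mem_D.2 ⟨h.comm_mem_Q hd (h.le i hw), fun y hy => ?_⟩
  rw [inv_d]
  -- `w d w⁻¹ ∈ {d, b, c, e}`
  obtain ⟨n, hn⟩ := h.perm w (h.QsM i hw) j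
  have hin : op i n := h.eqOp w (h.QsM i hw) i j i n hij (comm_conj (h.Qz i w (h.le i hw))) hn
  rcases h.all i j k l m n hn' hin with rfl | rfl | rfl | rfl
  · have h2 := h.comm_CQ hij hd (h.le i hw) (conj_comm hn)
    rw [comm_conj h2, dd, one_mul, mul_one]
  · rw [h.T_eq hij hd hb hw hn]
    refine gen n hik b hbD ?_ ?_ y hy
    · calc u * (b * d) * u⁻¹ = (u * b * u⁻¹) * (u * d * u⁻¹) := by group
        _ = b * d := by rw [ud, ub, hbd]
    · calc v * (b * d) * v⁻¹ = (v * b * v⁻¹) * (v * d * v⁻¹) := by group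
        _ = b * d := by rw [vb, vc, ← hce, r3]
  · rw [h.T_eq hij hd hc hw hn]
    refine gen n hil c hcD ?_ ?_ y hy
    · calc u * (c * d) * u⁻¹ = (u * c * u⁻¹) * (u * d * u⁻¹) := by group
        _ = c * d := by rw [uc, ub, ← hbe, r2]
    · calc v * (c * d) * v⁻¹ = (v * c * v⁻¹) * (v * d * v⁻¹) := by group
        _ = c * d := by rw [vd, vc, hcd]
  · rw [h.T_eq hij hd he hw hn]
    refine gen n him e heD ?_ ?_ y hy
    · calc u * (e * d) * u⁻¹ = (u * e * u⁻¹) * (u * d * u⁻¹) := by group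
        _ = e * d := by rw [ue, ub, ← hbc, r1]
    · calc v * (e * d) * v⁻¹ = (v * e * v⁻¹) * (v * d * v⁻¹) := by group
        _ = e * d := by rw [ve, vc, r1]

/-- (6) `A i j = 1` -/
theorem A_bot {i j : ι} {hij : op i j} {d : G} (hd : d ∈ h.A i j hij) : d = 1 := by
  by_contra hne
  refine h.z_notMem_A (hij := hij) (h.min j (h.A i j hij) (fun x hx => (h.mem_D.1 (h.mem_A.1 hx).1).1)
    ?_ ?_)
  · intro m hm hmj y hy
    obtain ⟨i', hi'⟩ := h.perm m hm i
    have hj' : m * z j * m⁻¹ = z j := comm_conj hmj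
    have hij' : op i' j := h.eqOp m hm i j i' j hij hi' hj'
    exact h.A_indep (h.eqA (hij' := hij') hm hi' hj' hy)
  · intro e
    rw [e, mem_bot] at hd
    exact hne hd

/-- THEOREM D0: `C_{Q j}(Qs j) = ⟨z j⟩`. -/
theorem D_eq {j : ι} {d : G} (hd : d ∈ h.D j) : d = 1 ∨ d = z j := by
  obtain ⟨i, hij⟩ := h.ex j
  obtain ⟨k, l, m, hn⟩ := h.four i j hij
  have hn' := hn
  obtain ⟨⟨-, hik, hil, him⟩, hjk, hjl, hjm, hkl, hkm, hlm⟩ := hn
  obtain ⟨b, hb⟩ := h.exists_T hij hik hjk d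
  obtain ⟨c, hc⟩ := h.exists_T hij hil hjl d
  obtain ⟨e, he⟩ := h.exists_T hij him hjm d
  have hbD := h.T_mem hd hb
  have hcD := h.T_mem hd hc
  have heD := h.T_mem hd he
  rcases h.key hn' hd hb hc he with h1 | h1
  · exact Or.inl (h.A_bot (h.mem_A_of hn' hij hd hb hc he h1))
  · right
    -- replace `d` by `z j * d`
    have hT : ∀ n x, h.T i j n d x → h.T i j n (z j * d) (z n * x) := by
      rintro n x ⟨u, hu, hu1, rfl⟩
      refine ⟨u, hu, hu1, ?_⟩
      rw [← hu1]; group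
    have h2 : z m * e * (z j * d) = z k * b * (z l * c) := by
      have e1 : z m * e * (z j * d) = z m * z j * (e * d) := by
        calc z m * e * (z j * d) = z m * (e * z j) * d := by group
          _ = z m * (z j * e) * d := by rw [h.D_comm_z heD j]
          _ = z m * z j * (e * d) := by group
      have e2 : z k * b * (z l * c) = z k * z l * (b * c) := by
        calc z k * b * (z l * c) = z k * (b * z l) * c := by group
          _ = z k * (z l * b) * c := by rw [h.D_comm_z hbD l]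
          _ = z k * z l * (b * c) := by group
      have e3 : z m * z j * z i = z k * z l := by
        rw [← h.prod i j k l m hn']
        have c1 : z m * (z k * z l) = z k * z l * z m := by
          calc z m * (z k * z l) = (z m * z k) * z l := by group
            _ = z k * (z m * z l) := by rw [h.comm m k]; group
            _ = z k * z l * z m := by rw [h.comm m l]; group
        calc z m * z j * (z j * z k * z l * z m) = z m * (z j * z j) * (z k * z l) * z m := by group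
          _ = z m * (z k * z l) * z m := by rw [h.sq j, mul_one]
          _ = z k * z l * (z m * z m) := by rw [c1]; group
          _ = z k * z l := by rw [h.sq m, mul_one]
      rw [e1, e2, h1, ← e3]; group
    have h3 := h.A_bot (h.mem_A_of hn' hij (mul_mem (h.z_mem_D j) hd) (hT k b hb) (hT l c hc)
      (hT m e he) h2)
    rw [← h.zinv j]
    exact (inv_eq_of_mul_eq_one_right h3).symm

open Cfsg.Agent.Co2Type.Quad in
/-- THEOREM D0: `Q i` is large extraspecial. -/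
theorem large (i : ι) (self : ∀ g, g * z i = z i * g → (∀ x ∈ Q i, g * x = x * g) → g ∈ Q i) :
    Large (Q i) (z i) := by
  have hzi := h.sq i
  -- `[y, x] ∈ ⟨z i⟩` for `x ∈ Q i`, `y ∈ Qs i`
  have hc : ∀ x ∈ Q i, ∀ y ∈ Qs i, x * y * x⁻¹ = y ∨ x * y * x⁻¹ = z i * y := by
    intro x hx y hy
    rcases h.comQ i y hy x hx with h1 | h1
    · left; rw [← h1]; group
    · right
      have e1 : z i * (y * x) = x * y := by
        rw [h1, ← mul_assoc, hzi, one_mul]
      rw [← e1]; group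
  have hzc : ∀ x ∈ Q i, x * z i * x⁻¹ = z i := fun x hx => comm_conj (h.Qz i x hx)
  have hmem : ∀ x, (∀ y ∈ Qs i, x * y * x⁻¹ = y) → x ∈ Q i → x = 1 ∨ x = z i := fun x hx hxQ =>
    h.D_eq (h.mem_D.2 ⟨hxQ, fun y hy => conj_comm (hx y hy)⟩)
  refine ⟨h.le i (h.zmem i), h.ne_one i, hzi, h.Qz i, h.nQ i, ?_, ?_, ?_, self⟩
  · intro x hx
    refine hmem _ (fun y hy => ?_) (mul_mem hx hx)
    have e1 : x * x * y * (x * x)⁻¹ = x * (x * y * x⁻¹) * x⁻¹ := by group
    rw [e1]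
    rcases hc x hx y hy with h1 | h1
    · rw [h1, h1]
    · rw [h1]
      calc x * (z i * y) * x⁻¹ = (x * z i * x⁻¹) * (x * y * x⁻¹) := by group
        _ = y := by rw [hzc x hx, h1, ← mul_assoc, hzi, one_mul]
  · intro x hx y hy
    have h1 : x * y * x⁻¹ * y⁻¹ = 1 ∨ x * y * x⁻¹ * y⁻¹ = z i := by
      refine hmem _ (fun w hw => ?_)
        (mul_mem (mul_mem (mul_mem hx hy) (inv_mem hx)) (inv_mem hy))
      have e1 : x * y * x⁻¹ * y⁻¹ * w * (x * y * x⁻¹ * y⁻¹)⁻¹ =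
          x * (y * (x⁻¹ * (y⁻¹ * w * y⁻¹⁻¹) * x⁻¹⁻¹) * y⁻¹) * x⁻¹ := by group
      rw [e1]
      have step : ∀ g ∈ Q i, ∀ v, (v = w ∨ v = z i * w) →
          (g * v * g⁻¹ = w ∨ g * v * g⁻¹ = z i * w) := by
        intro g hg v hv
        have h2 := hc g hg w hw
        rcases hv with rfl | rfl
        · exact h2
        · have e2 : g * (z i * w) * g⁻¹ = (g * z i * g⁻¹) * (g * w * g⁻¹) := by group
          rw [e2, hzc g hg]
          rcases h2 with h2 | h2
          · right; rw [h2]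
          · left; rw [h2, ← mul_assoc, hzi, one_mul]
      -- the signs of `x` and `y` appear twice
      have sgn : ∀ g ∈ Q i, ∀ v, (v = w ∨ v = z i * w) → g * v * g⁻¹ = v * (w⁻¹ * (g * w * g⁻¹)) := by
        intro g hg v hv
        rcases hv with rfl | rfl
        · group
        · calc g * (z i * w) * g⁻¹ = (g * z i * g⁻¹) * (g * w * g⁻¹) := by group
            _ = z i * (g * w * g⁻¹) := by rw [hzc g hg]
            _ = z i * w * (w⁻¹ * (g * w * g⁻¹)) := by group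
      have hinv : ∀ g ∈ Q i, w⁻¹ * (g⁻¹ * w * g⁻¹⁻¹) = w⁻¹ * (g * w * g⁻¹) := by
        intro g hg
        rcases hc g hg w hw with h2 | h2
        · have : g⁻¹ * w * g⁻¹⁻¹ = w := by
            calc g⁻¹ * w * g⁻¹⁻¹ = g⁻¹ * (g * w * g⁻¹) * g := by rw [h2]; group
              _ = w := by group
          rw [this, h2]
        · have h3 : g⁻¹ * w * g⁻¹⁻¹ = z i * w := by
            have h4 : g * (z i * w) * g⁻¹ = w := by
              calc g * (z i * w) * g⁻¹ = (g * z i * g⁻¹) * (g * w * g⁻¹) := by group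
                _ = w := by rw [hzc g hg, h2, ← mul_assoc, hzi, one_mul]
            calc g⁻¹ * w * g⁻¹⁻¹ = g⁻¹ * (g * (z i * w) * g⁻¹) * g := by rw [h4]; group
              _ = z i * w := by group
          rw [h3, h2]
      have hzw : z i * w = w * z i := (h.Qz i w (h.le i hw)).symm
      have val : ∀ g ∈ Q i, w⁻¹ * (g * w * g⁻¹) = 1 ∨ w⁻¹ * (g * w * g⁻¹) = z i := by
        intro g hg
        rcases hc g hg w hw with h2 | h2
        · left; rw [h2]; group
        · right; rw [h2, hzw]; group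
      have s1 : y⁻¹ * w * y⁻¹⁻¹ = w ∨ y⁻¹ * w * y⁻¹⁻¹ = z i * w := step _ (inv_mem hy) w (Or.inl rfl)
      have s2 := step _ (inv_mem hx) _ s1
      have s3 := step _ hy _ s2
      rw [sgn x hx _ s3, sgn y hy _ s2, sgn x⁻¹ (inv_mem hx) _ s1, sgn y⁻¹ (inv_mem hy) w (Or.inl rfl),
        hinv x hx, hinv y hy]
      rcases val x hx with v1 | v1 <;> rcases val y hy with v2 | v2 <;> rw [v1, v2] <;>
        simp only [mul_one, mul_assoc, hzi]
    rcases h1 with h1 | h1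
    · left
      rw [mul_inv_eq_one, mul_inv_eq_iff_eq_mul] at h1
      exact h1
    · right
      have h2 : x * y = z i * (y * x) := by
        calc x * y = x * y * x⁻¹ * y⁻¹ * (y * x) := by group
          _ = z i * (y * x) := by rw [h1]
      rw [h2]
      exact (h.Qz i _ (mul_mem hy hx)).symm
  · intro x hx hxc
    exact hmem x (fun y hy => comm_conj (hxc y (h.le i hy))) hx

end QZ

end Cfsg.Agent.Omega.NOne.QuadPts

end

section


/-!
# NO-1, THEOREM D0+ (text #12107), abstract form (helper537)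

Nine points `z (a, b)` in a 3 × 3 grid (the singular vectors of an `O₄⁺(2)`-module), `Q i` normal in
`C(z i)`, `Qs i ≤ Q i` with `[Qs i, Q i] ≤ ⟨z i⟩`, `Qs i` inducing `⟨t_a⟩ × ⟨t_b⟩` on the grid,
`i = (a, b)`.  Then `C_{Q i}(Qs i) = ⟨z i⟩`, and `Q i` is a large extraspecial group
(`Large (Q i) (z i)`).
-/

set_option autoImplicit false

namespace Cfsg.Agent.Omega.NOne.DPlus

open Subgroup
open Cfsg.Agent.Omega.NOne.QuadPts (conj_comm comm_conj QZ Qd)

variable {G : Type*} [Group G]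

/-- `t a` fixes `a` and swaps the other two elements. -/
def t (a x : Fin 3) : Fin 3 := -(a + x)

/-- opposite points of the grid -/
def op (i j : Fin 3 × Fin 3) : Prop := i.1 ≠ j.1 ∧ i.2 ≠ j.2

instance (i j : Fin 3 × Fin 3) : Decidable (op i j) := by unfold op; infer_instance

theorem t_self : ∀ a, t a a = a := by decide
theorem t_symm : ∀ a b, t a b = t b a := by decide
theorem t_t : ∀ a b, t a (t a b) = b := by decide
theorem t_t' : ∀ a b, t (t a b) a = b := by decide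
theorem t_ne : ∀ a b, a ≠ b → t a b ≠ b := by decide
theorem t_ne' : ∀ a b, a ≠ b → t a b ≠ a := by decide
theorem three : ∀ a b c : Fin 3, a ≠ b → c = a ∨ c = b ∨ c = t a b := by decide
theorem ex_ne : ∀ a : Fin 3, ∃ b, a ≠ b := by decide

/-- Nine singular vectors in a 3 × 3 grid. -/
structure Grid (z : Fin 3 × Fin 3 → G) : Prop where
  inj : Function.Injective z
  ne_one : ∀ i, z i ≠ 1
  sq : ∀ i, z i * z i = 1
  comm : ∀ i j, z i * z j = z j * z i
  row : ∀ a b c, b ≠ c → z (a, b) * z (a, c) = z (a, t b c)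
  col : ∀ a b c, b ≠ c → z (b, a) * z (c, a) = z (t b c, a)

namespace Grid

variable {z : Fin 3 × Fin 3 → G} (h : Grid z)
include h

theorem zinv (i : Fin 3 × Fin 3) : (z i)⁻¹ = z i := inv_eq_of_mul_eq_one_left (h.sq i)

/-- the sum of two opposite points is not a point -/
theorem not_pt {i j k : Fin 3 × Fin 3} (hij : op i j) : z i * z j ≠ z k := by
  obtain ⟨a, b⟩ := i
  obtain ⟨a', b'⟩ := j
  obtain ⟨c, d⟩ := k
  obtain ⟨ha, hb⟩ := hij
  simp only at ha hb
  intro e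
  have e1 : z (a', b') = z (c, d) * z (a, b) := by
    rw [← e, h.comm (a, b), mul_assoc, h.sq, mul_one]
  have e2 : z (a, b) = z (c, d) * z (a', b') := by
    rw [← e, mul_assoc, h.sq, mul_one]
  have e3 : z (c, d) * z (c, d) = 1 := h.sq _
  by_cases hca : c = a
  · subst hca
    by_cases hdb : d = b
    · subst hdb
      rw [h.sq] at e1
      exact h.ne_one _ e1
    · rw [h.row c d b hdb] at e1
      exact ha (congrArg Prod.fst (h.inj e1)).symm
  by_cases hca' : c = a'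
  · subst hca'
    by_cases hdb : d = b'
    · subst hdb
      rw [h.sq] at e2
      exact h.ne_one _ e2
    · rw [h.row c d b' hdb] at e2
      exact ha (congrArg Prod.fst (h.inj e2))
  by_cases hdb : d = b
  · subst hdb
    rw [h.col d c a hca] at e1
    exact hb (congrArg Prod.snd (h.inj e1)).symm
  by_cases hdb' : d = b'
  · subst hdb'
    rw [h.col d c a' hca'] at e2
    exact hb (congrArg Prod.snd (h.inj e2))
  -- three pairwise opposite points
  have hc : c = t a a' := by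
    rcases three a a' c ha with h1 | h1 | h1
    · exact absurd h1 hca
    · exact absurd h1 hca'
    · exact h1
  have hd : d = t b b' := by
    rcases three b b' d hb with h1 | h1 | h1
    · exact absurd h1 hdb
    · exact absurd h1 hdb'
    · exact h1
  have h1 : z (a, d) * z (a', d) = z (c, d) := by rw [h.col d a a' ha, hc]
  have h2 : z (a, b) * z (a, d) = z (a, b') := by
    rw [h.row a b d (Ne.symm hdb), hd, t_t]
  have h3 : z (a', b') * z (a', d) = z (a', b) := by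
    rw [h.row a' b' d (Ne.symm hdb'), hd, t_symm b b', t_t]
  have h4 : z (a, b') * z (a', b) = 1 := by
    rw [← h2, ← h3]
    calc z (a, b) * z (a, d) * (z (a', b') * z (a', d)) =
        z (a, b) * (z (a, d) * z (a', b')) * z (a', d) := by group
      _ = z (a, b) * (z (a', b') * z (a, d)) * z (a', d) := by rw [h.comm (a, d)]
      _ = (z (a, b) * z (a', b')) * (z (a, d) * z (a', d)) := by group
      _ = 1 := by rw [e, h1, e3]
  have h5 : z (a, b') = z (a', b) := by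
    rw [← h.zinv (a', b)]
    exact eq_inv_of_mul_eq_one_left h4
  exact ha (congrArg Prod.fst (h.inj h5))

/-- an element permuting the points preserves `op` -/
theorem eqOp {m : G} (hm : ∀ k', ∃ k, m⁻¹ * z k' * m⁻¹⁻¹ = z k) {i j i' j' : Fin 3 × Fin 3}
    (hij : op i j) (hi : m * z i * m⁻¹ = z i') (hj : m * z j * m⁻¹ = z j') : op i' j' := by
  by_contra hn
  have hne : i' ≠ j' := by
    rintro rfl
    rw [← hj] at hi
    have := h.inj (mul_left_cancel (mul_right_cancel hi))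
    rw [this] at hij
    exact hij.1 rfl
  obtain ⟨k', hk'⟩ : ∃ k', z i' * z j' = z k' := by
    obtain ⟨a, b⟩ := i'
    obtain ⟨a', b'⟩ := j'
    by_cases ha : a = a'
    · subst ha
      have hb : b ≠ b' := fun hb => hne (by rw [hb])
      exact ⟨_, h.row a b b' hb⟩
    · by_cases hb : b = b'
      · subst hb
        exact ⟨_, h.col b a a' ha⟩
      · exact absurd ⟨ha, hb⟩ hn
  obtain ⟨k, hk⟩ := hm k'
  refine h.not_pt (k := k) hij ?_
  rw [← hk, ← hk', ← hi, ← hj]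
  group

/-- An element commuting with a 2 × 2 rectangle of points commutes with all points. -/
theorem comm_all {a a' b b' : Fin 3} (ha : a ≠ a') (hb : b ≠ b') {u : G}
    (h1 : u * z (a, b) = z (a, b) * u) (h2 : u * z (a, b') = z (a, b') * u)
    (h3 : u * z (a', b) = z (a', b) * u) (h4 : u * z (a', b') = z (a', b') * u)
    (k : Fin 3 × Fin 3) : u * z k = z k * u := by
  have mulc : ∀ i j k, z i * z j = z k → u * z i = z i * u → u * z j = z j * u →
      u * z k = z k * u := by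
    intro i j k e hi hj
    rw [← e]
    calc u * (z i * z j) = (u * z i) * z j := by group
      _ = z i * (u * z j) := by rw [hi]; group
      _ = z i * z j * u := by rw [hj]; group
  obtain ⟨x, y⟩ := k
  have r1 : ∀ y, u * z (a, y) = z (a, y) * u := by
    intro y
    rcases three b b' y hb with e | e | e
    · rw [e]; exact h1
    · rw [e]; exact h2
    · rw [e]; exact mulc _ _ _ (h.row a b b' hb) h1 h2
  have r2 : ∀ y, u * z (a', y) = z (a', y) * u := by
    intro y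
    rcases three b b' y hb with e | e | e
    · rw [e]; exact h3
    · rw [e]; exact h4
    · rw [e]; exact mulc _ _ _ (h.row a' b b' hb) h3 h4
  rcases three a a' x ha with e | e | e
  · rw [e]; exact r1 y
  · rw [e]; exact r2 y
  · rw [e]; exact mulc _ _ _ (h.col y a a' ha) (r1 y) (r2 y)

end Grid

/-- The abstract configuration. -/
structure DP (M : Subgroup G) (z : Fin 3 × Fin 3 → G) (Q Qs : Fin 3 × Fin 3 → Subgroup G) :
    Prop where
  inj : Function.Injective z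
  ne_one : ∀ i, z i ≠ 1
  sq : ∀ i, z i * z i = 1
  comm : ∀ i j, z i * z j = z j * z i
  row : ∀ a b c, b ≠ c → z (a, b) * z (a, c) = z (a, t b c)
  col : ∀ a b c, b ≠ c → z (b, a) * z (c, a) = z (t b c, a)
  QM : ∀ i, Q i ≤ M
  perm : ∀ m ∈ M, ∀ i, ∃ j, m * z i * m⁻¹ = z j
  eqQ : ∀ m ∈ M, ∀ i j, m * z i * m⁻¹ = z j → ∀ x ∈ Q i, m * x * m⁻¹ ∈ Q j
  eqQs : ∀ m ∈ M, ∀ i j, m * z i * m⁻¹ = z j → ∀ x ∈ Qs i, m * x * m⁻¹ ∈ Qs j
  nQ : ∀ i c, c * z i = z i * c → ∀ x ∈ Q i, c * x * c⁻¹ ∈ Q i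
  nQs : ∀ i c, c * z i = z i * c → ∀ x ∈ Qs i, c * x * c⁻¹ ∈ Qs i
  le : ∀ i, Qs i ≤ Q i
  zmem : ∀ i, z i ∈ Qs i
  Qz : ∀ i, ∀ x ∈ Q i, x * z i = z i * x
  comQ : ∀ i, ∀ x ∈ Qs i, ∀ y ∈ Q i, x * y = y * x ∨ x * y = z i * (y * x)
  pair : ∀ i j, ¬ op i j → z j ∈ Qs i
  sr : ∀ a b, ∃ u ∈ Qs (a, b), ∀ x y, u * z (x, y) * u⁻¹ = z (x, t b y)
  sc : ∀ a b, ∃ u ∈ Qs (a, b), ∀ x y, u * z (x, y) * u⁻¹ = z (t a x, y)
  min : ∀ i, ∀ Y : Subgroup G, Y ≤ Q i →
    (∀ m ∈ M, m * z i = z i * m → ∀ y ∈ Y, m * y * m⁻¹ ∈ Y) → Y ≠ ⊥ → z i ∈ Y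

/-- `C_{Q i}(Qs i)` -/
def D (Q Qs : Fin 3 × Fin 3 → Subgroup G) (i : Fin 3 × Fin 3) : Subgroup G :=
  Q i ⊓ centralizer (Qs i : Set G)

/-- the intersection of the `D i` over a row -/
def Rw (Q Qs : Fin 3 × Fin 3 → Subgroup G) (a : Fin 3) : Subgroup G := ⨅ b, D Q Qs (a, b)

/-- the intersection of the `D i` over a column -/
def Cl (Q Qs : Fin 3 × Fin 3 → Subgroup G) (b : Fin 3) : Subgroup G := ⨅ a, D Q Qs (a, b)

theorem mem_D {Q Qs : Fin 3 × Fin 3 → Subgroup G} {i : Fin 3 × Fin 3} {x : G} :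
    x ∈ D Q Qs i ↔ x ∈ Q i ∧ ∀ y ∈ Qs i, x * y = y * x := by
  rw [D, mem_inf, mem_centralizer_iff]
  exact and_congr_right fun _ => ⟨fun H y hy => (H y hy).symm, fun H y hy => (H y hy).symm⟩

theorem mem_Rw {Q Qs : Fin 3 × Fin 3 → Subgroup G} {a : Fin 3} {x : G} :
    x ∈ Rw Q Qs a ↔ ∀ b, x ∈ D Q Qs (a, b) := by rw [Rw, mem_iInf]

theorem mem_Cl {Q Qs : Fin 3 × Fin 3 → Subgroup G} {b : Fin 3} {x : G} :
    x ∈ Cl Q Qs b ↔ ∀ a, x ∈ D Q Qs (a, b) := by rw [Cl, mem_iInf]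

theorem op_swap {i j : Fin 3 × Fin 3} : op i.swap j.swap ↔ op i j := and_comm

theorem op_symm {i j : Fin 3 × Fin 3} (h : op i j) : op j i := ⟨h.1.symm, h.2.symm⟩

theorem op_mid : ∀ i k : Fin 3 × Fin 3, ∃ j, op i j ∧ op j k := by decide

namespace DP

variable {M : Subgroup G} {z : Fin 3 × Fin 3 → G} {Q Qs : Fin 3 × Fin 3 → Subgroup G}
variable (h : DP M z Q Qs)
include h

theorem zinv (i : Fin 3 × Fin 3) : (z i)⁻¹ = z i := inv_eq_of_mul_eq_one_left (h.sq i)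

theorem QsM (i : Fin 3 × Fin 3) : Qs i ≤ M := (h.le i).trans (h.QM i)

theorem z_mem_D (i : Fin 3 × Fin 3) : z i ∈ D Q Qs i :=
  mem_D.2 ⟨h.le i (h.zmem i), fun y hy => (h.Qz i y (h.le i hy)).symm⟩

/-- the transposed configuration -/
theorem tp : DP M (z ∘ Prod.swap) (Q ∘ Prod.swap) (Qs ∘ Prod.swap) where
  inj := h.inj.comp Prod.swap_injective
  ne_one i := h.ne_one _
  sq i := h.sq _
  comm i j := h.comm _ _
  row a b c hbc := h.col a b c hbc
  col a b c hbc := h.row a b c hbc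
  QM i := h.QM _
  perm m hm i := by
    obtain ⟨j, hj⟩ := h.perm m hm i.swap
    exact ⟨j.swap, by simpa using hj⟩
  eqQ m hm i j := h.eqQ m hm _ _
  eqQs m hm i j := h.eqQs m hm _ _
  nQ i := h.nQ _
  nQs i := h.nQs _
  le i := h.le _
  zmem i := h.zmem _
  Qz i := h.Qz _
  comQ i := h.comQ _
  pair i j hij := h.pair _ _ fun H => hij (op_swap.1 H)
  sr a b := by
    obtain ⟨u, hu, h1⟩ := h.sc b a
    exact ⟨u, hu, fun x y => h1 y x⟩
  sc a b := by
    obtain ⟨u, hu, h1⟩ := h.sr b a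
    exact ⟨u, hu, fun x y => h1 y x⟩
  min i := h.min _

theorem grid : Grid z := ⟨h.inj, h.ne_one, h.sq, h.comm, h.row, h.col⟩

theorem eqOp {m : G} (hm : m ∈ M) {i j i' j' : Fin 3 × Fin 3} (hij : op i j)
    (hi : m * z i * m⁻¹ = z i') (hj : m * z j * m⁻¹ = z j') : op i' j' :=
  h.grid.eqOp (h.perm m⁻¹ (inv_mem hm)) hij hi hj

theorem comm_all {a a' b b' : Fin 3} (ha : a ≠ a') (hb : b ≠ b') {u : G}
    (h1 : u * z (a, b) = z (a, b) * u) (h2 : u * z (a, b') = z (a, b') * u)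
    (h3 : u * z (a', b) = z (a', b) * u) (h4 : u * z (a', b') = z (a', b') * u)
    (k : Fin 3 × Fin 3) : u * z k = z k * u := h.grid.comm_all ha hb h1 h2 h3 h4 k

/-- `D i` centralises all points. -/
theorem D_comm_z {i : Fin 3 × Fin 3} {d : G} (hd : d ∈ D Q Qs i) (k : Fin 3 × Fin 3) :
    d * z k = z k * d := by
  obtain ⟨hd1, hd2⟩ := mem_D.1 hd
  obtain ⟨a, b⟩ := i
  obtain ⟨a', ha⟩ := ex_ne a
  obtain ⟨b', hb⟩ := ex_ne b
  have hdM := h.QM _ hd1
  have h1 := h.Qz _ d hd1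
  have h2 := hd2 _ (h.pair (a, b) (a, b') fun H => H.1 rfl)
  have h3 := hd2 _ (h.pair (a, b) (a', b) fun H => H.2 rfl)
  obtain ⟨⟨c, e⟩, hk⟩ := h.perm d hdM (a', b')
  have o1 := h.eqOp hdM (show op (a, b) (a', b') from ⟨ha, hb⟩) (comm_conj h1) hk
  have hk' : d⁻¹ * z (c, e) * d⁻¹⁻¹ = z (a', b') := by rw [← hk]; group
  have i2 : d⁻¹ * z (a, b') * d⁻¹⁻¹ = z (a, b') := by
    have := comm_conj h2
    calc d⁻¹ * z (a, b') * d⁻¹⁻¹ = d⁻¹ * (d * z (a, b') * d⁻¹) * d := by rw [this]; group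
      _ = z (a, b') := by group
  have i3 : d⁻¹ * z (a', b) * d⁻¹⁻¹ = z (a', b) := by
    have := comm_conj h3
    calc d⁻¹ * z (a', b) * d⁻¹⁻¹ = d⁻¹ * (d * z (a', b) * d⁻¹) * d := by rw [this]; group
      _ = z (a', b) := by group
  have o2 : ¬ op (a, b') (c, e) := fun H => (h.eqOp (inv_mem hdM) H i2 hk').2 rfl
  have o3 : ¬ op (a', b) (c, e) := fun H => (h.eqOp (inv_mem hdM) H i3 hk').1 rfl
  have e1 : b' = e := by
    by_contra hne
    exact o2 ⟨o1.1, hne⟩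
  have e2 : a' = c := by
    by_contra hne
    exact o3 ⟨hne, o1.2⟩
  subst e1
  subst e2
  exact h.comm_all ha hb h1 h2 h3 (conj_comm hk) k

/-- an element of `Qs i` fixing a point opposite to `z i` fixes all points. -/
theorem reg {i j : Fin 3 × Fin 3} (hij : op i j) {u : G} (hu : u ∈ Qs i)
    (huj : u * z j = z j * u) (k : Fin 3 × Fin 3) : u * z k = z k * u := by
  obtain ⟨a, b⟩ := i
  obtain ⟨a', b'⟩ := j
  obtain ⟨ha, hb⟩ := hij
  simp only at ha hb
  have huM := h.QsM _ hu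
  have h1 := h.Qz _ u (h.le _ hu)
  have h2 : u * z (a, b') = z (a, b') * u := by
    rcases h.comQ _ u hu _ (h.le _ (h.pair (a, b) (a, b') fun H => H.1 rfl)) with h3 | h3
    · exact h3
    · exfalso
      have h4 : u * z (a, b') * u⁻¹ = z (a, t b b') := by
        rw [h3, ← h.row a b b' hb]; group
      have h5 : ¬ op (a, t b b') (a', b') := by
        intro H
        have e1 : u⁻¹ * z (a, t b b') * u⁻¹⁻¹ = z (a, b') := by rw [← h4]; group
        have e2 : u⁻¹ * z (a', b') * u⁻¹⁻¹ = z (a', b') := by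
          have := comm_conj huj
          calc u⁻¹ * z (a', b') * u⁻¹⁻¹ = u⁻¹ * (u * z (a', b') * u⁻¹) * u := by rw [this]; group
            _ = z (a', b') := by group
        exact (h.eqOp (inv_mem huM) H e1 e2).2 rfl
      exact h5 ⟨ha, t_ne b b' hb⟩
  have h3 : u * z (a', b) = z (a', b) * u := by
    rcases h.comQ _ u hu _ (h.le _ (h.pair (a, b) (a', b) fun H => H.2 rfl)) with h3 | h3
    · exact h3
    · exfalso
      have h4 : u * z (a', b) * u⁻¹ = z (t a a', b) := by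
        rw [h3, ← h.col b a a' ha]; group
      have h5 : ¬ op (t a a', b) (a', b') := by
        intro H
        have e1 : u⁻¹ * z (t a a', b) * u⁻¹⁻¹ = z (a', b) := by rw [← h4]; group
        have e2 : u⁻¹ * z (a', b') * u⁻¹⁻¹ = z (a', b') := by
          have := comm_conj huj
          calc u⁻¹ * z (a', b') * u⁻¹⁻¹ = u⁻¹ * (u * z (a', b') * u⁻¹) * u := by rw [this]; group
            _ = z (a', b') := by group
        exact (h.eqOp (inv_mem huM) H e1 e2).1 rfl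
      exact h5 ⟨t_ne a a' ha, hb⟩
  exact h.comm_all ha hb h1 h2 h3 huj k

/-- equivariance of `D` -/
theorem eqD {m : G} (hm : m ∈ M) {i j : Fin 3 × Fin 3} (hij : m * z i * m⁻¹ = z j) {d : G}
    (hd : d ∈ D Q Qs i) : m * d * m⁻¹ ∈ D Q Qs j := by
  obtain ⟨hd1, hd2⟩ := mem_D.1 hd
  refine mem_D.2 ⟨h.eqQ m hm i j hij d hd1, fun y hy => ?_⟩
  have hji : m⁻¹ * z j * m⁻¹⁻¹ = z i := by rw [← hij]; group
  have hy' := h.eqQs m⁻¹ (inv_mem hm) j i hji y hy
  have e := hd2 _ hy'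
  calc m * d * m⁻¹ * y = m * (d * (m⁻¹ * y * m⁻¹⁻¹)) * m⁻¹ := by group
    _ = m * (m⁻¹ * y * m⁻¹⁻¹ * d) * m⁻¹ := by rw [e]
    _ = y * (m * d * m⁻¹) := by group

/-- `C(z i)` normalises `D i`. -/
theorem nD {i : Fin 3 × Fin 3} {c : G} (hc : c * z i = z i * c) {d : G} (hd : d ∈ D Q Qs i) :
    c * d * c⁻¹ ∈ D Q Qs i := by
  obtain ⟨hd1, hd2⟩ := mem_D.1 hd
  refine mem_D.2 ⟨h.nQ i c hc d hd1, fun y hy => ?_⟩
  have hc' : c⁻¹ * z i = z i * c⁻¹ := by
    rw [inv_mul_eq_iff_eq_mul, ← mul_assoc, hc, mul_assoc, mul_inv_cancel, mul_one]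
  have hy' := h.nQs i c⁻¹ hc' y hy
  have e := hd2 _ hy'
  calc c * d * c⁻¹ * y = c * (d * (c⁻¹ * y * c⁻¹⁻¹)) * c⁻¹ := by group
    _ = c * (c⁻¹ * y * c⁻¹⁻¹ * d) * c⁻¹ := by rw [e]
    _ = y * (c * d * c⁻¹) := by group

/-- `Qs i` is transitive on the points opposite to `i`. -/
theorem move {i j k : Fin 3 × Fin 3} (hij : op i j) (hik : op i k) :
    ∃ u ∈ Qs i, u * z j * u⁻¹ = z k := by
  obtain ⟨a, b⟩ := i
  obtain ⟨a', b'⟩ := j
  obtain ⟨c, d⟩ := k
  obtain ⟨u, hu, hu1⟩ := h.sr a b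
  obtain ⟨v, hv, hv1⟩ := h.sc a b
  have hc : c = a' ∨ c = t a a' := by
    rcases three a a' c hij.1 with e | e | e
    · exact absurd e.symm hik.1
    · exact Or.inl e
    · exact Or.inr e
  have hd : d = b' ∨ d = t b b' := by
    rcases three b b' d hij.2 with e | e | e
    · exact absurd e.symm hik.2
    · exact Or.inl e
    · exact Or.inr e
  rcases hc with rfl | rfl <;> rcases hd with rfl | rfl
  · exact ⟨1, one_mem _, by group⟩
  · exact ⟨u, hu, hu1 _ _⟩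
  · exact ⟨v, hv, hv1 _ _⟩
  · refine ⟨v * u, mul_mem hv hu, ?_⟩
    calc v * u * z (a', b') * (v * u)⁻¹ = v * (u * z (a', b') * u⁻¹) * v⁻¹ := by group
      _ = z (t a a', t b b') := by rw [hu1, hv1]

/-- (1) -/
theorem le_all {i j : Fin 3 × Fin 3} (hij : op i j) {y : G} (h1 : y ∈ D Q Qs i)
    (h2 : y ∈ D Q Qs j) (k : Fin 3 × Fin 3) : y ∈ D Q Qs k := by
  have nb : ∀ k₁ k₂ k₃, y ∈ D Q Qs k₁ → y ∈ D Q Qs k₂ → op k₁ k₂ → op k₁ k₃ → y ∈ D Q Qs k₃ := by
    intro k₁ k₂ k₃ m1 m2 o2 o3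
    obtain ⟨u, hu, hu1⟩ := h.move o2 o3
    have h3 := h.eqD (h.QsM _ hu) hu1 m2
    rwa [comm_conj ((mem_D.1 m1).2 u hu).symm] at h3
  obtain ⟨l, o1, o2⟩ := op_mid i k
  have hl := nb i j l h1 h2 hij o1
  exact nb l i k hl h1 (op_symm o1) o2

/-- (1) `D i ∩ D j = 1` -/
theorem disj {i j : Fin 3 × Fin 3} (hij : op i j) {y : G} (h1 : y ∈ D Q Qs i)
    (h2 : y ∈ D Q Qs j) : y = 1 := by
  by_contra hy
  have hY : z i ∈ ⨅ k, D Q Qs k := by
    refine h.min i (⨅ k, D Q Qs k) ((iInf_le _ i).trans inf_le_left) ?_ ?_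
    · intro m hm _ y hy
      rw [mem_iInf] at hy ⊢
      intro k
      obtain ⟨k', hk'⟩ := h.perm m⁻¹ (inv_mem hm) k
      refine h.eqD hm ?_ (hy k')
      rw [← hk']; group
    · intro e
      apply hy
      have : y ∈ ⨅ k, D Q Qs k := mem_iInf.2 fun k => h.le_all hij h1 h2 k
      rwa [e, mem_bot] at this
  rw [mem_iInf] at hY
  obtain ⟨u, hu, hu1⟩ := h.sr j.1 j.2
  have h3 := hu1 i.1 i.2
  rw [comm_conj ((mem_D.1 (hY (j.1, j.2))).2 u hu).symm] at h3
  have h4 := congrArg Prod.snd (h.inj h3)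
  exact t_ne j.2 i.2 (Ne.symm hij.2) h4.symm

/-- (1) `[D i, D j] = 1` -/
theorem DD_comm {i j : Fin 3 × Fin 3} (hij : op i j) {a b : G} (ha : a ∈ D Q Qs i)
    (hb : b ∈ D Q Qs j) : a * b = b * a := by
  have h1 : a * b * a⁻¹ * b⁻¹ ∈ D Q Qs j :=
    mul_mem (h.nD (h.D_comm_z ha j) hb) (inv_mem hb)
  have h2 : a * b * a⁻¹ * b⁻¹ ∈ D Q Qs i := by
    have e : a * b * a⁻¹ * b⁻¹ = a * (b * a⁻¹ * b⁻¹) := by group
    rw [e]
    exact mul_mem ha (h.nD (h.D_comm_z hb i) (inv_mem ha))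
  have h3 := h.disj hij h2 h1
  rw [mul_inv_eq_one, mul_inv_eq_iff_eq_mul] at h3
  exact h3

/-- (2) two points of a row -/
theorem row_of {a b b' : Fin 3} (hb : b ≠ b') {y : G} (h1 : y ∈ D Q Qs (a, b))
    (h2 : y ∈ D Q Qs (a, b')) : y ∈ Rw Q Qs a := by
  rw [mem_Rw]
  intro x
  rcases three b b' x hb with e | e | e
  · rw [e]; exact h1
  · rw [e]; exact h2
  · obtain ⟨u, hu, hu1⟩ := h.sr a b
    have h3 := h.eqD (h.QsM _ hu) (hu1 a b') h2
    rw [comm_conj ((mem_D.1 h1).2 u hu).symm] at h3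
    rw [e]; exact h3

theorem col_of {a a' b : Fin 3} (ha : a ≠ a') {y : G} (h1 : y ∈ D Q Qs (a, b))
    (h2 : y ∈ D Q Qs (a', b)) : y ∈ Cl Q Qs b :=
  h.tp.row_of (a := b) ha h1 h2

theorem row_col {a b : Fin 3} {y : G} (h1 : y ∈ Rw Q Qs a) (h2 : y ∈ Cl Q Qs b) : y = 1 := by
  obtain ⟨a', ha⟩ := ex_ne a
  obtain ⟨b', hb⟩ := ex_ne b
  exact h.disj (i := (a, b')) (j := (a', b)) ⟨ha, hb.symm⟩ (mem_Rw.1 h1 b') (mem_Cl.1 h2 a')

theorem row_col_comm {a b : Fin 3} {y w : G} (h1 : y ∈ Rw Q Qs a) (h2 : w ∈ Cl Q Qs b) :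
    y * w = w * y := by
  obtain ⟨a', ha⟩ := ex_ne a
  obtain ⟨b', hb⟩ := ex_ne b
  exact h.DD_comm (i := (a, b')) (j := (a', b)) ⟨ha, hb.symm⟩ (mem_Rw.1 h1 b') (mem_Cl.1 h2 a')

theorem row_row {a a' : Fin 3} (ha : a ≠ a') {y : G} (h1 : y ∈ Rw Q Qs a) (h2 : y ∈ Rw Q Qs a') :
    y = 1 :=
  h.disj (i := (a, 0)) (j := (a', 1)) ⟨ha, show (0 : Fin 3) ≠ 1 by decide⟩ (mem_Rw.1 h1 0)
    (mem_Rw.1 h2 1)

/-- the product `Rw a · Cl b` -/
def J (a b : Fin 3) : Subgroup G where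
  carrier := {x | ∃ y ∈ Rw Q Qs a, ∃ w ∈ Cl Q Qs b, x = y * w}
  one_mem' := ⟨1, one_mem _, 1, one_mem _, by group⟩
  mul_mem' := by
    rintro _ _ ⟨y, hy, w, hw, rfl⟩ ⟨y', hy', w', hw', rfl⟩
    refine ⟨y * y', mul_mem hy hy', w * w', mul_mem hw hw', ?_⟩
    calc y * w * (y' * w') = y * (w * y') * w' := by group
      _ = y * (y' * w) * w' := by rw [h.row_col_comm hy' hw]
      _ = y * y' * (w * w') := by group
  inv_mem' := by
    rintro _ ⟨y, hy, w, hw, rfl⟩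
    refine ⟨y⁻¹, inv_mem hy, w⁻¹, inv_mem hw, ?_⟩
    rw [mul_inv_rev, h.row_col_comm (inv_mem hy) (inv_mem hw)]

theorem mem_J {a b : Fin 3} {x : G} :
    x ∈ h.J a b ↔ ∃ y ∈ Rw Q Qs a, ∃ w ∈ Cl Q Qs b, x = y * w := Iff.rfl

/-- the stabiliser of a point normalises or swaps -/
theorem row_inv {a b : Fin 3} {m : G} (hm : m ∈ M) (hmz : m * z (a, b) = z (a, b) * m) {y : G}
    (hy : y ∈ Rw Q Qs a) : m * y * m⁻¹ ∈ Rw Q Qs a ∨ m * y * m⁻¹ ∈ Cl Q Qs b := by
  obtain ⟨b', hb⟩ := ex_ne b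
  obtain ⟨⟨c, d⟩, hk⟩ := h.perm m hm (a, b')
  have hfix := comm_conj hmz
  have hfix' : m⁻¹ * z (a, b) * m⁻¹⁻¹ = z (a, b) := by
    calc m⁻¹ * z (a, b) * m⁻¹⁻¹ = m⁻¹ * (m * z (a, b) * m⁻¹) * m := by rw [hfix]; group
      _ = z (a, b) := by group
  have hk' : m⁻¹ * z (c, d) * m⁻¹⁻¹ = z (a, b') := by rw [← hk]; group
  have o1 : ¬ op (a, b) (c, d) := fun H => (h.eqOp (inv_mem hm) H hfix' hk').1 rfl
  have hne : (a, b) ≠ (c, d) := by
    intro e
    rw [← e, ← hfix] at hk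
    have := h.inj (mul_left_cancel (mul_right_cancel hk))
    exact hb (congrArg Prod.snd this).symm
  have m1 := h.eqD hm hfix (mem_Rw.1 hy b)
  have m2 := h.eqD hm hk (mem_Rw.1 hy b')
  by_cases hac : a = c
  · subst hac
    exact Or.inl (h.row_of (fun e => hne (by rw [e])) m1 m2)
  · by_cases hbd : b = d
    · subst hbd
      exact Or.inr (h.col_of hac m1 m2)
    · exact absurd ⟨hac, hbd⟩ o1

theorem col_inv {a b : Fin 3} {m : G} (hm : m ∈ M) (hmz : m * z (a, b) = z (a, b) * m) {y : G}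
    (hy : y ∈ Cl Q Qs b) : m * y * m⁻¹ ∈ Cl Q Qs b ∨ m * y * m⁻¹ ∈ Rw Q Qs a :=
  h.tp.row_inv (a := b) (b := a) hm hmz hy

theorem z_mem_J {a b : Fin 3} {y : G} (hy : y ∈ Rw Q Qs a) (hy1 : y ≠ 1) : z (a, b) ∈ h.J a b := by
  have l1 : ∀ x ∈ Rw Q Qs a, x ∈ h.J a b := fun x hx => ⟨x, hx, 1, one_mem _, by group⟩
  have l2 : ∀ x ∈ Cl Q Qs b, x ∈ h.J a b := fun x hx => ⟨1, one_mem _, x, hx, by group⟩
  refine h.min (a, b) (h.J a b) ?_ ?_ ?_
  · rintro _ ⟨y, hy, w, hw, rfl⟩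
    exact mul_mem (mem_D.1 (mem_Rw.1 hy b)).1 (mem_D.1 (mem_Cl.1 hw a)).1
  · rintro m hm hmz _ ⟨y, hy, w, hw, rfl⟩
    have e : m * (y * w) * m⁻¹ = (m * y * m⁻¹) * (m * w * m⁻¹) := by group
    rw [e]
    refine mul_mem ?_ ?_
    · rcases h.row_inv hm hmz hy with h1 | h1
      · exact l1 _ h1
      · exact l2 _ h1
    · rcases h.col_inv hm hmz hw with h1 | h1
      · exact l2 _ h1
      · exact l1 _ h1
  · intro e
    have := l1 y hy
    rw [e, mem_bot] at this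
    exact hy1 this

/-- the decomposition is unique -/
theorem uniq {a b : Fin 3} {y y' w w' : G} (hy : y ∈ Rw Q Qs a) (hy' : y' ∈ Rw Q Qs a)
    (hw : w ∈ Cl Q Qs b) (hw' : w' ∈ Cl Q Qs b) (e : y * w = y' * w') : y = y' := by
  have h1 : y'⁻¹ * y = w' * w⁻¹ := by
    calc y'⁻¹ * y = y'⁻¹ * (y * w) * w⁻¹ := by group
      _ = w' * w⁻¹ := by rw [e]; group
  have h2 : y'⁻¹ * y = 1 := h.row_col (a := a) (b := b) (mul_mem (inv_mem hy') hy)
    (by rw [h1]; exact mul_mem hw' (inv_mem hw))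
  exact (inv_mul_eq_one.1 h2).symm

theorem comp_row {a b b' : Fin 3} (_ : b ≠ b') {y y' w w' : G} (hy : y ∈ Rw Q Qs a)
    (hy' : y' ∈ Rw Q Qs a) (hw : w ∈ Cl Q Qs b) (hw' : w' ∈ Cl Q Qs b') (e : z (a, b) = y * w)
    (e' : z (a, b') = y' * w') : y = y' := by
  obtain ⟨u, hu, hu1⟩ := h.sr a (t b b')
  have h1 : u * z (a, b) * u⁻¹ = z (a, b') := by rw [hu1, t_t']
  have h2 : u * y * u⁻¹ = y := comm_conj ((mem_D.1 (mem_Rw.1 hy (t b b'))).2 u hu).symm
  have h3 : u * w * u⁻¹ ∈ Cl Q Qs b' := by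
    rw [mem_Cl]
    intro x
    refine h.eqD (h.QsM _ hu) (i := (x, b)) ?_ (mem_Cl.1 hw x)
    rw [hu1, t_t']
  refine h.uniq hy hy' h3 hw' ?_
  rw [← e', ← h1, e]
  calc y * (u * w * u⁻¹) = (u * y * u⁻¹) * (u * w * u⁻¹) := by rw [h2]
    _ = u * (y * w) * u⁻¹ := by group

/-- (2) `Rw a = 1` -/
theorem Rw_bot {a₀ : Fin 3} {y₀ : G} (hy₀ : y₀ ∈ Rw Q Qs a₀) : y₀ = 1 := by
  by_contra hne
  -- all rows
  have all : ∀ a, ∃ y ∈ Rw Q Qs a, y ≠ 1 := by
    intro a
    by_cases ha : a = a₀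
    · rw [ha]; exact ⟨y₀, hy₀, hne⟩
    obtain ⟨u, hu, hu1⟩ := h.sc (t a₀ a) 0
    refine ⟨u * y₀ * u⁻¹, ?_, ?_⟩
    · rw [mem_Rw]
      intro b
      refine h.eqD (h.QsM _ hu) (i := (a₀, b)) ?_ (mem_Rw.1 hy₀ b)
      rw [hu1, t_t']
    · intro e
      apply hne
      calc y₀ = u⁻¹ * (u * y₀ * u⁻¹) * u := by group
        _ = 1 := by rw [e]; group
  have dec : ∀ a b, ∃ y ∈ Rw Q Qs a, ∃ w ∈ Cl Q Qs b, z (a, b) = y * w := by
    intro a b
    obtain ⟨y, hy, hy1⟩ := all a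
    exact h.mem_J.1 (h.z_mem_J hy hy1)
  choose Y hY W hW hz using dec
  have hYr : ∀ a b b', Y a b = Y a b' := by
    intro a b b'
    by_cases hb : b = b'
    · rw [hb]
    · exact h.comp_row hb (hY _ _) (hY _ _) (hW _ _) (hW _ _) (hz _ _) (hz _ _)
  have hWc : ∀ a a' b, W a b = W a' b := by
    intro a a' b
    by_cases ha : a = a'
    · rw [ha]
    · refine h.tp.comp_row (a := b) (b := a) (b' := a') ha (hW a b) (hW a' b) (hY a b) (hY a' b) ?_ ?_
      · rw [← h.row_col_comm (hY a b) (hW a b)]; exact hz a b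
      · rw [← h.row_col_comm (hY a' b) (hW a' b)]; exact hz a' b
  have hYsq : ∀ a b, Y a b * Y a b = 1 := by
    intro a b
    have e := h.sq (a, b)
    rw [hz a b] at e
    have e1 : Y a b * W a b * (Y a b * W a b) = (Y a b * Y a b) * (W a b * W a b) := by
      calc Y a b * W a b * (Y a b * W a b) = Y a b * (W a b * Y a b) * W a b := by group
        _ = Y a b * (Y a b * W a b) * W a b := by rw [h.row_col_comm (hY a b) (hW a b)]
        _ = _ := by group
    rw [e1] at e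
    refine h.row_col (a := a) (b := b) (mul_mem (hY a b) (hY a b)) ?_
    rw [eq_inv_of_mul_eq_one_left e]
    exact inv_mem (mul_mem (hW a b) (hW a b))
  have hprod : ∀ a, Y a 0 = (W 0 0 * W 0 1 * W 0 2)⁻¹ := by
    intro a
    have e : z (a, 0) * z (a, 1) * z (a, 2) = 1 := by
      rw [h.row a 0 1 (by decide)]
      exact h.sq (a, 2)
    rw [hz a 0, hz a 1, hz a 2, hYr a 1 0, hYr a 2 0, hWc a 0 0, hWc a 0 1, hWc a 0 2] at e
    have c0 := h.row_col_comm (hY a 0) (hW 0 0)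
    have c1 := h.row_col_comm (hY a 0) (hW 0 1)
    have s := hYsq a 0
    have e2 : Y a 0 * W 0 0 * (Y a 0 * W 0 1) * (Y a 0 * W 0 2) =
        Y a 0 * (W 0 0 * W 0 1 * W 0 2) := by
      calc Y a 0 * W 0 0 * (Y a 0 * W 0 1) * (Y a 0 * W 0 2) =
          Y a 0 * (W 0 0 * Y a 0) * (W 0 1 * Y a 0) * W 0 2 := by group
        _ = Y a 0 * (Y a 0 * W 0 0) * (Y a 0 * W 0 1) * W 0 2 := by rw [c0, c1]
        _ = (Y a 0 * Y a 0) * (W 0 0 * Y a 0) * W 0 1 * W 0 2 := by group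
        _ = (Y a 0 * Y a 0) * (Y a 0 * W 0 0) * W 0 1 * W 0 2 := by rw [c0]
        _ = Y a 0 * (W 0 0 * W 0 1 * W 0 2) := by rw [s]; group
    rw [e2] at e
    exact eq_inv_of_mul_eq_one_left e
  have h1 : Y 0 0 = Y 1 0 := (hprod 0).trans (hprod 1).symm
  have h2 : Y 0 0 = 1 := h.row_row (a := 0) (a' := 1) (by decide) (hY 0 0) (by
    rw [h1]; exact hY 1 0)
  have h3 : z (0, 0) = z (1, 0) := by
    rw [hz 0 0, hz 1 0, ← h1, hWc 0 1 0]
  exact absurd (congrArg Prod.fst (h.inj h3)) (by decide)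

theorem Cl_bot {b : Fin 3} {y : G} (hy : y ∈ Cl Q Qs b) : y = 1 := h.tp.Rw_bot (a₀ := b) hy

/-- (1), (2): `D i ∩ D j = 1` for all `i ≠ j`. -/
theorem disj_all {i j : Fin 3 × Fin 3} (hij : i ≠ j) {y : G} (h1 : y ∈ D Q Qs i)
    (h2 : y ∈ D Q Qs j) : y = 1 := by
  obtain ⟨a, b⟩ := i
  obtain ⟨a', b'⟩ := j
  by_cases ha : a = a'
  · subst ha
    exact h.Rw_bot (h.row_of (fun e => hij (by rw [e])) h1 h2)
  · by_cases hb : b = b'
    · subst hb
      exact h.Cl_bot (h.col_of ha h1 h2)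
    · exact h.disj (i := (a, b)) (j := (a', b')) ⟨ha, hb⟩ h1 h2

end DP

/-! ### The four opposite points -/

/-- the other points opposite to `i` -/
def k₀ (i j : Fin 3 × Fin 3) : Fin 3 × Fin 3 := (j.1, t i.2 j.2)

/-- the other points opposite to `i` -/
def l₀ (i j : Fin 3 × Fin 3) : Fin 3 × Fin 3 := (t i.1 j.1, j.2)

/-- the other points opposite to `i` -/
def m₀ (i j : Fin 3 × Fin 3) : Fin 3 × Fin 3 := (t i.1 j.1, t i.2 j.2)

theorem std_quad : ∀ i j : Fin 3 × Fin 3, op i j →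
    (op i j ∧ op i (k₀ i j) ∧ op i (l₀ i j) ∧ op i (m₀ i j)) ∧ (j ≠ k₀ i j ∧ j ≠ l₀ i j ∧
      j ≠ m₀ i j ∧ k₀ i j ≠ l₀ i j ∧ k₀ i j ≠ m₀ i j ∧ l₀ i j ≠ m₀ i j) := by decide

theorem std_all : ∀ i j n : Fin 3 × Fin 3, op i j → op i n →
    n = j ∨ n = k₀ i j ∨ n = l₀ i j ∨ n = m₀ i j := by decide

theorem quad_cases {i j k l m : Fin 3 × Fin 3} (hn : Qd op i j k l m) :
    (k = k₀ i j ∧ l = l₀ i j ∧ m = m₀ i j) ∨ (k = k₀ i j ∧ l = m₀ i j ∧ m = l₀ i j) ∨
    (k = l₀ i j ∧ l = k₀ i j ∧ m = m₀ i j) ∨ (k = l₀ i j ∧ l = m₀ i j ∧ m = k₀ i j) ∨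
    (k = m₀ i j ∧ l = k₀ i j ∧ m = l₀ i j) ∨ (k = m₀ i j ∧ l = l₀ i j ∧ m = k₀ i j) := by
  obtain ⟨⟨hij, hik, hil, him⟩, hjk, hjl, hjm, hkl, hkm, hlm⟩ := hn
  rcases std_all i j k hij hik with e1 | e1 | e1 | e1
  · exact absurd e1.symm hjk
  all_goals
    rcases std_all i j l hij hil with e2 | e2 | e2 | e2
    · exact absurd e2.symm hjl
    all_goals
      rcases std_all i j m hij him with e3 | e3 | e3 | e3
      · exact absurd e3.symm hjm
      all_goals
        first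
        | exact absurd (e1.trans e2.symm) hkl
        | exact absurd (e1.trans e3.symm) hkm
        | exact absurd (e2.trans e3.symm) hlm
        | simp [e1, e2, e3]

namespace DP

variable {M : Subgroup G} {z : Fin 3 × Fin 3 → G} {Q Qs : Fin 3 × Fin 3 → Subgroup G}
variable (h : DP M z Q Qs)
include h

theorem std_prod {i j : Fin 3 × Fin 3} (hij : op i j) :
    z j * z (k₀ i j) * z (l₀ i j) * z (m₀ i j) = z i := by
  obtain ⟨a, b⟩ := i
  obtain ⟨a', b'⟩ := j
  obtain ⟨ha, hb⟩ := hij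
  simp only at ha hb
  have e1 : z (a', b') * z (a', t b b') = z (a', b) := by
    rw [h.row a' b' (t b b') (Ne.symm (t_ne b b' hb)), t_symm b b', t_t]
  have e2 : z (t a a', b') * z (t a a', t b b') = z (t a a', b) := by
    rw [h.row (t a a') b' (t b b') (Ne.symm (t_ne b b' hb)), t_symm b b', t_t]
  have e3 : z (a', b) * z (t a a', b) = z (a, b) := by
    rw [h.col b a' (t a a') (Ne.symm (t_ne a a' ha)), t_symm a a', t_t]
  show z (a', b') * z (a', t b b') * z (t a a', b') * z (t a a', t b b') = z (a, b)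
  rw [mul_assoc, e1, e2, e3]

theorem std_swap {i j : Fin 3 × Fin 3} :
    (∃ u ∈ Qs i, u * z j * u⁻¹ = z (k₀ i j) ∧ u * z (k₀ i j) * u⁻¹ = z j ∧
      u * z (l₀ i j) * u⁻¹ = z (m₀ i j) ∧ u * z (m₀ i j) * u⁻¹ = z (l₀ i j)) ∧
    (∃ u ∈ Qs i, u * z j * u⁻¹ = z (l₀ i j) ∧ u * z (l₀ i j) * u⁻¹ = z j ∧
      u * z (k₀ i j) * u⁻¹ = z (m₀ i j) ∧ u * z (m₀ i j) * u⁻¹ = z (k₀ i j)) ∧
    (∃ u ∈ Qs i, u * z j * u⁻¹ = z (m₀ i j) ∧ u * z (m₀ i j) * u⁻¹ = z j ∧
      u * z (k₀ i j) * u⁻¹ = z (l₀ i j) ∧ u * z (l₀ i j) * u⁻¹ = z (k₀ i j)) := by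
  obtain ⟨a, b⟩ := i
  obtain ⟨a', b'⟩ := j
  obtain ⟨u, hu, hu1⟩ := h.sr a b
  obtain ⟨v, hv, hv1⟩ := h.sc a b
  have huv : ∀ x y, u * v * z (x, y) * (u * v)⁻¹ = z (t a x, t b y) := by
    intro x y
    calc u * v * z (x, y) * (u * v)⁻¹ = u * (v * z (x, y) * v⁻¹) * u⁻¹ := by group
      _ = z (t a x, t b y) := by rw [hv1, hu1]
  refine ⟨⟨u, hu, ?_⟩, ⟨v, hv, ?_⟩, ⟨u * v, mul_mem hu hv, ?_⟩⟩
  · simp only [k₀, l₀, m₀, hu1, t_t, and_self]
  · simp only [k₀, l₀, m₀, hv1, t_t, and_self]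
  · simp only [k₀, l₀, m₀, huv, t_t, and_self]

/-- The points with their opposite relation satisfy the hypotheses of `QuadPts`. -/
theorem toQZ : QZ M z Q Qs op where
  inj := h.inj
  ne_one := h.ne_one
  sq := h.sq
  comm := h.comm
  QM := h.QM
  perm := h.perm
  eqQ := h.eqQ
  eqQs := h.eqQs
  nQ := h.nQ
  nQs := h.nQs
  le := h.le
  zmem := h.zmem
  Qz := h.Qz
  comQ := h.comQ
  irr i hi := hi.1 rfl
  symm i j hij := op_symm hij
  eqOp m hm i j i' j' hij hi hj := h.eqOp hm hij hi hj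
  ex j := by
    obtain ⟨i, hi, -⟩ := op_mid j j
    exact ⟨i, op_symm hi⟩
  four i j hij := ⟨_, _, _, std_quad i j hij⟩
  all i j k l m n hn hin := by
    rcases std_all i j n hn.1.1 hin with e | e | e | e
    · exact Or.inl e
    all_goals
      rcases quad_cases hn with ⟨e1, e2, e3⟩ | ⟨e1, e2, e3⟩ | ⟨e1, e2, e3⟩ | ⟨e1, e2, e3⟩ |
        ⟨e1, e2, e3⟩ | ⟨e1, e2, e3⟩ <;> simp [e, e1, e2, e3]
  prod i j k l m hn := by
    have s := h.std_prod hn.1.1
    have e1 : ∀ a b c, z j * z a * z b * z c = z j * z a * z c * z b := by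
      intro a b c
      rw [mul_assoc, h.comm b c, ← mul_assoc]
    have e2 : ∀ a b c, z j * z a * z b * z c = z j * z b * z a * z c := by
      intro a b c
      rw [mul_assoc (z j), h.comm a b, ← mul_assoc]
    rcases quad_cases hn with ⟨rfl, rfl, rfl⟩ | ⟨rfl, rfl, rfl⟩ | ⟨rfl, rfl, rfl⟩ |
      ⟨rfl, rfl, rfl⟩ | ⟨rfl, rfl, rfl⟩ | ⟨rfl, rfl, rfl⟩
    · exact s
    · rw [e1]; exact s
    · rw [e2]; exact s
    · rw [e1, e2]; exact s
    · rw [e2, e1]; exact s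
    · rw [e1, e2, e1]; exact s
  swap i j k l m hn := by
    obtain ⟨⟨u, hu, u1, u2, u3, u4⟩, ⟨v, hv, v1, v2, v3, v4⟩, ⟨w, hw, w1, w2, w3, w4⟩⟩ :=
      h.std_swap (i := i) (j := j)
    rcases quad_cases hn with ⟨rfl, rfl, rfl⟩ | ⟨rfl, rfl, rfl⟩ | ⟨rfl, rfl, rfl⟩ |
      ⟨rfl, rfl, rfl⟩ | ⟨rfl, rfl, rfl⟩ | ⟨rfl, rfl, rfl⟩
    · exact ⟨u, hu, u1, u2, u3, u4⟩
    · exact ⟨u, hu, u1, u2, u4, u3⟩
    · exact ⟨v, hv, v1, v2, v3, v4⟩
    · exact ⟨v, hv, v1, v2, v4, v3⟩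
    · exact ⟨w, hw, w1, w2, w3, w4⟩
    · exact ⟨w, hw, w1, w2, w4, w3⟩
  rg i j k u hij _ hu huj := h.reg hij hu huj k
  fix i d hd j := h.D_comm_z hd j
  dis i j hij y h1 h2 := h.disj_all hij h1 h2
  min := h.min

/-- THEOREM D0+: `C_{Q i}(Qs i) = ⟨z i⟩` -/
theorem D_eq {i : Fin 3 × Fin 3} {d : G} (hd : d ∈ D Q Qs i) : d = 1 ∨ d = z i := h.toQZ.D_eq hd

open Cfsg.Agent.Co2Type.Quad in
/-- THEOREM D0+: `Q i` is large extraspecial. -/
theorem large (i : Fin 3 × Fin 3)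
    (self : ∀ g, g * z i = z i * g → (∀ x ∈ Q i, g * x = x * g) → g ∈ Q i) :
    Large (Q i) (z i) := h.toQZ.large i self

end DP

end Cfsg.Agent.Omega.NOne.DPlus

end
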