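import Cfsg.Agent.Mrg.Omega.NOne.LemmaT
import Cfsg.Agent.Mrg.Omega.VP
import Cfsg.Agent.Lib.CoprimeCommutator
import Cfsg.Agent.Omega.NatPair.Mod
import Mathlib
import Cfsg.Agent.Mrg.Omega.SQ1.Choice
import Cfsg.Agent.Mrg.Omega.NO3S.TwoOne.Irr
import Cfsg.Agent.OddCyclic.GamLoc
import Cfsg.Agent.Mrg.Omega.RuShape.Base

section


/-!
# NO-1, LEMMA NAT (text #11695 (3) of helper389, referee report #12877 of helper926), K-free

`S ≤ P`, `P` of characteristic 2, `V` abelian, normal in the 2-group `S`, `V ≰ Q = O₂(P)`,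
`K = O²(P) ≤ ⟨V^P⟩`, `N = [Q, K]`; `l ≤ V`.

`(nat)` `[V, R] = C_V(R) = l` for every `R ≤ Ê` normalised by `S` and acting nontrivially on `V`
(`V` natural for `SL₂(q')^k'`, `k' ≤ 2`, `Ê / C(V)` a Sylow 2-subgroup, `l = C_V(Ê)`);
`(irr)` every subgroup of `V` containing `l` and normalised by `S` and `T` is `l` or `V` (`T` a torus,
normalising `V` and `l`).

* `Hyp.not_cent` : `[l, K] ≠ 1` in a group of characteristic 2 type (part (i));
* `Hyp.ff` : if `[l, K] ≠ 1`, then `N` is abelian, `N = ⟨l^P⟩`, `[N, K] = N ≠ 1`, and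
  `V ∩ Q = V ∩ N = C_V(N) = [V, N] = l` (part (ii));
* `Hyp.card_le` : `|N : C_N(V)| ≤ |V : V ∩ Q|` if `|Ê : C_Ê(V)| ≤ |V : l|`: the group `VQ/Q` is an
  FF-offender on `N`.
-/

set_option autoImplicit false

namespace Cfsg.Agent.Omega.NOne.NatLem

open Subgroup Cfsg Cfsg.Agent.MinSimple.VModule Cfsg.Agent.MinSimple.Basic
open Cfsg.Agent.ZN (o2)
open Cfsg.Agent.Omega.NOne.Frame (norm_mem norm_mem' comm_of_le_centralizer le_centralizer_of_comm)
open scoped commutatorElement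

universe u

variable {G : Type u} [Group G]

/-! ### General facts -/

theorem le_normalizer_of {T U : Subgroup G} (h : ∀ t ∈ T, ∀ x ∈ U, t * x * t⁻¹ ∈ U) :
    T ≤ normalizer (U : Set G) := by
  intro s hs
  refine mem_normalizer_iff.mpr fun x => ⟨h s hs x, fun hx => ?_⟩
  have h3 := h s⁻¹ (inv_mem hs) _ hx
  have h4 : s⁻¹ * (s * x * s⁻¹) * s⁻¹⁻¹ = x := by group
  rwa [h4] at h3

theorem le_normalizer_commutator {X A B : Subgroup G} (hA : X ≤ normalizer (A : Set G))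
    (hB : X ≤ normalizer (B : Set G)) : X ≤ normalizer ((⁅A, B⁆ : Subgroup G) : Set G) := by
  refine le_normalizer_of fun x hx y hy => ?_
  have h1 : ⁅A, B⁆ ≤ (⁅A, B⁆ : Subgroup G).comap (MulAut.conj x).toMonoidHom := by
    rw [commutator_le]
    intro a ha b hb
    change x * ⁅a, b⁆ * x⁻¹ ∈ (⁅A, B⁆ : Subgroup G)
    have e : x * ⁅a, b⁆ * x⁻¹ = ⁅x * a * x⁻¹, x * b * x⁻¹⁆ := by
      simp only [commutatorElement_def]; group
    rw [e]
    exact commutator_mem_commutator (norm_mem (hA hx) ha) (norm_mem (hB hx) hb)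
  exact h1 hy

theorem le_normalizer_inf {X A B : Subgroup G} (hA : X ≤ normalizer (A : Set G))
    (hB : X ≤ normalizer (B : Set G)) : X ≤ normalizer ((A ⊓ B : Subgroup G) : Set G) :=
  le_normalizer_of fun _ hx _ hy =>
    mem_inf.2 ⟨norm_mem (hA hx) (mem_inf.1 hy).1, norm_mem (hB hx) (mem_inf.1 hy).2⟩

theorem exists_pow_of_two {F : Subgroup G} (hF : IsPGroup 2 F) {f : G} (hf : f ∈ F) :
    ∃ k : ℕ, f ^ 2 ^ k = 1 := by
  obtain ⟨k, hk⟩ := hF ⟨f, hf⟩
  exact ⟨k, congrArg Subtype.val hk⟩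

/-- An element of odd order of a 2-group is trivial. -/
theorem eq_one_of_odd {x : G} (hx : Odd (orderOf x)) (h2 : ∃ k : ℕ, x ^ 2 ^ k = 1) : x = 1 := by
  obtain ⟨k, hk⟩ := h2
  have h5 : orderOf x ∣ 2 ^ k := orderOf_dvd_of_pow_eq_one hk
  have h6 : (orderOf x).Coprime (2 ^ k) := Nat.Coprime.pow_right k (Nat.coprime_two_right.mpr hx)
  exact orderOf_eq_one_iff.1 (Nat.eq_one_of_dvd_coprimes h6 dvd_rfl h5)

/-- An element `x` of odd order moving `q` by a 2-element `f` commuting with `x` centralises `q`. -/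
theorem odd_fix {x q f : G} (hx : Odd (orderOf x)) (hf : x * q * x⁻¹ = f * q)
    (hxf : x * f = f * x) (h2 : ∃ k : ℕ, f ^ 2 ^ k = 1) : f = 1 := by
  have h1 := LemmaT.pow_conj_eq hf hxf (orderOf x)
  rw [pow_orderOf_eq_one, one_mul, inv_one, mul_one] at h1
  have h3 : f ^ orderOf x = 1 := (mul_eq_right.1 h1.symm)
  obtain ⟨k, hk⟩ := h2
  have h4 : orderOf f ∣ orderOf x := orderOf_dvd_of_pow_eq_one h3
  have h5 : orderOf f ∣ 2 ^ k := orderOf_dvd_of_pow_eq_one hk
  have h6 : (orderOf x).Coprime (2 ^ k) := Nat.Coprime.pow_right k (Nat.coprime_two_right.mpr hx)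
  exact orderOf_eq_one_iff.1 (Nat.eq_one_of_dvd_coprimes h6 h4 h5)

/-- `[Q, O²(P), O²(P)] = [Q, O²(P)]` for a 2-group `Q` normalised by `P`. -/
theorem comm_comm [Finite G] {P Q : Subgroup G} (hQ : IsPGroup 2 Q)
    (hPQ : P ≤ normalizer (Q : Set G)) :
    ⁅⁅Q, oddGen P⁆, oddGen P⁆ = ⁅Q, oddGen P⁆ := by
  have hKQ : oddGen P ≤ normalizer (Q : Set G) := (oddGen_le P).trans hPQ
  have hKK : oddGen P ≤ normalizer (oddGen P : Set G) := le_normalizer
  set M : Subgroup G := ⁅⁅Q, oddGen P⁆, oddGen P⁆ with hM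
  have hKM : oddGen P ≤ normalizer (M : Set G) :=
    le_normalizer_commutator (le_normalizer_commutator hKQ hKK) hKK
  refine le_antisymm (Lib.CoprimeCommutator.commutator_le_left (le_normalizer_commutator hKQ hKK)) ?_
  have key : ∀ k ∈ oddGen P, ∀ q ∈ Q, ⁅q, k⁆ ∈ M := by
    intro k hk
    rw [oddGen_def] at hk
    induction hk using closure_induction with
    | mem x hx =>
      intro q hq
      have hxK : x ∈ oddGen P := mem_oddGen hx.1 hx.2
      have hzK : zpowers x ≤ oddGen P := (zpowers_le).2 hxK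
      have hcop : (Nat.card (zpowers x)).Coprime (Nat.card Q) := by
        rw [Nat.card_zpowers]
        obtain ⟨n, hn⟩ := IsPGroup.iff_card.1 hQ
        rw [hn]
        exact Nat.Coprime.pow_right n (Nat.coprime_two_right.mpr hx.2)
      have h1 := Lib.CoprimeCommutator.commutator_commutator_eq (zpowers x) Q (hzK.trans hKQ) hcop
      have h2 : ⁅q, x⁆ ∈ ⁅Q, zpowers x⁆ := commutator_mem_commutator hq (mem_zpowers x)
      rw [← h1] at h2
      exact commutator_mono (commutator_mono le_rfl hzK) hzK h2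
    | one => intro q _; simp
    | mul x y hx hy ihx ihy =>
      intro q hq
      have hx' : x ∈ oddGen P := by rw [oddGen_def]; exact hx
      have h3 : ⁅q, x * y⁆ = ⁅q, x⁆ * (x * ⁅q, y⁆ * x⁻¹) := by
        simp only [commutatorElement_def]; group
      rw [h3]
      exact mul_mem (ihx q hq) (norm_mem (hKM hx') (ihy q hq))
    | inv x hx ih =>
      intro q hq
      have hx' : x ∈ oddGen P := by rw [oddGen_def]; exact hx
      have h3 : ⁅q, x⁻¹⁆ = x⁻¹ * ⁅q, x⁆⁻¹ * x := by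
        simp only [commutatorElement_def]; group
      rw [h3]
      exact norm_mem' (hKM hx') (inv_mem (ih q hq))
  rw [commutator_le]
  exact fun q hq k hk => key k hk q hq

/-! ### LEMMA NAT -/

/-- The situation of LEMMA NAT. -/
structure Hyp (S P V l Eh : Subgroup G) : Prop where
  sup : oddGen P ⊔ S = P
  two : IsPGroup 2 S
  Q_le : o2 P ≤ S
  char2 : P ⊓ centralizer (o2 P : Set G) ≤ o2 P
  comm : V ≤ centralizer (V : Set G)
  VS : V ≤ S
  SV : S ≤ normalizer (V : Set G)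
  VQ : ¬ V ≤ o2 P
  gen : ∀ R : Subgroup G, R ≤ P → V ≤ R → P ≤ normalizer (R : Set G) → oddGen P ≤ R
  acts : ⁅o2 P, oddGen P⁆ ≤ Eh
  nat : ∀ R : Subgroup G, R ≤ Eh → S ≤ normalizer (R : Set G) → ¬ R ≤ centralizer (V : Set G) →
    ⁅V, R⁆ = l ∧ V ⊓ centralizer (R : Set G) = l

/-- `⟨l^P⟩` -/
def J (P l : Subgroup G) : Subgroup G := closure {x | ∃ p ∈ P, ∃ a ∈ l, p * a * p⁻¹ = x}

theorem le_J (P l : Subgroup G) : l ≤ J P l := fun a ha =>
  subset_closure ⟨1, one_mem _, a, ha, by group⟩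

theorem le_normalizer_J (P l : Subgroup G) : P ≤ normalizer (J P l : Set G) := by
  refine le_normalizer_of fun x hx y hy => ?_
  have h1 : J P l ≤ (J P l).comap (MulAut.conj x).toMonoidHom := by
    refine (closure_le _).mpr ?_
    rintro _ ⟨p, hp, a, ha, rfl⟩
    refine subset_closure ⟨x * p, mul_mem hx hp, a, ha, ?_⟩
    change x * p * a * (x * p)⁻¹ = x * (p * a * p⁻¹) * x⁻¹
    group
  exact h1 hy

theorem J_le {P l U : Subgroup G} (h : l ≤ U) (hU : P ≤ normalizer (U : Set G)) : J P l ≤ U := by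
  refine (closure_le _).mpr ?_
  rintro _ ⟨p, hp, a, ha, rfl⟩
  exact norm_mem (hU hp) (h ha)

/-- `N = [O₂(P), O²(P)]` -/
abbrev N (P : Subgroup G) : Subgroup G := ⁅o2 P, oddGen P⁆

theorem le_normalizer_N (P : Subgroup G) : P ≤ normalizer (N P : Set G) :=
  le_normalizer_commutator (le_normalizer_o2 P) (le_normalizer_oddGen P)

theorem N_le_o2 (P : Subgroup G) : N P ≤ o2 P :=
  Lib.CoprimeCommutator.commutator_le_left ((oddGen_le P).trans (le_normalizer_o2 P))

/-- `[N, K] = N` -/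
theorem comm_N [Finite G] (P : Subgroup G) : ⁅N P, oddGen P⁆ = N P :=
  comm_comm (o2_isPGroup P) (le_normalizer_o2 P)

namespace Hyp

variable {S P V l Eh : Subgroup G} (h : Hyp S P V l Eh)
include h

theorem SP : S ≤ P := h.sup ▸ le_sup_right

theorem VP : V ≤ P := h.VS.trans h.SP

theorem N_le_S : N P ≤ S := (N_le_o2 P).trans h.Q_le

/-- `K` centralises a subgroup normalised by `P` and centralised by `V`. -/
theorem cent_of {U : Subgroup G} (hU : P ≤ normalizer (U : Set G))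
    (hV : V ≤ centralizer (U : Set G)) : oddGen P ≤ centralizer (U : Set G) :=
  (h.gen (P ⊓ centralizer (U : Set G)) inf_le_left (le_inf h.VP hV)
    (le_normalizer_inf le_normalizer
      (hU.trans (LemmaT.normalizer_le_normalizer_centralizer U)))).trans inf_le_right

/-- `K` centralises a subgroup normalised by `K` and centralised by `V`. -/
theorem cent_of' {U : Subgroup G} (hU : oddGen P ≤ normalizer (U : Set G))
    (hV : V ≤ centralizer (U : Set G)) : oddGen P ≤ centralizer (U : Set G) := by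
  set R : Subgroup G := closure {x | ∃ k ∈ oddGen P, ∃ v ∈ V, k * v * k⁻¹ = x} with hR
  have hRP : R ≤ P := by
    refine (closure_le _).mpr ?_
    rintro _ ⟨k, hk, v, hv, rfl⟩
    exact mul_mem (mul_mem (oddGen_le P hk) (h.VP hv)) (inv_mem (oddGen_le P hk))
  have hVR : V ≤ R := fun v hv => subset_closure ⟨1, one_mem _, v, hv, by group⟩
  have hn : P ≤ normalizer (R : Set G) := by
    rw [← h.sup]
    refine sup_le ?_ ?_
    · refine le_normalizer_of fun x hx y hy => ?_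
      have h1 : R ≤ R.comap (MulAut.conj x).toMonoidHom := by
        refine (closure_le _).mpr ?_
        rintro _ ⟨k, hk, v, hv, rfl⟩
        refine subset_closure ⟨x * k, mul_mem hx hk, v, hv, ?_⟩
        change x * k * v * (x * k)⁻¹ = x * (k * v * k⁻¹) * x⁻¹
        group
      exact h1 hy
    · refine le_normalizer_of fun x hx y hy => ?_
      have h1 : R ≤ R.comap (MulAut.conj x).toMonoidHom := by
        refine (closure_le _).mpr ?_
        rintro _ ⟨k, hk, v, hv, rfl⟩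
        refine subset_closure ⟨x * k * x⁻¹, norm_mem (le_normalizer_oddGen P (h.SP hx)) hk,
          x * v * x⁻¹, norm_mem (h.SV hx) hv, ?_⟩
        change x * k * x⁻¹ * (x * v * x⁻¹) * (x * k * x⁻¹)⁻¹ = x * (k * v * k⁻¹) * x⁻¹
        group
      exact h1 hy
  have h2 : R ≤ centralizer (U : Set G) := by
    refine (closure_le _).mpr ?_
    rintro _ ⟨k, hk, v, hv, rfl⟩
    refine mem_centralizer_iff.2 fun u hu => ?_
    have h3 := mem_centralizer_iff.1 (hV hv) _ (norm_mem' (hU hk) hu)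
    calc u * (k * v * k⁻¹) = k * ((k⁻¹ * u * k) * v) * k⁻¹ := by group
      _ = k * (v * (k⁻¹ * u * k)) * k⁻¹ := by rw [h3]
      _ = k * v * k⁻¹ * u := by group
  exact (h.gen R hRP hVR hn).trans h2

/-- `K = O²(P)` is not a 2-group. -/
theorem not_two {H : Subgroup G} (hH : IsPGroup 2 H) (hK : oddGen P ≤ H) : False := by
  have h1 : oddGen P = ⊥ := by
    rw [eq_bot_iff]
    conv_lhs => rw [oddGen_def]
    refine (closure_le _).mpr ?_
    rintro x ⟨hx, ho⟩
    exact mem_bot.2 (eq_one_of_odd ho (exists_pow_of_two hH (hK (mem_oddGen hx ho))))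
  have h2 : P = S := by
    have := h.sup
    rw [h1, bot_sup_eq] at this
    exact this.symm
  have h3 : P ≤ o2 P := le_o2 le_rfl (by rw [h2]; exact h.two) le_normalizer
  exact h.VQ (h.VP.trans h3)

/-- `N = [O₂(P), K] ≠ 1` -/
theorem N_ne_bot : N P ≠ ⊥ := by
  intro h1
  rw [N, commutator_comm, commutator_eq_bot_iff_le_centralizer] at h1
  exact h.not_two (o2_isPGroup P) ((le_inf (oddGen_le P) h1).trans h.char2)

theorem S_norm_N : S ≤ normalizer (N P : Set G) := h.SP.trans (le_normalizer_N P)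

variable [Finite G]

/-- `N` acts nontrivially on `V`. -/
theorem N_not : ¬ N P ≤ centralizer (V : Set G) := by
  intro h1
  have h2 : V ≤ centralizer (N P : Set G) := le_centralizer_iff.1 h1
  have h3 := h.cent_of (le_normalizer_N P) h2
  have h4 : ⁅N P, oddGen P⁆ = ⊥ := by
    rw [commutator_comm, commutator_eq_bot_iff_le_centralizer]
    exact h3
  rw [comm_N] at h4
  exact h.N_ne_bot h4

/-- `[V, N] = l` -/
theorem comm_VN : ⁅V, N P⁆ = l := (h.nat _ h.acts h.S_norm_N h.N_not).1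

/-- `C_V(N) = l` -/
theorem V_inf_centralizer_N : V ⊓ centralizer (N P : Set G) = l :=
  (h.nat _ h.acts h.S_norm_N h.N_not).2

theorem l_le_V : l ≤ V := by
  have := h.V_inf_centralizer_N
  exact this ▸ inf_le_left

theorem l_le_N : l ≤ N P := by
  have h1 : ⁅V, N P⁆ ≤ N P := by
    rw [commutator_comm]
    exact Lib.CoprimeCommutator.commutator_le_left (h.VP.trans (le_normalizer_N P))
  rwa [h.comm_VN] at h1

theorem l_cent_N : l ≤ centralizer (N P : Set G) := by
  have := h.V_inf_centralizer_N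
  exact this ▸ inf_le_right

theorem S_norm_l : S ≤ normalizer (l : Set G) := by
  have h1 := le_normalizer_commutator h.SV h.S_norm_N
  rwa [h.comm_VN] at h1

theorem l_ne_bot : l ≠ ⊥ := by
  intro h1
  have h2 := h.comm_VN
  rw [h1, commutator_comm, commutator_eq_bot_iff_le_centralizer] at h2
  exact h.N_not h2

/-- **LEMMA NAT (i).** `[l, K] ≠ 1`, if `N_G(l)` has characteristic 2. -/
theorem not_cent' {T : Subgroup G}
    (hc : normalizer (l : Set G) ⊓ centralizer (o2 (normalizer (l : Set G)) : Set G) ≤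
      o2 (normalizer (l : Set G)))
    (hS : o2 (normalizer (l : Set G)) ≤ S)
    (hTV : T ≤ normalizer (V : Set G)) (hTl : T ≤ normalizer (l : Set G))
    (irr : ∀ U : Subgroup G, l ≤ U → U ≤ V → S ≤ normalizer (U : Set G) →
      T ≤ normalizer (U : Set G) → U = l ∨ U = V) :
    ¬ oddGen P ≤ centralizer (l : Set G) := by
  intro hK
  set M : Subgroup G := normalizer (l : Set G) with hM
  have hKM : oddGen P ≤ M := hK.trans (LemmaT.centralizer_le_normalizer' l)
  have hPM : P ≤ M := by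
    rw [← h.sup]
    exact sup_le hKM h.S_norm_l
  -- `H₀ = O₂(N_G(l)) ≤ O₂(P)`
  have hH : o2 M ≤ o2 P :=
    le_o2 (hS.trans h.SP) (o2_isPGroup M) (hPM.trans (le_normalizer_o2 M))
  -- `V ∩ H₀ = l`
  have hl : l ≤ o2 M := le_o2 le_normalizer (h.two.to_le (h.l_le_V.trans h.VS)) le_rfl
  have hVH : V ⊓ o2 M = l := by
    refine (irr _ (le_inf h.l_le_V hl) inf_le_left
      (le_normalizer_inf h.SV (h.S_norm_l.trans (le_normalizer_o2 M)))
      (le_normalizer_inf hTV (hTl.trans (le_normalizer_o2 M)))).resolve_right fun h1 => ?_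
    exact h.VQ ((inf_eq_left.1 h1).trans hH)
  -- `[H₀, K] ≤ l`
  have h2 : V ≤ Frame.stab P (o2 M) l hPM := by
    refine fun v hv => ⟨h.VP hv, fun r hr => ?_⟩
    rw [← hVH]
    refine Frame.comm_mem_inf ((h.VP.trans hPM).trans (le_normalizer_o2 M)) ?_ hv hr
    exact hS.trans h.SV
  have h3 : P ≤ normalizer (Frame.stab P (o2 M) l hPM : Set G) := by
    refine le_normalizer_of fun x hx y hy => ⟨mul_mem (mul_mem hx hy.1) (inv_mem hx), fun r hr => ?_⟩
    have h4 := hy.2 _ (norm_mem' (le_normalizer_o2 M (hPM hx)) hr)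
    have e : x * y * x⁻¹ * r * (x * y * x⁻¹)⁻¹ * r⁻¹ =
        x * (y * (x⁻¹ * r * x) * y⁻¹ * (x⁻¹ * r * x)⁻¹) * x⁻¹ := by group
    rw [e]
    exact norm_mem (hPM hx) h4
  have h4 : oddGen P ≤ Frame.stab P (o2 M) l hPM := h.gen _ (fun x hx => hx.1) h2 h3
  have h5 : oddGen P ≤ centralizer (o2 M : Set G) := by
    conv_lhs => rw [oddGen_def]
    refine (closure_le _).mpr ?_
    rintro x ⟨hx, ho⟩
    have hxK := mem_oddGen hx ho
    refine mem_centralizer_iff.2 fun r hr => ?_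
    have h6 := (h4 hxK).2 r hr
    have h7 : x * r * x⁻¹ * r⁻¹ = 1 :=
      odd_fix (x := x) (q := r) ho (by group) (mem_centralizer_iff.1 (hK hxK) _ h6).symm
        (exists_pow_of_two (o2_isPGroup M) (hl h6))
    calc r * x = x * r * x⁻¹ * r⁻¹ * (r * x) := by rw [h7, one_mul]
      _ = x * r := by group
  exact h.not_two (o2_isPGroup M) ((le_inf hKM h5).trans hc)

/-- The conclusion of LEMMA NAT (ii). -/
structure _root_.Cfsg.Agent.Omega.NOne.NatLem.Out (P V l : Subgroup G) : Prop where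
  /-- `N` is abelian -/
  abel : N P ≤ centralizer (N P : Set G)
  /-- `N = ⟨l^P⟩` -/
  eq_J : N P = J P l
  /-- `[V, N] = l` -/
  comm : ⁅V, N P⁆ = l
  /-- `V ∩ O₂(P) = l` -/
  VQ : V ⊓ o2 P = l
  /-- `V ∩ N = l` -/
  VN : V ⊓ N P = l
  /-- `C_V(N) = l` -/
  CVN : V ⊓ centralizer (N P : Set G) = l
  /-- `[N, V] ≠ 1` -/
  not_cent : ¬ N P ≤ centralizer (V : Set G)

/-- **LEMMA NAT (ii).** -/
theorem out (hl : ¬ oddGen P ≤ centralizer (l : Set G)) : Out P V l := by
  have hPN := le_normalizer_N P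
  have hJN : J P l ≤ N P := J_le h.l_le_N hPN
  have hJZ : J P l ≤ centralizer (N P : Set G) :=
    J_le h.l_cent_N (hPN.trans (LemmaT.normalizer_le_normalizer_centralizer _))
  have hNJ : N P ≤ centralizer (J P l : Set G) := le_centralizer_iff.1 hJZ
  have hJV : ¬ J P l ≤ centralizer (V : Set G) := by
    intro h1
    refine hl ((h.cent_of (le_normalizer_J P l) (le_centralizer_iff.1 h1)).trans ?_)
    exact centralizer_le (le_J P l)
  have hCJ : V ⊓ centralizer (J P l : Set G) = l :=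
    (h.nat _ (hJN.trans h.acts) (h.SP.trans (le_normalizer_J P l)) hJV).2
  have hVN : V ⊓ N P = l := by
    refine le_antisymm ?_ (le_inf h.l_le_V h.l_le_N)
    rw [← hCJ]
    exact inf_le_inf_left V hNJ
  -- `N ≤ J`
  have hle : N P ≤ J P l := by
    have h2 : V ≤ Frame.stab P (N P) (J P l) (le_normalizer_J P l) := by
      refine fun v hv => ⟨h.VP hv, fun r hr => le_J P l ?_⟩
      rw [← h.comm_VN]
      exact commutator_mem_commutator hv hr
    have h3 : P ≤ normalizer (Frame.stab P (N P) (J P l) (le_normalizer_J P l) : Set G) := by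
      refine le_normalizer_of fun x hx y hy =>
        ⟨mul_mem (mul_mem hx hy.1) (inv_mem hx), fun r hr => ?_⟩
      have h4 := hy.2 _ (norm_mem' (hPN hx) hr)
      have e : x * y * x⁻¹ * r * (x * y * x⁻¹)⁻¹ * r⁻¹ =
          x * (y * (x⁻¹ * r * x) * y⁻¹ * (x⁻¹ * r * x)⁻¹) * x⁻¹ := by group
      rw [e]
      exact norm_mem (le_normalizer_J P l hx) h4
    have h4 : oddGen P ≤ Frame.stab P (N P) (J P l) (le_normalizer_J P l) :=
      h.gen _ (fun x hx => hx.1) h2 h3
    rw [← comm_N P, commutator_le]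
    intro n hn k hk
    have h5 := inv_mem ((h4 hk).2 n hn)
    have e : (k * n * k⁻¹ * n⁻¹)⁻¹ = ⁅n, k⁆ := by rw [commutatorElement_def]; group
    rwa [e] at h5
  have hab : N P ≤ centralizer (N P : Set G) := hle.trans hJZ
  -- `V ∩ Q ≤ C(N)`
  have hE : V ⊓ o2 P ≤ centralizer (N P : Set G) := by
    intro d hd
    obtain ⟨hdV, hdQ⟩ := mem_inf.1 hd
    have hdN : d ∈ normalizer (N P : Set G) := hPN (h.VP hdV)
    have hc : ∀ a ∈ N P, ∀ b ∈ N P, a * b = b * a := fun a ha b hb =>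
      comm_of_le_centralizer hab ha hb
    have hφ : ∀ n ∈ N P, n * d * n⁻¹ * d⁻¹ ∈ N P := by
      intro n hn
      have e : n * d * n⁻¹ * d⁻¹ = n * (d * n⁻¹ * d⁻¹) := by group
      rw [e]
      exact mul_mem hn (norm_mem hdN (inv_mem hn))
    -- equivariance
    have heq : ∀ k ∈ oddGen P, ∀ n ∈ N P,
        k * (n * d * n⁻¹ * d⁻¹) * k⁻¹ = (k * n * k⁻¹) * d * (k * n * k⁻¹)⁻¹ * d⁻¹ := by
      intro k hk n hn
      have hn' : k * n * k⁻¹ ∈ N P := norm_mem (hPN (oddGen_le P hk)) hn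
      set m := k * n * k⁻¹ with hm
      have hcN : k * d * k⁻¹ * d⁻¹ ∈ N P := by
        rw [N, commutator_comm]
        exact commutator_mem_commutator hk hdQ
      set c := k * d * k⁻¹ * d⁻¹ with hc'
      have e1 : k * (n * d * n⁻¹ * d⁻¹) * k⁻¹ = m * (c * d) * m⁻¹ * (c * d)⁻¹ := by
        rw [hm, hc']; group
      have e2 : m * (c * d) * m⁻¹ * (c * d)⁻¹ = (m * c) * (d * m⁻¹ * d⁻¹) * c⁻¹ := by group
      have e3 : c * (m * (d * m⁻¹ * d⁻¹)) = m * (d * m⁻¹ * d⁻¹) * c :=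
        hc c hcN _ (mul_mem hn' (norm_mem hdN (inv_mem hn')))
      rw [e1, e2, hc m hn' c hcN, mul_assoc c m, e3, mul_inv_cancel_right]
      group
    set U : Subgroup G := closure {x | ∃ n ∈ N P, n * d * n⁻¹ * d⁻¹ = x} with hU
    have hUV : U ≤ V := by
      refine (closure_le _).mpr ?_
      rintro _ ⟨n, hn, rfl⟩
      exact mul_mem (norm_mem (h.SV (h.N_le_S hn)) hdV) (inv_mem hdV)
    have hKU : oddGen P ≤ normalizer (U : Set G) := by
      refine le_normalizer_of fun k hk y hy => ?_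
      have h1 : U ≤ U.comap (MulAut.conj k).toMonoidHom := by
        refine (closure_le _).mpr ?_
        rintro _ ⟨n, hn, rfl⟩
        refine subset_closure ⟨k * n * k⁻¹, norm_mem (hPN (oddGen_le P hk)) hn, ?_⟩
        exact (heq k hk n hn).symm
      exact h1 hy
    have hVU : V ≤ centralizer (U : Set G) := h.comm.trans (centralizer_le hUV)
    have hKc := h.cent_of' hKU hVU
    have h6 : N P ≤ centralizer {d} := by
      rw [← comm_N P, commutator_le]
      intro n hn k hk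
      have hmem : n * d * n⁻¹ * d⁻¹ ∈ U := subset_closure ⟨n, hn, rfl⟩
      have h7 := mem_centralizer_iff.1 (hKc hk) _ hmem
      have h8 := heq k hk n hn
      rw [← h7, mul_inv_cancel_right] at h8
      have hn' : k * n * k⁻¹ ∈ N P := norm_mem (hPN (oddGen_le P hk)) hn
      set m := k * n * k⁻¹ with hm
      have h9 : n * d * n⁻¹ = m * d * m⁻¹ := mul_right_cancel h8
      have h10 : ⁅n, k⁆ = m⁻¹ * n := by
        rw [← hc n hn m⁻¹ (inv_mem hn'), hm, commutatorElement_def]; group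
      rw [h10, mem_centralizer_singleton_iff]
      calc m⁻¹ * n * d = m⁻¹ * (n * d * n⁻¹) * n := by group
        _ = m⁻¹ * (m * d * m⁻¹) * n := by rw [h9]
        _ = d * (m⁻¹ * n) := by group
    exact mem_centralizer_iff.2 fun n hn => mem_centralizer_singleton_iff.1 (h6 hn)
  refine ⟨hab, le_antisymm hle hJN, h.comm_VN, ?_, hVN, h.V_inf_centralizer_N, h.N_not⟩
  refine le_antisymm ?_ (le_inf h.l_le_V (h.l_le_N.trans (N_le_o2 P)))
  rw [← h.V_inf_centralizer_N]
  exact le_inf inf_le_left hE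

/-- `V ∩ O₂(P) = l` and `|N : C_N(V)| ≤ |V : l|`: `V O₂(P) / O₂(P)` is an FF-offender on `N`. -/
theorem card_le (hcard : (Eh ⊓ centralizer (V : Set G)).relIndex Eh ≤ l.relIndex V) :
    (N P ⊓ centralizer (V : Set G)).relIndex (N P) ≤ l.relIndex V := by
  refine le_trans ?_ hcard
  rw [inf_relIndex_left, inf_relIndex_left]
  exact relIndex_le_of_le_right h.acts index_ne_zero_of_finite

end Hyp

namespace Out

variable {P V l : Subgroup G} (h : Out P V l)
include h

/-- `N` is elementary abelian if `V` is. -/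
theorem sq (hsq : ∀ v ∈ V, v ^ 2 = 1) {n : G} (hn : n ∈ N P) : n ^ 2 = 1 := by
  have h1 : N P ≤ normalizer (N P : Set G) := le_normalizer
  rw [h.eq_J, J] at hn
  induction hn using closure_induction with
  | mem x hx =>
    obtain ⟨p, hp, a, ha, rfl⟩ := hx
    have h2 : a ^ 2 = 1 := hsq a (h.VQ ▸ ha : a ∈ V ⊓ o2 P).1
    rw [conj_pow, h2, mul_one, mul_inv_cancel]
  | one => exact one_pow 2
  | mul x y hx hy ihx ihy =>
    have hx' : x ∈ N P := by rw [h.eq_J]; exact hx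
    have hy' : y ∈ N P := by rw [h.eq_J]; exact hy
    have h2 : Commute x y := comm_of_le_centralizer h.abel hx' hy'
    rw [h2.mul_pow, ihx, ihy, mul_one]
  | inv x hx ih => rw [inv_pow, ih, inv_one]

end Out

/-! ### Minimal parabolics over a Sylow 2-subgroup -/

section Par

variable [Finite G]

theorem _root_.Cfsg.Agent.MinSimple.MinParabolic.IsMinPar.gen {S P V : Subgroup G}
    (h : MinSimple.MinParabolic.IsMinPar S P) (hS : IsPGroup 2 S) (hSyl : ¬ 2 ∣ S.relIndex P)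
    (hVS : V ≤ S) (hV : ¬ V ≤ o2 P) (R : Subgroup G) (hR : R ≤ P) (hVR : V ≤ R)
    (hn : P ≤ normalizer (R : Set G)) : oddGen P ≤ R := by
  have : Fact (Nat.Prime 2) := ⟨Nat.prime_two⟩
  rcases h.sup_eq_or_inf_le (p := 2) hS hSyl hR hn with h1 | h1
  · exact oddGen_le_of_sup hn h1.ge h.le hR hS
  · exact absurd ((le_inf hVS hVR).trans h1) hV

/-- The hypothesis of LEMMA NAT for a minimal parabolic `P`. -/
theorem Hyp.of_minPar (S : Sylow 2 G) {P V l Eh : Subgroup G}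
    (h : MinSimple.MinParabolic.IsMinPar (S : Subgroup G) P)
    (hc : P ⊓ centralizer (o2 P : Set G) ≤ o2 P) (comm : V ≤ centralizer (V : Set G))
    (VS : V ≤ (S : Subgroup G)) (SV : (S : Subgroup G) ≤ normalizer (V : Set G))
    (VQ : ¬ V ≤ o2 P) (acts : ⁅o2 P, oddGen P⁆ ≤ Eh)
    (nat : ∀ R : Subgroup G, R ≤ Eh → (S : Subgroup G) ≤ normalizer (R : Set G) →
      ¬ R ≤ centralizer (V : Set G) → ⁅V, R⁆ = l ∧ V ⊓ centralizer (R : Set G) = l) :
    Hyp (S : Subgroup G) P V l Eh where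
  sup := NoFF.LinesPlug.oddGen_sup h.le (MinSimple.Basic.not_dvd_relIndex S h.le)
  two := S.isPGroup'
  Q_le := o2_le_of_sylow S.isPGroup' (MinSimple.Basic.not_dvd_relIndex S h.le)
  char2 := hc
  comm := comm
  VS := VS
  SV := SV
  VQ := VQ
  gen := h.gen S.isPGroup' (MinSimple.Basic.not_dvd_relIndex S h.le) VS VQ
  acts := acts
  nat := nat

end Par

end Cfsg.Agent.Omega.NOne.NatLem

end

section


/-!
# LEMMA NAT: products of natural `SL₂(F)`-modules

`NatProd F ι V`: coordinates `V = (F²)^ι` such that every element of `SL₂(F)^ι` is induced by an element of `G`.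
For `w : ι → F²`, all `w i ≠ 0`:

* `D.lin w` : `l = ∏ F w_i`;
* `D.Eh w` : `Ê`, the elements inducing an element of `∏ C_{SL₂(F)}(w_i)`;
* `D.tor w` : the group generated by the elements inducing an element of `∏ N_{SL₂(F)}(F w_i)`.

`D.Trans S`: `S` permutes the factors transitively.

* `NatProd.nat` : `[V, R] = C_V(R) = l` for `R ≤ Ê` normalised by `S`, nontrivial on `V`;
* `NatProd.irr` : a subgroup of `V` containing `l`, normalised by `S` and `D.tor w`, is `l` or `V`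
  (`|F| > 2` or `|ι| = 1`);
* `NatProd.card` : `|Ê : C_Ê(V)| ≤ |V : l|`;
* **`NatProd.main`** : LEMMA NAT.
-/

set_option autoImplicit false
set_option linter.unusedSectionVars false

namespace Cfsg.Agent.Omega.NOne.NatProd

open Subgroup Cfsg.Agent.Lib.SL2Mat Cfsg.Agent.Omega.NatPair
open Cfsg.Agent.ZN (o2)
open Cfsg.Agent.MinSimple.VModule
open Cfsg.Agent.Omega.NOne.Frame (norm_mem norm_mem' comm_of_le_centralizer le_centralizer_of_comm)
open scoped commutatorElement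

variable {G : Type*} [Group G] {F : Type*} [Field F]

/-! ### `SL₂(F)` -/

theorem dt_ap' (B : Matrix.SpecialLinearGroup (Fin 2) F) (w x : Fin 2 → F) :
    dt (ap B w) (ap B x) = dt w x := by
  unfold dt
  rw [ap_zero', ap_zero', ap_one', ap_one']
  linear_combination (w 0 * x 1 - w 1 * x 0) * det_eq B

theorem exists_dt {w : Fin 2 → F} (hw : w ≠ 0) : ∃ x, dt w x = 1 := by
  by_cases h0 : w 0 = 0
  · have h1 : w 1 ≠ 0 := fun h1 => hw (ext2 h0 h1)
    refine ⟨![-(w 1)⁻¹, 0], ?_⟩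
    unfold dt
    simp [h1]
  · refine ⟨![0, (w 0)⁻¹], ?_⟩
    unfold dt
    simp [h0]

/-- elements of `SL₂(F)` are given on a basis -/
theorem exists_basis' {w x w' x' : Fin 2 → F} (h : dt w x ≠ 0) (h' : dt w' x' = dt w x) :
    ∃ B : Matrix.SpecialLinearGroup (Fin 2) F, ap B w = w' ∧ ap B x = x' := by
  have h0 : w 0 * x 1 - w 1 * x 0 ≠ 0 := h
  have h0' : w' 0 * x' 1 - w' 1 * x' 0 = w 0 * x 1 - w 1 * x 0 := h'
  refine ⟨mk ((w' 0 * x 1 - x' 0 * w 1) / (w 0 * x 1 - w 1 * x 0))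
    ((x' 0 * w 0 - w' 0 * x 0) / (w 0 * x 1 - w 1 * x 0))
    ((w' 1 * x 1 - x' 1 * w 1) / (w 0 * x 1 - w 1 * x 0))
    ((x' 1 * w 0 - w' 1 * x 0) / (w 0 * x 1 - w 1 * x 0)) ?_, ?_, ?_⟩
  · rw [div_mul_div_comm, div_mul_div_comm, ← sub_div, div_eq_one_iff_eq (mul_ne_zero h0 h0)]
    linear_combination (w 0 * x 1 - w 1 * x 0) * h0'
  · apply ext2
    · rw [ap_zero', mk_00, mk_01, div_mul_eq_mul_div, div_mul_eq_mul_div, ← add_div, div_eq_iff h0]
      ring
    · rw [ap_one', mk_10, mk_11, div_mul_eq_mul_div, div_mul_eq_mul_div, ← add_div, div_eq_iff h0]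
      ring
  · apply ext2
    · rw [ap_zero', mk_00, mk_01, div_mul_eq_mul_div, div_mul_eq_mul_div, ← add_div, div_eq_iff h0]
      ring
    · rw [ap_one', mk_10, mk_11, div_mul_eq_mul_div, div_mul_eq_mul_div, ← add_div, div_eq_iff h0]
      ring

/-- an element of `SL₂(F)` fixing `w ≠ 0` is a transvection -/
theorem exists_transv {w : Fin 2 → F} (hw : w ≠ 0) {B : Matrix.SpecialLinearGroup (Fin 2) F}
    (hB : ap B w = w) : ∃ t : F, ∀ x, ap B x = x + (t * dt w x) • w := by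
  obtain ⟨u, hu⟩ := exists_dt hw
  have h1 : dt w (ap B u - u) = 0 := by
    have h2 := dt_ap' B w u
    rw [hB] at h2
    unfold dt at h2 ⊢
    rw [Pi.sub_apply, Pi.sub_apply]
    linear_combination h2
  obtain ⟨t, ht⟩ := exists_smul_of_dt hw h1
  have ht' : ap B u = u + t • w := by rw [← ht]; abel
  refine ⟨t, fun x => ?_⟩
  obtain ⟨a, b, rfl⟩ := exists_comb (by rw [hu]; exact one_ne_zero : dt w u ≠ 0) x
  have h3 : dt w (a • w + b • u) = b := by
    rw [dt_add, dt_smul, dt_smul, hu]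
    unfold dt; ring
  rw [h3, ap_add, ap_smul, ap_smul, hB, ht', smul_add, smul_smul, mul_comm t b]
  abel

/-! ### Products of natural modules -/

/-- `V = (F²)^ι`, and all elements of `SL₂(F)^ι` are induced by elements of `G`. -/
structure _root_.Cfsg.Agent.Omega.NOne.NatProd (F : Type*) [Field F] (ι : Type*) (V : Subgroup G) where
  e : (ι → Fin 2 → F) → G
  e_add : ∀ x y, e (x + y) = e x * e y
  e_inj : Function.Injective e
  mem_iff : ∀ g, g ∈ V ↔ ∃ x, e x = g
  lift : ∀ A : ι → Matrix.SpecialLinearGroup (Fin 2) F, ∃ g, ∀ x, g * e x * g⁻¹ = e fun i => ap (A i) (x i)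

section Main

variable {ι : Type*} {V : Subgroup G} (D : NatProd F ι V)
include D

/-- `g` acts as `A` -/
def Ind (g : G) (A : ι → Matrix.SpecialLinearGroup (Fin 2) F) : Prop :=
  ∀ x, g * D.e x * g⁻¹ = D.e fun i => ap (A i) (x i)

theorem e_zero : D.e 0 = 1 := by
  have := D.e_add 0 0
  rw [add_zero] at this
  exact left_eq_mul.1 this

theorem e_neg (x : ι → Fin 2 → F) : D.e (-x) = (D.e x)⁻¹ := by
  rw [eq_inv_iff_mul_eq_one, ← D.e_add, neg_add_cancel, D.e_zero]

theorem e_sub (x y : ι → Fin 2 → F) : D.e (x - y) = D.e x * (D.e y)⁻¹ := by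
  rw [sub_eq_add_neg, D.e_add, D.e_neg]

theorem e_mem (x : ι → Fin 2 → F) : D.e x ∈ V := (D.mem_iff _).2 ⟨x, rfl⟩

theorem comm_V : V ≤ centralizer (V : Set G) := by
  refine le_centralizer_of_comm fun a ha b hb => ?_
  obtain ⟨x, rfl⟩ := (D.mem_iff a).1 ha
  obtain ⟨y, rfl⟩ := (D.mem_iff b).1 hb
  rw [← D.e_add, ← D.e_add, add_comm]

variable {D}

theorem Ind.one : D.Ind 1 (fun _ => 1) := fun x => by
  simp only [ap_one]; group

theorem Ind.mul {g h : G} {A B : ι → Matrix.SpecialLinearGroup (Fin 2) F} (hg : D.Ind g A)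
    (hh : D.Ind h B) : D.Ind (g * h) (fun i => A i * B i) := fun x => by
  have e1 : g * h * D.e x * (g * h)⁻¹ = g * (h * D.e x * h⁻¹) * g⁻¹ := by group
  rw [e1, hh, hg]
  simp only [ap_mul]

theorem Ind.inv {g : G} {A : ι → Matrix.SpecialLinearGroup (Fin 2) F} (hg : D.Ind g A) :
    D.Ind g⁻¹ (fun i => (A i)⁻¹) := fun x => by
  have h1 := hg fun i => ap (A i)⁻¹ (x i)
  simp only [ap_ap_inv] at h1
  rw [← h1]; group

theorem Ind.mem_normalizer {g : G} {A : ι → Matrix.SpecialLinearGroup (Fin 2) F} (hg : D.Ind g A) :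
    g ∈ normalizer (V : Set G) := by
  rw [Subgroup.mem_normalizer_iff]
  intro n
  constructor
  · intro hn
    obtain ⟨x, rfl⟩ := (D.mem_iff n).1 hn
    rw [hg]; exact D.e_mem _
  · intro hn
    obtain ⟨x, hx⟩ := (D.mem_iff _).1 hn
    have h1 := hg.inv x
    rw [hx] at h1
    have h2 : g⁻¹ * (g * n * g⁻¹) * g⁻¹⁻¹ = n := by group
    rw [h2] at h1
    rw [h1]; exact D.e_mem _

variable (D)

/-- `l = ∏ F w_i` -/
def lin (w : ι → Fin 2 → F) : Subgroup G where
  carrier := {g | ∃ c : ι → F, D.e (fun i => c i • w i) = g}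
  mul_mem' := by
    rintro _ _ ⟨c, rfl⟩ ⟨d, rfl⟩
    refine ⟨fun i => c i + d i, ?_⟩
    rw [← D.e_add]
    congr 1
    funext i
    rw [add_smul]; rfl
  one_mem' := ⟨fun _ => 0, by
    rw [← D.e_zero]
    congr 1
    funext i
    rw [zero_smul]; rfl⟩
  inv_mem' := by
    rintro _ ⟨c, rfl⟩
    refine ⟨fun i => - c i, ?_⟩
    rw [← D.e_neg]
    congr 1
    funext i
    rw [neg_smul]; rfl

theorem mem_lin {w : ι → Fin 2 → F} {x : ι → Fin 2 → F} :
    D.e x ∈ D.lin w ↔ ∀ i, ∃ c : F, x i = c • w i := by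
  constructor
  · rintro ⟨c, hc⟩ i
    exact ⟨c i, (congrFun (D.e_inj hc) i).symm⟩
  · intro h
    choose c hc using h
    exact ⟨c, congrArg D.e (funext fun i => (hc i).symm)⟩

theorem lin_le (w : ι → Fin 2 → F) : D.lin w ≤ V := by
  rintro _ ⟨c, rfl⟩
  exact D.e_mem _

/-- `Ê` -/
def Eh (w : ι → Fin 2 → F) : Subgroup G where
  carrier := {g | ∃ A, (∀ i, ap (A i) (w i) = w i) ∧ D.Ind g A}
  mul_mem' := by
    rintro g h ⟨A, hA, hg⟩ ⟨B, hB, hh⟩
    exact ⟨_, fun i => by rw [ap_mul, hB, hA], hg.mul hh⟩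
  one_mem' := ⟨_, fun i => ap_one _, Ind.one⟩
  inv_mem' := by
    rintro g ⟨A, hA, hg⟩
    refine ⟨_, fun i => ?_, hg.inv⟩
    have := ap_inv_ap (A i) (w i)
    rwa [hA] at this

/-- the group generated by the elements inducing an element of `∏ N_{SL₂(F)}(F w_i)` -/
def tor (w : ι → Fin 2 → F) : Subgroup G :=
  closure {g | ∃ A, (∀ i, ∃ c : F, c ≠ 0 ∧ ap (A i) (w i) = c • w i) ∧ D.Ind g A}

theorem tor_le (w : ι → Fin 2 → F) : D.tor w ≤ normalizer (V : Set G) := by
  refine (closure_le _).2 ?_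
  rintro g ⟨A, -, hg⟩
  exact hg.mem_normalizer

theorem tor_le_lin (w : ι → Fin 2 → F) : D.tor w ≤ normalizer (D.lin w : Set G) := by
  refine (closure_le _).2 ?_
  have key : ∀ g : G, (∃ A, (∀ i, ∃ c : F, c ≠ 0 ∧ ap (A i) (w i) = c • w i) ∧ D.Ind g A) →
      ∀ x ∈ D.lin w, g * x * g⁻¹ ∈ D.lin w := by
    rintro g ⟨A, hA, hg⟩ _ ⟨c, rfl⟩
    rw [hg, mem_lin]
    intro i
    obtain ⟨d, -, hd⟩ := hA i
    exact ⟨c i * d, by rw [ap_smul, hd, smul_smul]⟩
  rintro g ⟨A, hA, hg⟩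
  refine (Subgroup.mem_normalizer_iff).2 fun x => ⟨key g ⟨A, hA, hg⟩ x, fun hx => ?_⟩
  have h1 := key g⁻¹ ⟨_, fun i => ?_, hg.inv⟩ _ hx
  · have e : g⁻¹ * (g * x * g⁻¹) * g⁻¹⁻¹ = x := by group
    rwa [e] at h1
  · obtain ⟨d, hd0, hd⟩ := hA i
    refine ⟨d⁻¹, inv_ne_zero hd0, ?_⟩
    have h2 := ap_inv_ap (A i) (w i)
    rw [hd, ap_smul] at h2
    exact (eq_inv_smul_iff₀ hd0).2 h2

/-- `S` permutes the factors transitively. -/
def Trans [DecidableEq ι] (S : Subgroup G) : Prop :=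
  ∀ i j, ∃ s ∈ S, ∀ y, ∃ z, s * D.e (Pi.single i y) * s⁻¹ = D.e (Pi.single j z)

variable [DecidableEq ι]

variable {D} in
theorem Ind.single {g : G} {A : ι → Matrix.SpecialLinearGroup (Fin 2) F} (hg : D.Ind g A) (i : ι)
    (y : Fin 2 → F) : g * D.e (Pi.single i y) * g⁻¹ = D.e (Pi.single i (ap (A i) y)) := by
  rw [hg]
  congr 1
  funext j
  by_cases h : j = i
  · subst h
    rw [Pi.single_eq_same, Pi.single_eq_same]
  · rw [Pi.single_eq_of_ne h, Pi.single_eq_of_ne h]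
    apply ext2
    · rw [ap_zero']; simp
    · rw [ap_one']; simp

theorem e_single_sub (i : ι) (x y : Fin 2 → F) :
    D.e (Pi.single i (x - y)) = D.e (Pi.single i x) * (D.e (Pi.single i y))⁻¹ := by
  rw [← D.e_sub, Pi.single_sub]

/-- A subgroup containing all the factors contains `V`. -/
theorem e_mem_of_single [Fintype ι] {U : Subgroup G} {x : ι → Fin 2 → F}
    (h : ∀ i, D.e (Pi.single i (x i)) ∈ U) : D.e x ∈ U := by
  have h1 : x = ∑ i, Pi.single i (x i) := (Finset.univ_sum_single x).symm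
  rw [h1]
  refine Finset.sum_induction (fun i => Pi.single i (x i)) (fun y => D.e y ∈ U) ?_ ?_ fun i _ => h i
  · intro a b ha hb
    rw [D.e_add]
    exact mul_mem ha hb
  · rw [D.e_zero]
    exact one_mem U

variable {D}

/-- **(nat)** -/
theorem nat [Fintype ι] {w : ι → Fin 2 → F} (hw : ∀ i, w i ≠ 0) {S R : Subgroup G} (hT : D.Trans S)
    (hR : R ≤ D.Eh w) (hSR : S ≤ normalizer (R : Set G)) (hne : ¬ R ≤ centralizer (V : Set G)) :
    ⁅V, R⁆ = D.lin w ∧ V ⊓ centralizer (R : Set G) = D.lin w := by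
  -- an element of `R` nontrivial on some factor
  obtain ⟨r, hr, i, y, hy⟩ : ∃ r ∈ R, ∃ i, ∃ y, r * D.e (Pi.single i y) * r⁻¹ ≠ D.e (Pi.single i y) := by
    by_contra hc
    push Not at hc
    refine hne fun r hr => mem_centralizer_iff.2 fun v hv => ?_
    obtain ⟨A, hA, hrA⟩ := hR hr
    obtain ⟨x, rfl⟩ := (D.mem_iff v).1 hv
    have h1 : ∀ i, ap (A i) (x i) = x i := fun i => by
      have h2 := hc r hr i (x i)
      rw [hrA.single] at h2
      have h3 := congrFun (D.e_inj h2) i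
      rwa [Pi.single_eq_same, Pi.single_eq_same] at h3
    have h4 := hrA x
    simp only [h1] at h4
    calc D.e x * r = r * D.e x * r⁻¹ * r := by rw [h4]
      _ = r * D.e x := by group
  -- hence on every factor
  have key : ∀ j, ∃ r ∈ R, ∃ A, (∀ i, ap (A i) (w i) = w i) ∧ D.Ind r A ∧
      ∃ t : F, t ≠ 0 ∧ ∀ x, ap (A j) x = x + (t * dt (w j) x) • w j := by
    intro j
    obtain ⟨s, hs, hsy⟩ := hT i j
    obtain ⟨z, hz⟩ := hsy y
    have hr' : s * r * s⁻¹ ∈ R := norm_mem (hSR hs) hr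
    obtain ⟨A, hA, hrA⟩ := hR hr'
    obtain ⟨t, ht⟩ := exists_transv (hw j) (hA j)
    refine ⟨_, hr', A, hA, hrA, t, ?_, ht⟩
    rintro rfl
    have h1 : ap (A j) z = z := by rw [ht]; simp
    have h2 := hrA.single j z
    rw [h1, ← hz] at h2
    apply hy
    have h3 : s * (r * D.e (Pi.single i y) * r⁻¹) * s⁻¹ = s * D.e (Pi.single i y) * s⁻¹ := by
      rw [← h2]; group
    exact mul_left_cancel (mul_right_cancel h3)
  constructor
  · refine le_antisymm ?_ ?_
    · rw [commutator_le]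
      intro v hv r hr
      obtain ⟨x, rfl⟩ := (D.mem_iff v).1 hv
      obtain ⟨A, hA, hrA⟩ := hR hr
      have e1 : ⁅D.e x, r⁆ = D.e (x - fun i => ap (A i) (x i)) := by
        rw [D.e_sub, ← hrA x, commutatorElement_def]; group
      rw [e1, mem_lin]
      intro i
      obtain ⟨t, ht⟩ := exists_transv (hw i) (hA i)
      refine ⟨-(t * dt (w i) (x i)), ?_⟩
      rw [Pi.sub_apply, ht, neg_smul]
      abel
    · rintro _ ⟨c, rfl⟩
      refine D.e_mem_of_single fun j => ?_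
      obtain ⟨r, hr, A, hA, hrA, t, ht0, ht⟩ := key j
      obtain ⟨u, hu⟩ := exists_dt (hw j)
      have h1 := commutator_mem_commutator (D.e_mem (Pi.single j ((-(c j * t⁻¹)) • u))) hr
      have e1 : ⁅D.e (Pi.single j ((-(c j * t⁻¹)) • u)), r⁆ = D.e (Pi.single j (c j • w j)) := by
        have h2 : c j • w j = (-(c j * t⁻¹)) • u - ap (A j) ((-(c j * t⁻¹)) • u) := by
          rw [ht, dt_smul, hu, mul_one]
          rw [sub_add_eq_sub_sub, sub_self, zero_sub, ← neg_smul]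
          congr 1
          field_simp
        rw [h2, e_single_sub, ← hrA.single j, commutatorElement_def]; group
      rwa [e1] at h1
  · refine le_antisymm ?_ ?_
    · rintro v ⟨hv, hvR⟩
      obtain ⟨x, rfl⟩ := (D.mem_iff v).1 hv
      rw [mem_lin]
      intro j
      obtain ⟨r, hr, A, hA, hrA, t, ht0, ht⟩ := key j
      have h1 := mem_centralizer_iff.1 hvR r hr
      have h2 := hrA x
      rw [h1, mul_inv_cancel_right] at h2
      have h3 : x j = ap (A j) (x j) := congrFun (D.e_inj h2) j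
      rw [ht, left_eq_add, smul_eq_zero, mul_eq_zero] at h3
      exact exists_smul_of_dt (hw j) ((h3.resolve_right (hw j)).resolve_left ht0)
    · refine le_inf (D.lin_le w) ?_
      rintro _ ⟨c, rfl⟩
      refine mem_centralizer_iff.2 fun r hr => ?_
      obtain ⟨A, hA, hrA⟩ := hR hr
      have h1 := hrA fun i => c i • w i
      simp only [ap_smul, hA] at h1
      calc r * D.e (fun i => c i • w i) = r * D.e (fun i => c i • w i) * r⁻¹ * r := by group
        _ = D.e (fun i => c i • w i) * r := by rw [h1]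

/-- **(irr)** -/
theorem irr [Fintype ι] {w : ι → Fin 2 → F} (hw : ∀ i, w i ≠ 0) {S U : Subgroup G} (hT : D.Trans S)
    (hF : (∃ c : F, c ≠ 0 ∧ c ≠ 1) ∨ Subsingleton ι) (hlU : D.lin w ≤ U) (hUV : U ≤ V)
    (hSU : S ≤ normalizer (U : Set G)) (hTU : D.tor w ≤ normalizer (U : Set G)) :
    U = D.lin w ∨ U = V := by
  by_contra hcon
  push Not at hcon
  obtain ⟨hc1, hc2⟩ := hcon
  -- an element outside `l`
  obtain ⟨x, hxU, i, hxi⟩ : ∃ x, D.e x ∈ U ∧ ∃ i, dt (w i) (x i) ≠ 0 := by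
    by_contra hc
    push Not at hc
    refine hc1 (le_antisymm (fun u hu => ?_) hlU)
    obtain ⟨x, rfl⟩ := (D.mem_iff u).1 (hUV hu)
    rw [mem_lin]
    exact fun i => exists_smul_of_dt (hw i) (hc x hu i)
  -- an element of a factor outside `l`
  obtain ⟨u, huU, hu⟩ : ∃ u, D.e (Pi.single i u) ∈ U ∧ dt (w i) u ≠ 0 := by
    rcases hF with ⟨c, hc0, hc1⟩ | hss
    · obtain ⟨B, hB, hB'⟩ := exists_basis' (w := w i) (x := x i) (w' := c⁻¹ • w i) (x' := c • x i) hxi
        (by unfold dt; simp only [Pi.smul_apply, smul_eq_mul]; field_simp)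
      obtain ⟨g, hg⟩ := D.lift (Pi.mulSingle i B)
      have hg' : D.Ind g (Pi.mulSingle i B) := hg
      have hgT : g ∈ D.tor w := by
        refine subset_closure ⟨_, fun j => ?_, hg'⟩
        by_cases hj : j = i
        · subst hj
          exact ⟨c⁻¹, inv_ne_zero hc0, by rw [Pi.mulSingle_eq_same, hB]⟩
        · exact ⟨1, one_ne_zero, by rw [Pi.mulSingle_eq_of_ne hj, ap_one, one_smul]⟩
      have h1 := mul_mem (norm_mem (hTU hgT) hxU) (inv_mem hxU)
      rw [hg', ← D.e_sub] at h1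
      refine ⟨(c - 1) • x i, ?_, ?_⟩
      · convert h1 using 2
        funext j
        by_cases hj : j = i
        · subst hj
          rw [Pi.single_eq_same, Pi.sub_apply, Pi.mulSingle_eq_same, hB', sub_smul, one_smul]
        · rw [Pi.single_eq_of_ne hj, Pi.sub_apply, Pi.mulSingle_eq_of_ne hj, ap_one, sub_self]
      · rw [dt_smul]
        exact mul_ne_zero (sub_ne_zero.2 hc1) hxi
    · refine ⟨x i, ?_, hxi⟩
      convert hxU using 2
      funext j
      obtain rfl : j = i := Subsingleton.elim _ _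
      rw [Pi.single_eq_same]
  -- the factor `i`
  have hi : ∀ y, D.e (Pi.single i y) ∈ U := by
    intro y
    by_cases hy : dt (w i) y = 0
    · refine hlU ((D.mem_lin).2 fun j => ?_)
      by_cases hj : j = i
      · subst hj
        rw [Pi.single_eq_same]
        exact exists_smul_of_dt (hw j) hy
      · exact ⟨0, by rw [Pi.single_eq_of_ne hj, zero_smul]⟩
    · obtain ⟨B, hB, hB'⟩ := exists_basis' (w := w i) (x := u)
        (w' := (dt (w i) u / dt (w i) y) • w i) (x' := y) hu (by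
          have h1 : dt ((dt (w i) u / dt (w i) y) • w i) y = (dt (w i) u / dt (w i) y) * dt (w i) y := by
            simp only [dt, Pi.smul_apply, smul_eq_mul]; ring
          rw [h1, div_mul_cancel₀ _ hy])
      obtain ⟨g, hg⟩ := D.lift (Pi.mulSingle i B)
      have hg' : D.Ind g (Pi.mulSingle i B) := hg
      have hgT : g ∈ D.tor w := by
        refine subset_closure ⟨_, fun j => ?_, hg'⟩
        by_cases hj : j = i
        · subst hj
          exact ⟨_, div_ne_zero hu hy, by rw [Pi.mulSingle_eq_same, hB]⟩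
        · exact ⟨1, one_ne_zero, by rw [Pi.mulSingle_eq_of_ne hj, ap_one, one_smul]⟩
      have h1 := norm_mem (hTU hgT) huU
      rwa [hg'.single, Pi.mulSingle_eq_same, hB'] at h1
  refine hc2 (le_antisymm hUV fun v hv => ?_)
  obtain ⟨x, rfl⟩ := (D.mem_iff v).1 hv
  refine D.e_mem_of_single fun j => ?_
  obtain ⟨s, hs, hsy⟩ := hT j i
  obtain ⟨z, hz⟩ := hsy (x j)
  have h1 := norm_mem' (hSU hs) (hi z)
  rw [← hz] at h1
  have e : s⁻¹ * (s * D.e (Pi.single j (x j)) * s⁻¹) * s = D.e (Pi.single j (x j)) := by group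
  rwa [e] at h1

variable (D)

theorem card_lin [Fintype ι] {w : ι → Fin 2 → F} (hw : ∀ i, w i ≠ 0) :
    Nat.card (D.lin w) = Nat.card (ι → F) := by
  refine (Nat.card_congr (Equiv.ofBijective
    (fun c : ι → F => (⟨D.e (fun i => c i • w i), c, rfl⟩ : D.lin w)) ⟨?_, ?_⟩)).symm
  · intro c d h
    funext i
    exact smul_left_injective F (hw i) (congrFun (D.e_inj (congrArg Subtype.val h)) i)
  · rintro ⟨_, c, rfl⟩
    exact ⟨c, rfl⟩

theorem card_V [Fintype ι] : Nat.card V = Nat.card (ι → F) ^ 2 := by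
  have h1 : Nat.card (ι → Fin 2 → F) = Nat.card V := by
    refine Nat.card_congr (Equiv.ofBijective (fun x => ⟨D.e x, D.e_mem x⟩) ⟨?_, ?_⟩)
    · intro x y h
      exact D.e_inj (congrArg Subtype.val h)
    · rintro ⟨v, hv⟩
      obtain ⟨x, rfl⟩ := (D.mem_iff v).1 hv
      exact ⟨x, rfl⟩
  rw [← h1, Nat.card_fun, Nat.card_fun, Nat.card_fun, ← pow_mul, ← pow_mul, mul_comm]
  simp

/-- `|V : l| = |l|` -/
theorem relIndex_lin [Finite G] [Fintype ι] {w : ι → Fin 2 → F} (hw : ∀ i, w i ≠ 0) :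
    (D.lin w).relIndex V = Nat.card (D.lin w) := by
  have h1 := relIndex_mul_relIndex ⊥ (D.lin w) V bot_le (D.lin_le w)
  rw [relIndex_bot_left, relIndex_bot_left, D.card_V, ← D.card_lin hw, sq] at h1
  exact Nat.eq_of_mul_eq_mul_left Nat.card_pos h1

/-- **(card)** -/
theorem card [Finite G] [Fintype ι] {w : ι → Fin 2 → F} (hw : ∀ i, w i ≠ 0) :
    (D.Eh w ⊓ centralizer (V : Set G)).relIndex (D.Eh w) ≤ (D.lin w).relIndex V := by
  rw [D.relIndex_lin hw, inf_relIndex_left, relIndex, index_eq_card]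
  choose u hu using fun i => exists_dt (hw i)
  have hmem : ∀ g ∈ D.Eh w, g * D.e u * g⁻¹ * (D.e u)⁻¹ ∈ D.lin w := by
    rintro g ⟨A, hA, hg⟩
    rw [hg, ← D.e_sub, mem_lin]
    intro i
    obtain ⟨t, ht⟩ := exists_transv (hw i) (hA i)
    exact ⟨t * dt (w i) (u i), by rw [Pi.sub_apply, ht, add_sub_cancel_left]⟩
  have hinj : ∀ g ∈ D.Eh w, ∀ h ∈ D.Eh w, g * D.e u * g⁻¹ = h * D.e u * h⁻¹ →
      g⁻¹ * h ∈ centralizer (V : Set G) := by
    rintro g ⟨A, hA, hg⟩ h ⟨B, hB, hh⟩ he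
    have h1 : ∀ i x, ap (A i) x = ap (B i) x := by
      intro i x
      rw [hg, hh] at he
      have h2 : ap (A i) (u i) = ap (B i) (u i) := congrFun (D.e_inj he) i
      obtain ⟨t, ht⟩ := exists_transv (hw i) (hA i)
      obtain ⟨s, hs⟩ := exists_transv (hw i) (hB i)
      rw [ht, hs, hu, mul_one, mul_one, add_right_inj] at h2
      rw [ht, hs, smul_left_injective F (hw i) h2]
    refine mem_centralizer_iff.2 fun v hv => ?_
    obtain ⟨x, rfl⟩ := (D.mem_iff v).1 hv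
    have h3 := hg x
    have h4 := hh x
    simp only [h1] at h3
    rw [← h4] at h3
    calc D.e x * (g⁻¹ * h) = g⁻¹ * (g * D.e x * g⁻¹) * h := by group
      _ = g⁻¹ * (h * D.e x * h⁻¹) * h := by rw [h3]
      _ = g⁻¹ * h * D.e x := by group
  refine Nat.card_le_card_of_injective
    (fun q : D.Eh w ⧸ (centralizer (V : Set G)).subgroupOf (D.Eh w) =>
      (⟨_, hmem (Quotient.out q : D.Eh w) (Quotient.out q).2⟩ : D.lin w)) ?_
  intro q q' hq
  have h1 := mul_right_cancel (congrArg Subtype.val hq)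
  have h2 := hinj _ (Quotient.out q).2 _ (Quotient.out q').2 h1
  rw [← QuotientGroup.out_eq' q, ← QuotientGroup.out_eq' q', QuotientGroup.eq, mem_subgroupOf]
  exact h2

variable {D}

/-- The hypothesis of LEMMA NAT for a minimal parabolic `P`. -/
theorem hyp [Finite G] [Fintype ι] (S : Sylow 2 G) {P : Subgroup G}
    (hP : MinSimple.MinParabolic.IsMinPar (S : Subgroup G) P)
    (hc : P ⊓ centralizer (o2 P : Set G) ≤ o2 P) (hVS : V ≤ (S : Subgroup G))
    (hSV : (S : Subgroup G) ≤ normalizer (V : Set G)) (hVQ : ¬ V ≤ o2 P)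
    {w : ι → Fin 2 → F} (hw : ∀ i, w i ≠ 0) (hT : D.Trans (S : Subgroup G))
    (hE : ⁅o2 P, oddGen P⁆ ≤ D.Eh w) :
    NatLem.Hyp (S : Subgroup G) P V (D.lin w) (D.Eh w) :=
  NatLem.Hyp.of_minPar S hP hc D.comm_V hVS hSV hVQ hE fun _ hR hSR hne => nat hw hT hR hSR hne

/-- **LEMMA NAT.** `G` of characteristic 2 type, `S ≤ P` a minimal parabolic, `V` a product of natural
`SL₂(F)`-modules permuted transitively by `S`, `V ≰ O₂(P)`, and `N = [O₂(P), O²(P)]` acts on `V` inside `Ê`.  Then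
`N` is abelian, `C_V(N) = V ∩ O₂(P)` and `|N : C_N(V)| ≤ |V : V ∩ O₂(P)|`. -/
theorem main [Finite G] [Fintype ι] (hG : Cfsg.IsCharacteristicTwoType G) (S : Sylow 2 G) {P : Subgroup G}
    (hP : MinSimple.MinParabolic.IsMinPar (S : Subgroup G) P)
    (hc : P ⊓ centralizer (o2 P : Set G) ≤ o2 P) (hVS : V ≤ (S : Subgroup G))
    (hSV : (S : Subgroup G) ≤ normalizer (V : Set G)) (hVQ : ¬ V ≤ o2 P)
    {w : ι → Fin 2 → F} (hw : ∀ i, w i ≠ 0) (hT : D.Trans (S : Subgroup G))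
    (hF : (∃ c : F, c ≠ 0 ∧ c ≠ 1) ∨ Subsingleton ι)
    (hE : ⁅o2 P, oddGen P⁆ ≤ D.Eh w) :
    NatLem.Out P V (D.lin w) ∧
      (NatLem.N P ⊓ centralizer (V : Set G)).relIndex (NatLem.N P) ≤ (V ⊓ o2 P).relIndex V := by
  have h := hyp S hP hc hVS hSV hVQ hw hT hE
  have hl : IsPGroup 2 (D.lin w) := S.isPGroup'.to_le ((D.lin_le w).trans hVS)
  have h1 := h.not_cent' (T := D.tor w) (MinSimple.Basic.char2_normalizer hG hl h.l_ne_bot)
    (MinPar.le_of_le_normalizer S (o2_isPGroup _) (h.S_norm_l.trans (le_normalizer_o2 _)))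
    (D.tor_le w) (D.tor_le_lin w) fun U h1 h2 h3 h4 => irr hw hT hF h1 h2 h3 h4
  have h2 := h.out h1
  refine ⟨h2, ?_⟩
  rw [h2.VQ]
  exact h.card_le (D.card hw)

end Main

/-! ### One factor -/

section One

variable {V : Subgroup G}

/-- one factor -/
def ofNatMod (M : NatMod F V) : NatProd F Unit V where
  e x := M.e (x ())
  e_add x y := M.e_add _ _
  e_inj x y h := by
    funext i
    exact M.e_inj h
  mem_iff g := by
    rw [M.mem_iff]
    exact ⟨fun ⟨x, hx⟩ => ⟨fun _ => x, hx⟩, fun ⟨x, hx⟩ => ⟨x (), hx⟩⟩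
  lift A := by
    obtain ⟨g, hg⟩ := M.lift (A ())
    exact ⟨g, fun x => hg _⟩

theorem trans_ofNatMod (M : NatMod F V) (S : Subgroup G) : (ofNatMod M).Trans S := by
  rintro ⟨⟩ ⟨⟩
  exact ⟨1, one_mem _, fun y => ⟨y, by group⟩⟩

end One

end Cfsg.Agent.Omega.NOne.NatProd

end

section


/-!
# `M_x` natural for `SL₂(q')`: reduction to `q' = 4` (helper881's text #12858, (1.1), (1.3))

`h : One T V z` (helper391's structure), `D : NatSec F (C_G(z)) (ws V z) ⟨z⟩`: `W_z/⟨z⟩` is the natural module of a normal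
subgroup `SL₂(F)` of `C_G(z)/K_z`, `F` finite of characteristic 2.

* `act_ap` : `W_y` induces transvections with centre `D.π y`, `y ∈ V`;
* `mem_ws_iff` : `W_z ∩ W_y` is the preimage of `F · D.π y`;
* `card_four` : if `4 ≤ |F|` then `|F| = 4`.
-/

set_option autoImplicit false
set_option linter.unusedSectionVars false

namespace Cfsg.Agent.Omega.RuShape.NatA

open Subgroup Cfsg Cfsg.Agent.ZN Cfsg.Agent.MinSimple.Geo Cfsg.Agent.Omega.CaseL
open Cfsg.Agent.Omega.NO3S.TwoOne Cfsg.Agent.Omega.NatPair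
open Cfsg.Agent.Omega.NOne.NatProd (dt_ap' exists_dt exists_basis' exists_transv)

universe u

variable {G : Type u} [Group G] {F : Type*} [Field F]

/-- transvections -/
theorem exists_tv {e : Fin 2 → F} (he : e ≠ 0) (t : F) :
    ∃ B : Matrix.SpecialLinearGroup (Fin 2) F, ap B e = e ∧ ∀ x, ap B x = x + (t * dt e x) • e := by
  obtain ⟨u, hu⟩ := exists_dt he
  have hee : dt e e = 0 := by unfold dt; ring
  obtain ⟨B, hB, hBu⟩ := exists_basis' (w := e) (x := u) (w' := e) (x' := u + t • e)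
    (by rw [hu]; exact one_ne_zero) (by rw [dt_add, dt_smul, hee, mul_zero, add_zero])
  refine ⟨B, hB, ?_⟩
  obtain ⟨t', ht'⟩ := exists_transv he hB
  have h1 := ht' u
  rw [hBu, hu, mul_one] at h1
  have h2 : t • e = t' • e := add_left_cancel h1
  have h3 : t = t' := smul_left_injective F he h2
  rw [h3]; exact ht'

theorem transv_ne {e : Fin 2 → F} (he : e ≠ 0) {B : Matrix.SpecialLinearGroup (Fin 2) F} (hB : ap B e = e)
    (hB1 : B ≠ 1) : ∃ t : F, t ≠ 0 ∧ ∀ x, ap B x = x + (t * dt e x) • e := by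
  obtain ⟨t, ht⟩ := exists_transv he hB
  refine ⟨t, fun e0 => hB1 (ap_inj fun x => ?_), ht⟩
  rw [ht, e0, zero_mul, zero_smul, add_zero, ap_one]

theorem transv_surj {e : Fin 2 → F} (he : e ≠ 0) {B : Matrix.SpecialLinearGroup (Fin 2) F} (hB : ap B e = e)
    (hB1 : B ≠ 1) (c : F) : ∃ x, ap B x = x + c • e := by
  obtain ⟨t, ht, hx⟩ := transv_ne he hB hB1
  obtain ⟨u, hu⟩ := exists_dt he
  refine ⟨(c * t⁻¹) • u, ?_⟩
  rw [hx, dt_smul, hu, mul_one]
  congr 2
  field_simp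

theorem transv_fix {e : Fin 2 → F} (he : e ≠ 0) {B : Matrix.SpecialLinearGroup (Fin 2) F} (hB : ap B e = e)
    (hB1 : B ≠ 1) {x : Fin 2 → F} (hx : ap B x = x) : ∃ c : F, x = c • e := by
  obtain ⟨t, ht, hx'⟩ := transv_ne he hB hB1
  have h1 := hx' x
  rw [hx] at h1
  have h2 : (t * dt e x) • e = 0 := left_eq_add.mp h1
  rcases smul_eq_zero.mp h2 with h3 | h3
  · exact exists_smul_of_dt he ((mul_eq_zero.mp h3).resolve_left ht)
  · exact absurd h3 he

variable [Finite G] {T V : Subgroup G} {z : G}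

/-- the kernel -/
theorem mem_kern_iff' (D : SQ1.FFOne.NatSec F (centralizer ({z} : Set G)) (ws V z) (zpowers z)) {g : G} :
    g ∈ D.kern ↔ g ∈ kq V z := by
  constructor
  · intro hg
    have h1 := (D.mem_kern_iff hg.1).mp hg
    have hg' := inv_mem hg
    have h2 := (D.mem_kern_iff hg'.1).mp hg'
    refine ⟨hg.1, h1, fun w hw => ?_⟩
    have h3 := h2 w hw
    rwa [inv_inv] at h3
  · intro hg
    exact (D.mem_kern_iff hg.1).mpr hg.2.1

section One

variable (h : One T V z) (D : SQ1.FFOne.NatSec F (centralizer ({z} : Set G)) (ws V z) (zpowers z))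

include h

theorem zpz {g : G} : g ∈ zpowers z ↔ g = 1 ∨ g = z := mem_zpowers_iff_of_mul_self h.ln.zz

theorem y_mem {y : G} (hy : y ∈ V) : y ∈ ws V z := h.V_le h.ln.z_mem h.ln.z_ne hy

theorem z_mem_ws : z ∈ ws V z := h.V_le h.ln.z_mem h.ln.z_ne h.ln.z_mem

theorem wy_le {y : G} (hy : y ∈ V) (hy1 : y ≠ 1) : ws V y ≤ centralizer ({z} : Set G) := fun _ ha =>
  h.cent_le_centralizer h.ln.z_mem (h.ws_le_centralizer_V hy hy1 ha)

include D

theorem pi_z : D.π z = 0 := (D.ker z (z_mem_ws h)).mpr (mem_zpowers z)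

theorem pi_ne {w : G} (hw : w ∈ ws V z) (hw1 : w ≠ 1) (hwz : w ≠ z) : D.π w ≠ 0 := by
  rw [Ne, D.ker w hw, zpz h]
  tauto

theorem pi_eq {v w : G} (hv : v ∈ ws V z) (hw : w ∈ ws V z) (e : D.π v = D.π w) : v = w ∨ v = z * w := by
  have h1 := (D.eq_iff hv hw).mp e
  rcases (zpz h).mp h1 with e1 | e1
  · left; exact mul_inv_eq_one.mp e1
  · right; exact mul_inv_eq_iff_eq_mul.mp e1

theorem act_comm {a w : G} (ha : a ∈ centralizer ({z} : Set G)) (hw : w ∈ ws V z) (haw : a * w = w * a) :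
    D.act a (D.π w) = D.π w := by
  rw [D.act_π ha hw, haw, mul_inv_cancel_right]

theorem act_kern {k : G} (hk : k ∈ kq V z) (x : Fin 2 → F) : D.act k x = x :=
  ((mem_kern_iff' D).mpr hk).2 x

/-- `C_G(z)`-conjugates of elements of `W_y` by elements fixing `D.π y` -/
theorem exists_conj {y c a : G} (hy : y ∈ V) (hy1 : y ≠ 1) (hyz : y ≠ z)
    (hc : c ∈ centralizer ({z} : Set G)) (hcy : D.act c (D.π y) = D.π y) (ha : a ∈ ws V y) :
    ∃ b ∈ ws V y, ∀ x, D.act b x = D.act (c * a * c⁻¹) x := by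
  have hyW := y_mem h hy
  have haC := wy_le h hy hy1 ha
  have hcac : c * a * c⁻¹ ∈ centralizer ({z} : Set G) := mul_mem (mul_mem hc haC) (inv_mem hc)
  have h1 : c * a * c⁻¹ ∈ ws V (c * y * c⁻¹) := conj_mem_ws c ha
  rw [D.act_π hc hyW] at hcy
  rcases pi_eq h D (D.Vn c hc y hyW) hyW hcy with e | e
  · rw [e] at h1
    exact ⟨_, h1, fun x => rfl⟩
  · obtain ⟨k, hk, hk1⟩ := h.exists_mover h.ln.z_mem h.ln.z_ne
    have e1 := h.move h.ln.z_mem h.ln.z_ne hy hy1 hyz hk hk1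
    rw [e, ← e1] at h1
    have h2 := conj_mem_ws k⁻¹ h1
    have e2 : k⁻¹ * (k * y * k⁻¹) * k⁻¹⁻¹ = y := by group
    rw [e2, inv_inv] at h2
    refine ⟨_, h2, fun x => ?_⟩
    have hkC := kq_le_centralizer V z hk
    rw [D.act_mul (mul_mem (inv_mem hkC) hcac) hkC, act_kern h D hk, D.act_mul (inv_mem hkC) hcac,
      act_kern h D (inv_mem hk)]

theorem act_ap [Finite F] [CharP F 2] {y a : G} (hy : y ∈ V) (hy1 : y ≠ 1) (hyz : y ≠ z) (ha : a ∈ ws V y) :
    ∃ B, ap B (D.π y) = D.π y ∧ D.Ind a B := by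
  have hyW := y_mem h hy
  have haC := wy_le h hy hy1 ha
  set e := D.π y with he
  have he0 : e ≠ 0 := pi_ne h D hyW hy1 hyz
  have hfix : ∀ b ∈ ws V y, D.act b e = e := fun b hb =>
    act_comm h D (wy_le h hy hy1 hb) hyW (h.V_comm hy (h.ws_le_centralizer_V hy hy1 hb)).symm
  obtain ⟨s, hs⟩ := D.exists_semi haC
  have hs1 : ∀ c, s c = c := by
    by_cases hB : ∃ b ∈ ws V y, ∃ B, ap B e = e ∧ B ≠ 1 ∧ D.Ind b B
    · obtain ⟨b, hb, B, hBe, hB1, hbB⟩ := hB
      have hbC := wy_le h hy hy1 hb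
      intro c
      obtain ⟨x, hx⟩ := transv_surj he0 hBe hB1 c
      obtain ⟨w, hw, rfl⟩ := D.surj x
      have h1 : D.π (b * w * b⁻¹) = D.π w + c • e := by
        rw [← D.act_π hbC hw, (D.ind_iff hbC).mp hbB, hx]
      have hi : b * w * b⁻¹ * w⁻¹ ∈ ws V z := mul_mem (D.Vn b hbC w hw) (inv_mem hw)
      have h2 : D.π (b * w * b⁻¹ * w⁻¹) = c • e := by
        rw [D.map_div (D.Vn b hbC w hw) hw, h1]; abel
      have hiy : b * w * b⁻¹ * w⁻¹ ∈ ws V y :=
        ii_le hy hy1 (h.comm_mem_ii hy hy1 h.ln.z_mem h.ln.z_ne (Ne.symm hyz) hb hw)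
      have h3 := act_comm h D haC hi (h.comm hy hy1 a ha _ hiy)
      rw [h2, hs, hfix a ha] at h3
      exact smul_left_injective F he0 h3
    · push Not at hB
      obtain ⟨u, hu⟩ := exists_dt he0
      have key : ∀ t : F, s t = t * dt e (D.act a u) := by
        intro t
        obtain ⟨Bt, hBte, hBt⟩ := exists_tv he0 t
        obtain ⟨c, hc, hcB⟩ := D.lift Bt
        have hcy : D.act c e = e := by rw [(D.ind_iff hc).mp hcB, hBte]
        obtain ⟨b, hb, hb'⟩ := exists_conj h D hy hy1 hyz hc hcy ha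
        have hbC := wy_le h hy hy1 hb
        obtain ⟨B', hB'⟩ := D.norm a haC c⁻¹ (inv_mem hc) Bt⁻¹ (D.ind_inv hc hcB)
        have hac : a * c⁻¹ * a⁻¹ ∈ centralizer ({z} : Set G) := mul_mem (mul_mem haC (inv_mem hc)) (inv_mem haC)
        have h1 : D.Ind (c * (a * c⁻¹ * a⁻¹)) (Bt * B') := D.ind_mul hc hac hcB hB'
        have hba : b * a⁻¹ ∈ ws V y := mul_mem hb (inv_mem ha)
        have hcac : c * a * c⁻¹ ∈ centralizer ({z} : Set G) := mul_mem (mul_mem hc haC) (inv_mem hc)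
        have h2 : D.Ind (b * a⁻¹) (Bt * B') := by
          rw [D.ind_iff (wy_le h hy hy1 hba)]
          intro x
          rw [← (D.ind_iff (mul_mem hc hac)).mp h1, D.act_mul hbC (inv_mem haC), hb',
            ← D.act_mul hcac (inv_mem haC)]
          congr 1; group
        have h3 : ap (Bt * B') e = e := by
          rw [← (D.ind_iff (wy_le h hy hy1 hba)).mp h2]; exact hfix _ hba
        have h4 : Bt * B' = 1 := by
          by_contra hne
          exact hB _ hba _ h3 hne h2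
        have h5 : ∀ x, D.act c (D.act a x) = D.act a (D.act c x) := by
          intro x
          have h6 : ∀ x, D.act b x = D.act a x := by
            intro x
            have h7 := (D.ind_iff (wy_le h hy hy1 hba)).mp h2 (D.act a x)
            rw [h4, ap_one, D.act_mul hbC (inv_mem haC), D.act_inv_act haC] at h7
            exact h7
          have h8 := hb' (D.act c x)
          rw [h6, D.act_mul (mul_mem hc haC) (inv_mem hc), D.act_inv_act hc, D.act_mul hc haC] at h8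
          exact h8.symm
        have h6 := h5 u
        rw [(D.ind_iff hc).mp hcB, (D.ind_iff hc).mp hcB, hBt, hBt, D.act_add haC, hs, hfix a ha, hu,
          mul_one] at h6
        have h7 := add_left_cancel h6
        exact (smul_left_injective F he0 h7).symm
      have h1 := key 1
      rw [map_one, one_mul] at h1
      intro c
      rw [key c, ← h1, mul_one]
  have hlin : ∀ (c : F) x, D.act a (c • x) = c • D.act a x := fun c x => by rw [hs, hs1]
  obtain ⟨u, hu⟩ := exists_dt he0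
  set κ := dt e (D.act a u) with hκ
  have hdt : ∀ x, dt e (D.act a x) = κ * dt e x := by
    intro x
    obtain ⟨α, β, rfl⟩ := exists_comb (by rw [hu]; exact one_ne_zero : dt e u ≠ 0) x
    have hee : dt e e = 0 := by unfold dt; ring
    rw [D.act_add haC, hlin, hlin, hfix a ha]
    simp only [dt_add, dt_smul, hee, hu, ← hκ]
    ring
  have haa : ∀ x, D.act a (D.act a x) = x := by
    intro x
    rw [← D.act_mul haC haC, h.sq hy hy1 a ha, D.act_one]
  have hκ1 : κ = 1 := by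
    have h1 := hdt (D.act a u)
    rw [haa, hu, ← hκ] at h1
    have h2 : (κ - 1) * (κ - 1) = 0 := by
      have h3 : (2 : F) = 0 := CharTwo.two_eq_zero
      linear_combination (-1 : F) * h1 - (κ - 1) * h3
    exact sub_eq_zero.mp (mul_self_eq_zero.mp h2)
  obtain ⟨B, hB⟩ := exists_of_fix he0 (D.act a) (D.act_add haC) hlin (hfix a ha) (by
    intro x
    refine exists_smul_of_dt he0 ?_
    have h1 : dt e (D.act a x - x) = dt e (D.act a x) - dt e x := by
      unfold dt; simp only [Pi.sub_apply]; ring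
    rw [h1, hdt, hκ1, one_mul, sub_self])
  exact ⟨B, by rw [← hB]; exact hfix a ha, (D.ind_iff haC).mpr hB⟩

/-- `W_y` acts nontrivially on `W_z/⟨z⟩` -/
theorem exists_nk (_ : One T V z)
    (_ : SQ1.FFOne.NatSec F (centralizer ({z} : Set G)) (ws V z) (zpowers z)) {y : G} (hy : y ∈ V)
    (hy1 : y ≠ 1) (hyz : y ≠ z) : ∃ a ∈ ws V y, a ∉ kq V z := by
  by_contra hcon
  push Not at hcon
  exact h.not_comm_z hy hy1 hyz fun a ha w hw => (hcon a ha).2.1 w hw

theorem exists_nk_ap [Finite F] [CharP F 2] {y a : G} (hy : y ∈ V) (hy1 : y ≠ 1) (hyz : y ≠ z)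
    (ha : a ∈ ws V y) (haK : a ∉ kq V z) : ∃ B, ap B (D.π y) = D.π y ∧ B ≠ 1 ∧ D.Ind a B := by
  obtain ⟨B, hB, hBa⟩ := act_ap h D hy hy1 hyz ha
  refine ⟨B, hB, ?_, hBa⟩
  rintro rfl
  exact haK ((mem_kern_iff' D).mp ((D.ind_one_iff (wy_le h hy hy1 ha)).mp hBa))

/-- commutators with an element of `W_y - K_z` -/
theorem exists_cm [Finite F] [CharP F 2] {y a : G} (hy : y ∈ V) (hy1 : y ≠ 1) (hyz : y ≠ z)
    (ha : a ∈ ws V y) (haK : a ∉ kq V z) (c : F) :
    ∃ w ∈ ws V z, D.π (a * w * a⁻¹ * w⁻¹) = c • D.π y := by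
  have haC := wy_le h hy hy1 ha
  obtain ⟨B, hB, hB1, hBa⟩ := exists_nk_ap h D hy hy1 hyz ha haK
  obtain ⟨x, hx⟩ := transv_surj (pi_ne h D (y_mem h hy) hy1 hyz) hB hB1 c
  obtain ⟨w, hw, rfl⟩ := D.surj x
  refine ⟨w, hw, ?_⟩
  rw [D.map_div (D.Vn a haC w hw) hw, ← D.act_π haC hw, (D.ind_iff haC).mp hBa, hx]
  abel

/-- (1.1) `W_z ∩ W_y` is the preimage of `F · D.π y` -/
theorem mem_ws_iff [Finite F] [CharP F 2] {y w : G} (hy : y ∈ V) (hy1 : y ≠ 1) (hyz : y ≠ z)
    (hw : w ∈ ws V z) : w ∈ ws V y ↔ ∃ c : F, D.π w = c • D.π y := by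
  obtain ⟨a, ha, haK⟩ := exists_nk h D h D hy hy1 hyz
  have haC := wy_le h hy hy1 ha
  constructor
  · intro hwy
    obtain ⟨B, hB, hB1, hBa⟩ := exists_nk_ap h D hy hy1 hyz ha haK
    have h1 := act_comm h D haC hw (h.comm hy hy1 a ha w hwy)
    rw [(D.ind_iff haC).mp hBa] at h1
    exact transv_fix (pi_ne h D (y_mem h hy) hy1 hyz) hB hB1 h1
  · rintro ⟨c, hc⟩
    obtain ⟨v, hv, hcv⟩ := exists_cm h D hy hy1 hyz ha haK c
    have hi := h.comm_mem_ii hy hy1 h.ln.z_mem h.ln.z_ne (Ne.symm hyz) ha hv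
    rcases pi_eq h D hw (ii_le h.ln.z_mem h.ln.z_ne hi) (by rw [hc, hcv]) with e | e
    · rw [e]; exact ii_le hy hy1 hi
    · rw [e]; exact mul_mem (h.V_le hy hy1 h.ln.z_mem) (ii_le hy hy1 hi)

theorem fix_mem [Finite F] [CharP F 2] {y a w : G} (hy : y ∈ V) (hy1 : y ≠ 1) (hyz : y ≠ z)
    (ha : a ∈ ws V y) (haK : a ∉ kq V z) (hw : w ∈ ws V z) (hc : a * w * a⁻¹ * w⁻¹ ∈ zpowers z) :
    w ∈ ws V y := by
  have haC := wy_le h hy hy1 ha
  rw [mem_ws_iff h D hy hy1 hyz hw]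
  obtain ⟨B, hB, hB1, hBa⟩ := exists_nk_ap h D hy hy1 hyz ha haK
  refine transv_fix (pi_ne h D (y_mem h hy) hy1 hyz) hB hB1 ?_
  rw [← (D.ind_iff haC).mp hBa, D.act_π haC hw, D.eq_iff (D.Vn a haC w hw) hw]
  exact hc

/-- an element of `K_y ∩ C_G(V)` acting as `c ↦ c + 1` -/
theorem exists_frob [Finite F] [CharP F 2] {y : G} (hy : y ∈ V) (hy1 : y ≠ 1) (hyz : y ≠ z) {c : F}
    (hc0 : c ≠ 0) (hc1 : c ≠ 1) {u : G} (hu : u ∈ ws V z) (huc : D.π u = c • D.π y) :
    ∃ k ∈ kq V y, k ∈ centralizer (V : Set G) ∧ k * u * k⁻¹ = y * u := by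
  have he0 := pi_ne h D (y_mem h hy) hy1 hyz
  have huy := (mem_ws_iff h D hy hy1 hyz hu).mpr ⟨c, huc⟩
  have hui := h.mem_ii hy hy1 h.ln.z_mem h.ln.z_ne (Ne.symm hyz) huy hu
  refine h.fu hui ?_ hy hy1
  intro huV
  rcases h.ln.four h.ln.z_mem hy h.ln.z_ne hy1 (Ne.symm hyz) huV with e | e | e | e
  · rw [e, D.map_one] at huc
    rcases smul_eq_zero.mp huc.symm with e1 | e1
    · exact hc0 e1
    · exact he0 e1
  · rw [e, pi_z h D] at huc
    rcases smul_eq_zero.mp huc.symm with e1 | e1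
    · exact hc0 e1
    · exact he0 e1
  · rw [e] at huc
    have h1 : (1 : F) • D.π y = c • D.π y := by rw [one_smul]; exact huc
    exact hc1 (smul_left_injective F he0 h1).symm
  · rw [e, D.map_mul z (z_mem_ws h) y (y_mem h hy), pi_z h D, zero_add] at huc
    have h1 : (1 : F) • D.π y = c • D.π y := by rw [one_smul]; exact huc
    exact hc1 (smul_left_injective F he0 h1).symm

/-- (1.3) -/
theorem field_four [Finite F] [CharP F 2] {y : G} (hy : y ∈ V) (hy1 : y ≠ 1) (hyz : y ≠ z) {c : F}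
    (hc0 : c ≠ 0) (hc1 : c ≠ 1) (d : F) : d = 0 ∨ d = 1 ∨ d = c ∨ d = c + 1 := by
  have he0 := pi_ne h D (y_mem h hy) hy1 hyz
  have hyW := y_mem h hy
  obtain ⟨u, hu, huc⟩ := D.surj (c • D.π y)
  obtain ⟨k, hk, hkV, hku⟩ := exists_frob h D hy hy1 hyz hc0 hc1 hu huc
  have hkC := h.cent_le_centralizer h.ln.z_mem hkV
  obtain ⟨s, hs⟩ := D.exists_semi hkC
  have hke : D.act k (D.π y) = D.π y := act_comm h D hkC hyW (h.V_comm hy hkV).symm
  have h1 : s c = c + 1 := by
    have h2 := D.act_π hkC hu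
    rw [huc, hs, hke, hku, D.map_mul y hyW u hu, huc] at h2
    have h3 : s c • D.π y = (c + 1) • D.π y := by rw [h2, add_smul, one_smul, add_comm]
    exact smul_left_injective F he0 h3
  have h2 : ∀ d : F, s d = d ∨ s d = d + 1 := by
    intro d
    obtain ⟨w, hw, hwd⟩ := D.surj (d • D.π y)
    have hwy := (mem_ws_iff h D hy hy1 hyz hw).mpr ⟨d, hwd⟩
    have h3 := D.act_π hkC hw
    rw [hwd, hs, hke] at h3
    rcases h.kq_cases hy hk hwy with e | e
    · left
      rw [e, hwd] at h3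
      exact smul_left_injective F he0 h3
    · right
      rw [e, D.map_mul y hyW w hw, hwd] at h3
      have h4 : s d • D.π y = (d + 1) • D.π y := by rw [h3, add_smul, one_smul, add_comm]
      exact smul_left_injective F he0 h4
  have h2' : (2 : F) = 0 := CharTwo.two_eq_zero
  rcases h2 d with e | e
  · have h3 : s (c * d) = c * d + d := by rw [map_mul, h1, e]; ring
    rcases h2 (c * d) with e1 | e1
    · left
      rw [e1] at h3
      exact left_eq_add.mp h3
    · right; left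
      rw [e1] at h3
      exact (add_left_cancel h3).symm
  · have h3 : s (c * d) = c * d + (c + d + 1) := by rw [map_mul, h1, e]; ring
    rcases h2 (c * d) with e1 | e1
    · right; right; right
      rw [e1] at h3
      have h4 := left_eq_add.mp h3
      linear_combination h4 - (c + 1) * h2'
    · right; right; left
      rw [e1] at h3
      have h4 := add_left_cancel h3
      linear_combination (-1 : F) * h4 - c * h2'

/-- exchange of `z` and `y` -/
theorem exists_swap (_ : SQ1.FFOne.NatSec F (centralizer ({z} : Set G)) (ws V z) (zpowers z)) {y : G}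
    (hy : y ∈ V) (hy1 : y ≠ 1) (hyz : y ≠ z) :
    ∃ k : G, k * z * k⁻¹ = y ∧ k * y * k⁻¹ = z := by
  have hz := h.ln.z_mem
  have hz1 := h.ln.z_ne
  have hr : z * y ∈ V := mul_mem hz hy
  have hr1 : z * y ≠ 1 := h.mul_ne_one hy (Ne.symm hyz)
  have hrz : z ≠ z * y := fun e => hy1 (by simpa using e.symm)
  have hry : y ≠ z * y := fun e => hz1 (by simpa using e.symm)
  obtain ⟨k, hk, hk1⟩ := h.exists_mover hr hr1
  refine ⟨k, ?_, ?_⟩
  · rw [h.move hr hr1 hz hz1 hrz hk hk1, h.ln.comm hz hy, mul_assoc, h.ln.zz, mul_one]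
  · rw [h.move hr hr1 hy hy1 hry hk hk1, mul_assoc, h.ln.sq y hy, mul_one]

/-- `fix_mem` with `z` and `y` exchanged -/
theorem fix_mem' [Finite F] [CharP F 2] {y a w : G} (hy : y ∈ V) (hy1 : y ≠ 1) (hyz : y ≠ z)
    (hw : w ∈ ws V z) (hwK : w ∉ kq V y) (ha : a ∈ ws V y) (hc : a * w * a⁻¹ * w⁻¹ ∈ zpowers y) :
    a ∈ ws V z := by
  obtain ⟨k, hkz, hky⟩ := exists_swap h D D hy hy1 hyz
  have h1 : k * w * k⁻¹ ∈ ws V y := by rw [← hkz]; exact conj_mem_ws k hw
  have h2 : k * a * k⁻¹ ∈ ws V z := by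
    have := conj_mem_ws k ha
    rwa [hky] at this
  have h3 : k * w * k⁻¹ ∉ kq V z := by
    intro e
    apply hwK
    have e1 := conj_mem_kq k⁻¹ e
    have e2 : k⁻¹ * (k * w * k⁻¹) * k⁻¹⁻¹ = w := by group
    have e3 : k⁻¹ * z * k⁻¹⁻¹ = y := by rw [← hky]; group
    rwa [e2, e3] at e1
  have h4 : k * w * k⁻¹ * (k * a * k⁻¹) * (k * w * k⁻¹)⁻¹ * (k * a * k⁻¹)⁻¹ ∈ zpowers z := by
    have e1 : k * w * k⁻¹ * (k * a * k⁻¹) * (k * w * k⁻¹)⁻¹ * (k * a * k⁻¹)⁻¹ =
        k * (a * w * a⁻¹ * w⁻¹)⁻¹ * k⁻¹ := by group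
    rw [e1, (zpz h)]
    rcases (mem_zpowers_iff_of_mul_self (h.ln.sq y hy)).mp hc with e | e
    · left; rw [e]; group
    · right; rw [e, h.ln.inv_eq hy, hky]
  have h5 := fix_mem h D hy hy1 hyz h1 h3 h2 h4
  have h6 := conj_mem_ws k⁻¹ h5
  have e2 : k⁻¹ * (k * a * k⁻¹) * k⁻¹⁻¹ = a := by group
  have e3 : k⁻¹ * y * k⁻¹⁻¹ = z := by rw [← hkz]; group
  rwa [e2, e3] at h6

theorem ws_le_kq {p : G} (hp : p ∈ V) (hp1 : p ≠ 1) : ws V p ≤ kq V p := by
  intro a ha
  have haC : a ∈ centralizer ({p} : Set G) :=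
    h.cent_le_centralizer hp (h.ws_le_centralizer_V hp hp1 ha)
  refine ⟨haC, fun w hw => ?_, fun w hw => ?_⟩
  · rw [h.comm hp hp1 a ha w hw, mul_inv_cancel_right, mul_inv_cancel]; exact one_mem _
  · have : a⁻¹ * w * a = w := by rw [mul_assoc, ← h.comm hp hp1 a ha w hw, inv_mul_cancel_left]
    rw [this, mul_inv_cancel]; exact one_mem _

/-- (1.4): `W_z ∩ K_y` is not contained in `W_y` -/
theorem exists_ek [Finite F] [CharP F 2] (h4 : ∃ c : F, c ≠ 0 ∧ c ≠ 1) {y : G} (hy : y ∈ V) (hy1 : y ≠ 1)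
    (hyz : y ≠ z) : ∃ w ∈ ws V z, w ∈ kq V y ∧ w ∉ ws V y := by
  by_contra hcon
  push Not at hcon
  have he0 := pi_ne h D (y_mem h hy) hy1 hyz
  have hyW := y_mem h hy
  obtain ⟨c, hc0, hc1⟩ := h4
  obtain ⟨a, ha, haK⟩ := exists_nk h D h D hy hy1 hyz
  obtain ⟨w, hw, hwc⟩ := exists_cm h D hy hy1 hyz ha haK c
  set i := a * w * a⁻¹ * w⁻¹ with hi
  have hii := h.comm_mem_ii hy hy1 h.ln.z_mem h.ln.z_ne (Ne.symm hyz) ha hw
  have hiz : i ∈ ws V z := ii_le h.ln.z_mem h.ln.z_ne hii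
  obtain ⟨k, hk, hkV, hki⟩ := exists_frob h D hy hy1 hyz hc0 hc1 hiz hwc
  have hkC := h.cent_le_centralizer h.ln.z_mem hkV
  set w₁ := k * w * k⁻¹ with hw₁
  have hw₁z : w₁ ∈ ws V z := D.Vn k hkC w hw
  -- `[a, w₁] = y i`
  have hyc : ∀ v ∈ ws V z, y * v = v * y := fun v hv => h.comm h.ln.z_mem h.ln.z_ne y hyW v hv
  have h1 : a * w₁ * a⁻¹ * w₁⁻¹ = y * i := by
    have e1 : k * i * k⁻¹ = (k * a * k⁻¹) * w₁ * (k * a * k⁻¹)⁻¹ * w₁⁻¹ := by rw [hi, hw₁]; group
    rw [← hki, e1]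
    rcases h.kq_cases hy hk ha with e | e
    · rw [e]
    · rw [e]
      have hawy : a * w₁ * a⁻¹ ∈ ws V z := D.Vn a (wy_le h hy hy1 ha) _ hw₁z
      have e2 : y * (a * w₁ * a⁻¹) * y⁻¹ = a * w₁ * a⁻¹ := by rw [hyc _ hawy, mul_inv_cancel_right]
      calc a * w₁ * a⁻¹ * w₁⁻¹ = (y * (a * w₁ * a⁻¹) * y⁻¹) * w₁⁻¹ := by rw [e2]
        _ = y * a * w₁ * (y * a)⁻¹ * w₁⁻¹ := by group
  -- `[a, w₁ w⁻¹] = y`
  have hcomm : ∀ v ∈ ws V z, ∀ v' ∈ ws V z, v * v' = v' * v := h.comm h.ln.z_mem h.ln.z_ne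
  have haw₁ : a * w₁ * a⁻¹ ∈ ws V z := D.Vn a (wy_le h hy hy1 ha) _ hw₁z
  have haw : a * w * a⁻¹ ∈ ws V z := D.Vn a (wy_le h hy hy1 ha) _ hw
  have h2 : a * (w₁ * w⁻¹) * a⁻¹ * (w₁ * w⁻¹)⁻¹ = y := by
    have e1 : a * w₁ * a⁻¹ = y * i * w₁ := by rw [← h1]; group
    have e2 : a * w * a⁻¹ = i * w := by rw [hi]; group
    have e3 : w₁ * w⁻¹ = w⁻¹ * w₁ := hcomm _ hw₁z _ (inv_mem hw)
    calc a * (w₁ * w⁻¹) * a⁻¹ * (w₁ * w⁻¹)⁻¹ = (a * w₁ * a⁻¹) * (a * w * a⁻¹)⁻¹ * (w₁ * w⁻¹)⁻¹ := by group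
      _ = y * i * w₁ * (i * w)⁻¹ * (w₁ * w⁻¹)⁻¹ := by rw [e1, e2]
      _ = y * i * (w₁ * w⁻¹) * i⁻¹ * (w₁ * w⁻¹)⁻¹ := by group
      _ = y * (i * (w₁ * w⁻¹)) * i⁻¹ * (w₁ * w⁻¹)⁻¹ := by group
      _ = y * ((w₁ * w⁻¹) * i) * i⁻¹ * (w₁ * w⁻¹)⁻¹ := by
          rw [hcomm i hiz _ (mul_mem hw₁z (inv_mem hw))]
      _ = y := by group
  have hww : w₁ * w⁻¹ ∈ ws V z := mul_mem hw₁z (inv_mem hw)
  by_cases hK : w₁ * w⁻¹ ∈ kq V y
  · have h3 := hcon _ hww hK
    rw [h.comm hy hy1 a ha _ h3, mul_inv_cancel_right, mul_inv_cancel] at h2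
    exact hy1 h2.symm
  · have h3 := fix_mem' h D hy hy1 hyz hww hK ha (by rw [h2]; exact mem_zpowers y)
    exact haK (ws_le_kq h D h.ln.z_mem h.ln.z_ne h3)

end One

end Cfsg.Agent.Omega.RuShape.NatA

end

section


/-!
# `M_x` natural for `SL₂(q')`: the Ru shape (helper881's text #12858, end of section 1)

`h : One T V z`, `D : NatSec F (C_G(z)) (ws V z) ⟨z⟩`, `4 ≤ |F|`:

* `scalar_one` : no element of `C_G(z)` acts as a scalar `≠ 1`;
* `exists_loc` : `∃ ρ, Loc (ws V z) z ρ`.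
-/

set_option autoImplicit false
set_option linter.unusedSectionVars false

namespace Cfsg.Agent.Omega.RuShape.NatB

open Subgroup Cfsg Cfsg.Agent.ZN Cfsg.Agent.MinSimple.Geo Cfsg.Agent.Omega.CaseL
open Cfsg.Agent.Omega.NO3S.TwoOne Cfsg.Agent.Omega.NatPair Cfsg.Agent.Omega.RuShape.NatA
open Cfsg.Agent.Omega.NOne.NatProd (dt_ap' exists_dt exists_basis' exists_transv)
open Cfsg.Agent.OddCyclic.GamPerm Cfsg.Agent.OddCyclic.GamLoc

universe u

/-! ### `S₅` -/

theorem s5_k4 : ∀ m : Fin 5, ∀ g : S5, g m = m → g * g = 1 → (∀ j, j ≠ m → g j ≠ j) → K4 m g := by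
  decide +kernel

theorem s5_k4_eq : ∀ m : Fin 5, ∀ g : S5, K4 m g → ∀ h : S5, K4 m h → ∀ j, j ≠ m → g j = h j → g = h := by
  decide +kernel

theorem s5_k4_move : ∀ m : Fin 5, ∀ g : S5, K4 m g → g ≠ 1 → ∀ j, j ≠ m → g j ≠ j ∧ g j ≠ m := by
  decide +kernel

theorem s5_gen : ∀ g : S5, Equiv.Perm.sign g = 1 → ∃ m : Fin 5, ∃ a : S5, K4 m a ∧ ∃ n : Fin 5, K4 n (a⁻¹ * g) := by
  decide +kernel

/-! ### the five lines -/

section Lines

variable {F : Type*} [Field F]

theorem exists_ln [Finite F] (hF : Nat.card F = 4) : ∃ ln : (Fin 2 → F) → Fin 5,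
    (∀ x x', x ≠ 0 → x' ≠ 0 → (ln x = ln x' ↔ ∃ c : F, x' = c • x)) ∧ ∀ i, ∃ x, x ≠ 0 ∧ ln x = i := by
  classical
  have h1 : Nat.card (Projectivization F (Fin 2 → F)) = 5 := by
    rw [Projectivization.card_of_finrank_two F (Fin 2 → F) (by simp), hF]
  have hfin : Finite (Projectivization F (Fin 2 → F)) := Nat.finite_of_card_ne_zero (by rw [h1]; norm_num)
  have e : Projectivization F (Fin 2 → F) ≃ Fin 5 := Finite.equivFinOfCardEq h1
  refine ⟨fun x => if hx : x ≠ 0 then e (Projectivization.mk F x hx) else 0, ?_, ?_⟩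
  · intro x x' hx hx'
    beta_reduce
    rw [dif_pos hx, dif_pos hx', e.injective.eq_iff, eq_comm, Projectivization.mk_eq_mk_iff']
    constructor
    · rintro ⟨c, hc⟩
      exact ⟨c, hc.symm⟩
    · rintro ⟨c, hc⟩
      exact ⟨c, hc.symm⟩
  · intro i
    obtain ⟨p, hp⟩ := e.surjective i
    refine ⟨p.rep, p.rep_nonzero, ?_⟩
    beta_reduce
    rw [dif_pos p.rep_nonzero, Projectivization.mk_rep, hp]

end Lines

variable {G : Type u} [Group G] {F : Type*} [Field F]

variable [Finite G] {T V : Subgroup G} {z : G}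

section One

variable (h : One T V z) (D : SQ1.FFOne.NatSec F (centralizer ({z} : Set G)) (ws V z) (zpowers z))

include h D

theorem kq_mul {y w : G} (hy : y ∈ V) (hy1 : y ≠ 1) (hyz : y ≠ z) (hw : w ∈ ws V z)
    (hwK : w ∈ kq V (z * y)) : w ∈ kq V y := by
  obtain ⟨k, hk, hk1⟩ := h.exists_mover h.ln.z_mem h.ln.z_ne
  have e1 := h.move h.ln.z_mem h.ln.z_ne hy hy1 hyz hk hk1
  have h1 := conj_mem_kq k⁻¹ hwK
  have e2 : k⁻¹ * (z * y) * k⁻¹⁻¹ = y := by rw [← e1]; group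
  rw [e2] at h1
  rcases h.kq_cases h.ln.z_mem (inv_mem hk) hw with e | e
  · rwa [e] at h1
  · rw [e] at h1
    have hzK : z ∈ kq V y := ws_le_kq h D hy hy1 (h.V_le hy hy1 h.ln.z_mem)
    exact (Subgroup.mul_mem_cancel_left _ hzK).mp h1

/-- (1.5): scalars -/
theorem scalar_one [Finite F] [CharP F 2] {y : G} (hy : y ∈ V) (hy1 : y ≠ 1) (hyz : y ≠ z) {m : G}
    (hm : m ∈ centralizer ({z} : Set G)) {ω : F} (hω : ∀ x, D.act m x = ω • x) : ω = 1 := by
  by_contra hω1
  have hyW := y_mem h hy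
  have hzz := z_mem_ws h
  set e := D.π y with he
  have he0 : e ≠ 0 := pi_ne h D hyW hy1 hyz
  have hω0 : ω ≠ 0 := by
    intro e0
    have h1 := D.act_inv_act hm e
    rw [hω, e0, zero_smul, D.act_zero (inv_mem hm)] at h1
    exact he0 h1.symm
  have h2' : (2 : F) = 0 := CharTwo.two_eq_zero
  have hωω : ω * ω = ω + 1 := by
    rcases field_four h D hy hy1 hyz hω0 hω1 (ω * ω) with e1 | e1 | e1 | e1
    · exact absurd (mul_self_eq_zero.mp e1) hω0
    · exfalso
      apply hω1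
      have h3 : (ω - 1) * (ω - 1) = 0 := by linear_combination e1 - (ω - 1) * h2'
      exact sub_eq_zero.mp (mul_self_eq_zero.mp h3)
    · exfalso
      apply hω1
      exact mul_left_cancel₀ hω0 (by rw [e1, mul_one])
    · exact e1
  have hω3 : ω * ω * ω = 1 := by rw [hωω]; linear_combination hωω + ω * h2'
  obtain ⟨u, hu⟩ := exists_dt he0
  have hee : dt e e = 0 := by unfold dt; ring
  obtain ⟨B, hBe, hBu⟩ := exists_basis' (w := e) (x := u) (w' := ω⁻¹ • e) (x' := ω • u)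
    (by rw [hu]; exact one_ne_zero) (by
      have h3 : dt (ω⁻¹ • e) (ω • u) = ω⁻¹ * (ω * dt e u) := by
        unfold dt; simp only [Pi.smul_apply, smul_eq_mul]; ring
      rw [h3, hu, mul_one, inv_mul_cancel₀ hω0])
  obtain ⟨d, hd, hdB⟩ := D.lift B
  set n := m * d with hn
  have hnC : n ∈ centralizer ({z} : Set G) := mul_mem hm hd
  have hnx : ∀ x, D.act n x = ω • ap B x := fun x => by
    rw [hn, D.act_mul hm hd, (D.ind_iff hd).mp hdB, hω]
  have hne : D.act n e = e := by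
    rw [hnx, hBe, smul_smul, mul_inv_cancel₀ hω0, one_smul]
  have hndt : ∀ x, dt e (D.act n x) = ω * ω * dt e x := by
    intro x
    obtain ⟨α, β, rfl⟩ := exists_comb (by rw [hu]; exact one_ne_zero : dt e u ≠ 0) x
    rw [hnx, ap_add, ap_smul, ap_smul, hBe, hBu]
    simp only [dt_add, dt_smul, hee, hu]
    ring
  -- conjugation by `n` preserves `W_z ∩ K_y`
  have hnE : ∀ v ∈ ws V z, v ∈ kq V y → n * v * n⁻¹ ∈ ws V z ∧ n * v * n⁻¹ ∈ kq V y := by
    intro v hv hvK
    refine ⟨D.Vn n hnC v hv, ?_⟩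
    have h1 := conj_mem_kq n hvK
    have h2 : D.π (n * y * n⁻¹) = D.π y := by rw [← D.act_π hnC hyW]; exact hne
    rcases pi_eq h D (D.Vn n hnC y hyW) hyW h2 with e1 | e1
    · rwa [e1] at h1
    · rw [e1] at h1
      exact kq_mul h D hy hy1 hyz (D.Vn n hnC v hv) h1
  have hndt' : ∀ v ∈ ws V z, dt e (D.π (n * v * n⁻¹)) = ω * ω * dt e (D.π v) := fun v hv => by
    rw [← D.act_π hnC hv, hndt]
  obtain ⟨w₀, hw₀, hw₀K, hw₀y⟩ := exists_ek h D ⟨ω, hω0, hω1⟩ hy hy1 hyz
  set δ := dt e (D.π w₀) with hδ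
  have hδ0 : δ ≠ 0 := by
    intro e1
    exact hw₀y ((mem_ws_iff h D hy hy1 hyz hw₀).mpr (exists_smul_of_dt he0 e1))
  -- `w₁ ∈ W_z - K_y`
  obtain ⟨a, ha, haK⟩ := exists_nk h D h D hy hy1 hyz
  obtain ⟨k, hkz, hky⟩ := exists_swap h D D hy hy1 hyz
  have hw₁ : k * a * k⁻¹ ∈ ws V z := by
    have := conj_mem_ws k ha
    rwa [hky] at this
  have hw₁K : k * a * k⁻¹ ∉ kq V y := by
    intro e1
    apply haK
    have e2 := conj_mem_kq k⁻¹ e1
    have e3 : k⁻¹ * (k * a * k⁻¹) * k⁻¹⁻¹ = a := by group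
    have e4 : k⁻¹ * y * k⁻¹⁻¹ = z := by rw [← hkz]; group
    rwa [e3, e4] at e2
  set w₁ := k * a * k⁻¹ with hw₁d
  have hall : ∀ v ∈ ws V z, v ∈ kq V y → dt e (D.π w₁) = dt e (D.π v) → False := by
    intro v hv hvK hvd
    apply hw₁K
    have h1 : w₁ * v⁻¹ ∈ ws V y := by
      rw [mem_ws_iff h D hy hy1 hyz (mul_mem hw₁ (inv_mem hv))]
      refine exists_smul_of_dt he0 ?_
      have h3 : dt e (D.π w₁ - D.π v) = dt e (D.π w₁) - dt e (D.π v) := by
        unfold dt; simp only [Pi.sub_apply]; ring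
      rw [D.map_div hw₁ hv, h3, hvd, sub_self]
    have h2 := mul_mem (ws_le_kq h D hy hy1 h1) hvK
    rwa [inv_mul_cancel_right] at h2
  have hq := hnE w₀ hw₀ hw₀K
  have hq2 := hnE _ hq.1 hq.2
  rcases field_four h D hy hy1 hyz hω0 hω1 (dt e (D.π w₁) / δ) with e1 | e1 | e1 | e1
  · rw [div_eq_zero_iff] at e1
    have e2 := e1.resolve_right hδ0
    refine hall 1 (one_mem _) (one_mem _) ?_
    rw [e2, D.map_one]
    unfold dt; simp
  · rw [div_eq_one_iff_eq hδ0] at e1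
    exact hall w₀ hw₀ hw₀K e1
  · rw [div_eq_iff hδ0] at e1
    refine hall _ hq2.1 hq2.2 ?_
    rw [e1, hndt' _ hq.1, hndt' _ hw₀, ← hδ]
    linear_combination (-ω * δ) * hω3
  · rw [div_eq_iff hδ0] at e1
    refine hall _ hq.1 hq.2 ?_
    rw [e1, hndt' _ hw₀, ← hδ, hωω]

/-- `|F| = 4` -/
theorem card_eq_four [Finite F] [CharP F 2] {y : G} (hy : y ∈ V) (hy1 : y ≠ 1) (hyz : y ≠ z)
    (h4 : 4 ≤ Nat.card F) : Nat.card F = 4 ∧ ∃ c : F, c ≠ 0 ∧ c ≠ 1 := by
  classical
  have hex : ∃ c : F, c ≠ 0 ∧ c ≠ 1 := by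
    by_contra hcon
    push Not at hcon
    have h1 : Nat.card F ≤ 2 := by
      have h2 : Function.Surjective (![0, 1] : Fin 2 → F) := by
        intro c
        by_cases hc : c = 0
        · exact ⟨0, by rw [hc]; rfl⟩
        · exact ⟨1, by rw [hcon c hc]; rfl⟩
      have h3 := Nat.card_le_card_of_surjective _ h2
      rwa [Nat.card_fin] at h3
    omega
  refine ⟨le_antisymm ?_ h4, hex⟩
  obtain ⟨c, hc0, hc1⟩ := hex
  have h2 : Function.Surjective (![0, 1, c, c + 1] : Fin 4 → F) := by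
    intro d
    rcases field_four h D hy hy1 hyz hc0 hc1 d with e | e | e | e
    · exact ⟨0, by rw [e]; rfl⟩
    · exact ⟨1, by rw [e]; rfl⟩
    · exact ⟨2, by rw [e]; rfl⟩
    · exact ⟨3, by rw [e]; rfl⟩
  have h3 := Nat.card_le_card_of_surjective _ h2
  rwa [Nat.card_fin] at h3

omit h in
/-- the action on the five lines -/
theorem exists_rho [Finite F] {ln : (Fin 2 → F) → Fin 5}
    (hl : ∀ x x', x ≠ 0 → x' ≠ 0 → (ln x = ln x' ↔ ∃ c : F, x' = c • x)) (hs : ∀ i, ∃ x, x ≠ 0 ∧ ln x = i) :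
    ∃ ρ : centralizer ({z} : Set G) →* S5, ∀ (c : centralizer ({z} : Set G)) (x : Fin 2 → F), x ≠ 0 →
      ρ c (ln x) = ln (D.act c x) := by
  choose r hr0 hr using hs
  have hne : ∀ (c : centralizer ({z} : Set G)) (x : Fin 2 → F), x ≠ 0 → D.act c x ≠ 0 := by
    intro c x hx e
    apply hx
    have h1 := D.act_inv_act c.2 x
    rw [e, D.act_zero (inv_mem c.2)] at h1
    exact h1.symm
  have hla : ∀ (c : centralizer ({z} : Set G)) (x x' : Fin 2 → F), x ≠ 0 → x' ≠ 0 → ln x = ln x' →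
      ln (D.act c x) = ln (D.act c x') := by
    intro c x x' hx hx' e
    obtain ⟨a, rfl⟩ := (hl x x' hx hx').mp e
    obtain ⟨s, hs⟩ := D.exists_semi c.2
    rw [hl _ _ (hne c x hx) (hne c _ hx')]
    exact ⟨s a, hs a x⟩
  have hmul : ∀ (c d : centralizer ({z} : Set G)) (i : Fin 5),
      ln (D.act c (r (ln (D.act d (r i))))) = ln (D.act ((c * d : centralizer ({z} : Set G)) : G) (r i)) := by
    intro c d i
    have e : ((c * d : centralizer ({z} : Set G)) : G) = c * d := rfl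
    rw [e, D.act_mul c.2 d.2]
    exact hla c _ _ (hr0 _) (hne d _ (hr0 i)) (hr _)
  have hone : ∀ i, ln (D.act ((1 : centralizer ({z} : Set G)) : G) (r i)) = i := fun i => by
    have e : ((1 : centralizer ({z} : Set G)) : G) = 1 := rfl
    rw [e, D.act_one, hr]
  let f : centralizer ({z} : Set G) → S5 := fun c =>
    { toFun := fun i => ln (D.act c (r i))
      invFun := fun i => ln (D.act ((c⁻¹ : centralizer ({z} : Set G)) : G) (r i))
      left_inv := fun i => by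
        beta_reduce
        rw [hmul, inv_mul_cancel]; exact hone i
      right_inv := fun i => by
        beta_reduce
        rw [hmul, mul_inv_cancel]; exact hone i }
  refine ⟨MonoidHom.mk' f ?_, ?_⟩
  · intro c d
    ext1 i
    exact (hmul c d i).symm
  · intro c x hx
    change ln (D.act c (r (ln x))) = _
    exact hla c _ _ (hr0 _) hx (hr _)

/-- `ρ` describes the action on the lines -/
def IsRho (D : SQ1.FFOne.NatSec F (centralizer ({z} : Set G)) (ws V z) (zpowers z)) (ln : (Fin 2 → F) → Fin 5)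
    (ρ : centralizer ({z} : Set G) →* S5) : Prop :=
  (∀ x x', x ≠ 0 → x' ≠ 0 → (ln x = ln x' ↔ ∃ c : F, x' = c • x)) ∧ (∀ i, ∃ x, x ≠ 0 ∧ ln x = i) ∧
  ∀ (c : centralizer ({z} : Set G)) (x : Fin 2 → F), x ≠ 0 → ρ c (ln x) = ln (D.act c x)

theorem indep {e u : Fin 2 → F} (hu : dt e u = 1) {a b a' b' : F} (hab : a • e + b • u = a' • e + b' • u) :
    a = a' ∧ b = b' := by
  have hee : dt e e = 0 := by unfold dt; ring
  have huu : dt u u = 0 := by unfold dt; ring
  have hue : dt u e = -1 := by rw [← hu]; unfold dt; ring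
  constructor
  · have h1 := congrArg (dt u) hab
    simp only [dt_add, dt_smul, huu, hue] at h1
    linear_combination (-1 : F) * h1
  · have h1 := congrArg (dt e) hab
    simp only [dt_add, dt_smul, hee, hu] at h1
    linear_combination h1

omit h in
theorem rho_ne {c : centralizer ({z} : Set G)} {x : Fin 2 → F} (hx : x ≠ 0) : D.act c x ≠ 0 := by
  intro e
  apply hx
  have h1 := D.act_inv_act c.2 x
  rw [e, D.act_zero (inv_mem c.2)] at h1
  exact h1.symm

theorem rho_one [Finite F] [CharP F 2] {y : G} (hy : y ∈ V) (hy1 : y ≠ 1) (hyz : y ≠ z)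
    {ln : (Fin 2 → F) → Fin 5} {ρ : centralizer ({z} : Set G) →* S5} (hρ : IsRho D ln ρ)
    (c : centralizer ({z} : Set G)) : ρ c = 1 ↔ ∀ x, D.act c x = x := by
  obtain ⟨hl, hs, hr⟩ := hρ
  constructor
  · intro h1
    have h2 : ∀ x, x ≠ 0 → ∃ a : F, D.act c x = a • x := by
      intro x hx
      have h3 := hr c x hx
      rw [h1, Equiv.Perm.one_apply] at h3
      exact (hl _ _ hx (rho_ne D hx)).mp h3
    have he0 : (D.π y) ≠ 0 := pi_ne h D (y_mem h hy) hy1 hyz
    set e := D.π y with he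
    obtain ⟨u, hu⟩ := exists_dt he0
    have hee : dt e e = 0 := by unfold dt; ring
    have hu0 : u ≠ 0 := by
      intro e1
      rw [e1] at hu
      have : dt e (0 : Fin 2 → F) = 0 := by unfold dt; simp
      rw [this] at hu
      exact zero_ne_one hu
    obtain ⟨α, hα⟩ := h2 e he0
    obtain ⟨β, hβ⟩ := h2 u hu0
    obtain ⟨s, hs⟩ := D.exists_semi c.2
    have hsum : ∀ t : F, e + t • u ≠ 0 := by
      intro t e1
      have h3 : (1 : F) • e + t • u = (0 : F) • e + (0 : F) • u := by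
        rw [one_smul, e1, zero_smul, zero_smul, add_zero]
      exact one_ne_zero (indep h D hu h3).1
    have h3 : ∀ t : F, s t * β = t * α := by
      intro t
      obtain ⟨γ, hγ⟩ := h2 _ (hsum t)
      rw [D.act_add c.2, hs, hα, hβ, smul_smul, smul_add, smul_smul] at hγ
      obtain ⟨h4, h5⟩ := indep h D hu hγ
      rw [h5, h4, mul_comm]
    have hαβ : β = α := by
      have := h3 1
      rwa [map_one, one_mul, one_mul] at this
    have hα0 : α ≠ 0 := by
      intro e1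
      rw [e1, zero_smul] at hα
      exact rho_ne D he0 hα
    have hs1 : ∀ t, s t = t := by
      intro t
      have := h3 t
      rw [hαβ] at this
      exact mul_right_cancel₀ hα0 this
    have h4 : ∀ x, D.act c x = α • x := by
      intro x
      obtain ⟨a, b, rfl⟩ := exists_comb (by rw [hu]; exact one_ne_zero : dt e u ≠ 0) x
      rw [D.act_add c.2, hs, hs, hs1, hs1, hα, hβ, hαβ, smul_add, smul_comm a α, smul_comm b α]
    have h5 := scalar_one h D hy hy1 hyz c.2 h4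
    intro x
    rw [h4, h5, one_smul]
  · intro h1
    ext1 i
    obtain ⟨x, hx, rfl⟩ := hs i
    rw [hr c x hx, h1, Equiv.Perm.one_apply]

omit h in
theorem transv_sq [CharP F 2] {e : Fin 2 → F} (he0 : e ≠ 0) {B : Matrix.SpecialLinearGroup (Fin 2) F}
    (hB : ap B e = e) (x : Fin 2 → F) : ap B (ap B x) = x := by
  obtain ⟨t, ht⟩ := exists_transv he0 hB
  have hee : dt e e = 0 := by unfold dt; ring
  rw [ht (ap B x), ht x, dt_add, dt_smul, hee, mul_zero, add_zero, add_assoc, ← add_smul,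
    CharTwo.add_self_eq_zero, zero_smul, add_zero]

/-- the four-groups are induced by transvections -/
theorem rho_k4 [Finite F] [CharP F 2] {y : G} (hy : y ∈ V) (hy1 : y ≠ 1) (hyz : y ≠ z)
    {ln : (Fin 2 → F) → Fin 5} {ρ : centralizer ({z} : Set G) →* S5} (hρ : IsRho D ln ρ) {m : Fin 5} {g : S5}
    (hg : K4 m g) : ∃ c : centralizer ({z} : Set G), (∃ B, D.Ind c B) ∧ ρ c = g := by
  by_cases hg1 : g = 1
  · exact ⟨1, ⟨1, D.ind_one⟩, by rw [map_one, hg1]⟩
  have h1 := rho_one h D hy hy1 hyz hρ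
  obtain ⟨hl, hs, hr⟩ := hρ
  obtain ⟨e, he0, hem⟩ := hs m
  obtain ⟨j, hj⟩ : ∃ j : Fin 5, j ≠ m := exists_ne m
  obtain ⟨x, hx0, hxj⟩ := hs j
  obtain ⟨hk1, hk2⟩ := s5_k4_move m g hg hg1 j hj
  obtain ⟨x', hx0', hxk⟩ := hs (g j)
  have hdt : ∀ {x : Fin 2 → F}, x ≠ 0 → ln x ≠ m → dt e x ≠ 0 := by
    intro x hx hxm e1
    apply hxm
    rw [← hem]
    exact ((hl e x he0 hx).mpr (exists_smul_of_dt he0 e1)).symm
  have hd := hdt hx0 (by rw [hxj]; exact hj)
  have hd' := hdt hx0' (by rw [hxk]; exact hk2)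
  obtain ⟨B, hB, hBx⟩ := exists_basis' (w := e) (x := x) (w' := e) (x' := (dt e x / dt e x') • x') hd
    (by rw [dt_smul, div_mul_cancel₀ _ hd'])
  obtain ⟨c, hc, hcB⟩ := D.lift B
  have hact : ∀ x, D.act c x = ap B x := (D.ind_iff hc).mp hcB
  refine ⟨⟨c, hc⟩, ⟨B, hcB⟩, ?_⟩
  have e1 : ρ ⟨c, hc⟩ m = m := by
    rw [← hem, hr _ _ he0]
    change ln (D.act c e) = ln e
    rw [hact, hB]
  have e2 : ρ ⟨c, hc⟩ j = g j := by
    rw [← hxj, hr _ _ hx0, hxj, ← hxk]
    change ln (D.act c x) = ln x'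
    rw [hact, hBx]
    have h3 : (dt e x / dt e x') • x' ≠ 0 := smul_ne_zero (div_ne_zero hd hd') hx0'
    exact ((hl _ _ hx0' h3).mpr ⟨_, rfl⟩).symm
  have e3 : ρ ⟨c, hc⟩ * ρ ⟨c, hc⟩ = 1 := by
    rw [← map_mul, h1]
    intro v
    change D.act (c * c) v = v
    rw [D.act_mul hc hc, hact, hact, transv_sq D he0 hB]
  obtain ⟨t, ht⟩ := exists_transv he0 hB
  have hee : dt e e = 0 := by unfold dt; ring
  have e4 : ∀ i, i ≠ m → ρ ⟨c, hc⟩ i ≠ i := by
    intro i hi e5
    obtain ⟨v, hv0, rfl⟩ := hs i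
    have hdv := hdt hv0 hi
    rw [hr _ _ hv0] at e5
    change ln (D.act c v) = ln v at e5
    have hv' : D.act c v ≠ 0 := rho_ne D (c := ⟨c, hc⟩) hv0
    obtain ⟨a, ha⟩ := (hl _ _ hv0 hv').mp e5.symm
    rw [hact, ht] at ha
    have h3 := congrArg (dt e) ha
    rw [dt_add, dt_smul, dt_smul, hee, mul_zero, add_zero] at h3
    have ha1 : a = 1 := by
      have h4 : (1 : F) * dt e v = a * dt e v := by rw [one_mul]; exact h3
      exact (mul_right_cancel₀ hdv h4).symm
    rw [ha1, one_smul] at ha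
    have h5 := add_eq_left.mp ha
    rcases smul_eq_zero.mp h5 with h6 | h6
    · have ht0 := (mul_eq_zero.mp h6).resolve_right hdv
      apply hk1
      rw [← e2, ← hxj, hr _ _ hx0]
      change ln (D.act c x) = ln x
      rw [hact, ht, ht0, zero_mul, zero_smul, add_zero]
    · exact he0 h6
  exact s5_k4_eq m _ (s5_k4 m _ e1 e3 e4) _ hg j hj e2

theorem rho_even [Finite F] [CharP F 2] {y : G} (hy : y ∈ V) (hy1 : y ≠ 1) (hyz : y ≠ z)
    {ln : (Fin 2 → F) → Fin 5} {ρ : centralizer ({z} : Set G) →* S5} (hρ : IsRho D ln ρ) {g : S5}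
    (hg : Equiv.Perm.sign g = 1) : ∃ c : centralizer ({z} : Set G), (∃ B, D.Ind c B) ∧ ρ c = g := by
  obtain ⟨m, a, ha, n, hb⟩ := s5_gen g hg
  obtain ⟨c, ⟨B, hB⟩, hc⟩ := rho_k4 h D hy hy1 hyz hρ ha
  obtain ⟨d, ⟨B', hB'⟩, hd⟩ := rho_k4 h D hy hy1 hyz hρ hb
  exact ⟨c * d, ⟨B * B', D.ind_mul c.2 d.2 hB hB'⟩, by rw [map_mul, hc, hd, mul_inv_cancel_left]⟩

theorem rho_fpf [Finite F] [CharP F 2] {y : G} (hy : y ∈ V) (hy1 : y ≠ 1) (hyz : y ≠ z)
    {ln : (Fin 2 → F) → Fin 5} {ρ : centralizer ({z} : Set G) →* S5} (hρ : IsRho D ln ρ)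
    {c : centralizer ({z} : Set G)} (hc : O3 (ρ c)) {x : Fin 2 → F} (hx : D.act c x = x) : x = 0 := by
  by_contra hx0
  obtain ⟨d, ⟨B, hB⟩, hd⟩ := rho_even h D hy hy1 hyz hρ hc.sign
  have h1 : ∀ v, D.act c v = ap B v := by
    intro v
    have h2 : ρ (c * d⁻¹) = 1 := by rw [map_mul, map_inv, hd, mul_inv_cancel]
    have h3 := (rho_one h D hy hy1 hyz hρ _).mp h2 (D.act d v)
    have e : ((c * d⁻¹ : centralizer ({z} : Set G)) : G) = c * (d : G)⁻¹ := rfl
    rw [e, D.act_mul c.2 (inv_mem d.2), D.act_inv_act d.2] at h3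
    rw [h3, (D.ind_iff d.2).mp hB]
  have h2 : ap B x = x := by rw [← h1]; exact hx
  have h3 : ρ c * ρ c = 1 := by
    rw [← map_mul, rho_one h D hy hy1 hyz hρ]
    intro v
    change D.act ((c : G) * c) v = v
    rw [D.act_mul c.2 c.2, h1, h1, transv_sq D hx0 h2]
  have h4 := hc.1
  rw [h3, one_mul] at h4
  exact hc.2 h4

theorem card_ws [Finite F] (h4 : Nat.card F = 4) : Nat.card (ws V z) = 32 := by
  have hzW := z_mem_ws h
  have hle : zpowers z ≤ ws V z := (zpowers_le).mpr hzW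
  let f : ws V z →* Multiplicative (Fin 2 → F) :=
    { toFun := fun w => Multiplicative.ofAdd (D.π w)
      map_one' := by
        change Multiplicative.ofAdd (D.π 1) = 1
        rw [D.map_one]; rfl
      map_mul' := fun v w => by
        change Multiplicative.ofAdd (D.π ((v : G) * w)) = _
        rw [D.map_mul v v.2 w w.2]; rfl }
  have hf : Function.Surjective f := by
    intro x
    obtain ⟨w, hw, e⟩ := D.surj (Multiplicative.toAdd x)
    exact ⟨⟨w, hw⟩, by change Multiplicative.ofAdd (D.π w) = x; rw [e]; rfl⟩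
  have h1 := Subgroup.card_eq_card_quotient_mul_card_subgroup f.ker
  have h2 := Nat.card_congr (QuotientGroup.quotientKerEquivOfSurjective f hf).toEquiv
  have h3 : Nat.card (Multiplicative (Fin 2 → F)) = 16 := by
    rw [Nat.card_congr Multiplicative.toAdd, Nat.card_fun, h4, Nat.card_fin]
    norm_num
  have h5 : Nat.card f.ker = 2 := by
    have h6 : f.ker = (zpowers z).subgroupOf (ws V z) := by
      ext w
      rw [MonoidHom.mem_ker, mem_subgroupOf]
      change Multiplicative.ofAdd (D.π w) = 1 ↔ _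
      rw [← D.ker w w.2]
      rfl
    rw [h6, Nat.card_congr (subgroupOfEquivOfLe hle).toEquiv, Nat.card_zpowers]
    exact orderOf_eq_prime (by rw [pow_two]; exact h.ln.zz) h.ln.z_ne
  rw [h1, h2, h3, h5]

/-- **the Ru shape** -/
theorem exists_loc [Finite F] [CharP F 2] (h4 : 4 ≤ Nat.card F) : ∃ ρ, Loc (ws V z) z ρ := by
  obtain ⟨y, hy, hy1, hyz⟩ := h.ln.exists_y
  obtain ⟨hF, -⟩ := card_eq_four h D hy hy1 hyz h4
  obtain ⟨ln, hl, hs⟩ := exists_ln hF
  obtain ⟨ρ, hr⟩ := exists_rho D hl hs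
  have hρ : IsRho D ln ρ := ⟨hl, hs, hr⟩
  have hcg : ∀ v ∈ ws V z, ∀ w ∈ ws V z, (Cg z v w ↔ D.π v = D.π w) := by
    intro v hv w hw
    have hzw : w * z = z * w := h.comm h.ln.z_mem h.ln.z_ne w hw z (z_mem_ws h)
    rw [D.eq_iff hv hw, zpz h]
    unfold Cg
    rw [mul_inv_eq_one, mul_inv_eq_iff_eq_mul, hzw]
  refine ⟨ρ, ?_⟩
  exact
    { x_ne := h.ln.z_ne
      x_mem := z_mem_ws h
      comm := h.comm h.ln.z_mem h.ln.z_ne
      sq := h.sq h.ln.z_mem h.ln.z_ne
      norm := fun c hc w hw => D.Vn c hc w hw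
      card := card_ws h D hF
      even := fun g hg => by
        obtain ⟨c, _, hc⟩ := rho_even h D hy hy1 hyz hρ hg
        exact ⟨c, hc⟩
      ker := fun c => by
        rw [rho_one h D hy hy1 hyz hρ]
        constructor
        · intro h1 w hw
          rw [hcg _ (D.Vn c c.2 w hw) _ hw, ← D.act_π c.2 hw, h1]
        · intro h1 x
          obtain ⟨w, hw, rfl⟩ := D.surj x
          rw [D.act_π c.2 hw]
          exact (hcg _ (D.Vn c c.2 w hw) _ hw).mp (h1 w hw)
      fpf := fun c hc w hw hw' => by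
        rw [hcg _ (D.Vn c c.2 w hw) _ hw, ← D.act_π c.2 hw] at hw'
        have h1 := rho_fpf h D hy hy1 hyz hρ hc hw'
        exact (zpz h).mp ((D.ker w hw).mp h1) }

end One

end Cfsg.Agent.Omega.RuShape.NatB

end

section


/-!
# From `One T V z` with `W_z/⟨z⟩` natural to the Ru configuration
-/

set_option autoImplicit false
set_option linter.unusedSectionVars false

namespace Cfsg.Agent.Omega.RuShape.OfOne

open Subgroup Cfsg Cfsg.Agent.ZN Cfsg.Agent.MinSimple.Geo Cfsg.Agent.Omega.CaseL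
open Cfsg.Agent.Omega.NO3S.TwoOne Cfsg.Agent.Omega.RuShape.Base

universe u

variable {G : Type u} [Group G] [Finite G] {T V : Subgroup G} {z : G} {F : Type*} [Field F]

/-- centralisers of involutions have characteristic 2 -/
theorem c2_of (hc : IsCharacteristicTwoType G) {v : G} (hv : v * v = 1) (hv1 : v ≠ 1) :
    ∃ O : Subgroup G, IsPGroup 2 O ∧ O ≤ centralizer ({v} : Set G) ∧
      centralizer ({v} : Set G) ≤ normalizer (O : Set G) ∧
      ∀ c ∈ centralizer ({v} : Set G), c ∈ centralizer (O : Set G) → c ∈ O :=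
  ⟨o2 (centralizer ({v} : Set G)), isPGroup_o2 _, o2_le _, le_normalizer_o2 _, fun _ hc1 hc2 =>
    inf_centralizer_o2_le hc (isTwoLocal_centralizer hv hv1) ⟨hc1, hc2⟩⟩

/-- sections 0 and 1 of helper881's text #12858 -/
theorem ru_of_one [Finite F] [CharP F 2] (h : One T V z)
    (core : ∀ U : Subgroup G, IsPGroup 2 U → normalizer (V : Set G) ≤ normalizer (U : Set G) →
      centralizer ({z} : Set G) ≤ normalizer (U : Set G) → U = ⊥)
    (D : SQ1.FFOne.NatSec F (centralizer ({z} : Set G)) (ws V z) (zpowers z)) (h4 : 4 ≤ Nat.card F) :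
    Ru V z where
  card_V := h.ln.card_V
  sq := h.ln.sq
  z_mem := h.ln.z_mem
  trans := h.ln.trans
  move := by
    obtain ⟨y, hy, hy1, hyz⟩ := h.ln.exists_y
    obtain ⟨k, hk, hk1⟩ := h.exists_mover h.ln.z_mem h.ln.z_ne
    exact ⟨k, kq_le_centralizer V z hk, y, hy, by
      rw [h.move h.ln.z_mem h.ln.z_ne hy hy1 hyz hk hk1, h.ln.comm h.ln.z_mem hy], hy1, hyz⟩
  loc := NatB.exists_loc h D h4
  core := core
  noncomm := fun v hv hv1 hvz => h.exists_nc h.ln.z_mem h.ln.z_ne hv hv1 hvz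
  c2 := fun v hv hv1 => c2_of h.ln.charTwo hv hv1

end Cfsg.Agent.Omega.RuShape.OfOne

end

section


/-!
# The Ru configuration: the end of helper881's text #12858 from the second class (section 4)
-/

set_option autoImplicit false
set_option linter.dupNamespace false
set_option linter.unusedSectionVars false

namespace Cfsg.Agent.Omega.RuShape.Base

open Subgroup Cfsg Cfsg.Agent.ZN Cfsg.Agent.MinSimple.Geo Cfsg.Agent.MinSimple.OddBase
open Cfsg.Agent.OddCyclic Cfsg.Agent.OddCyclic.GamPerm Cfsg.Agent.OddCyclic.GamMod Cfsg.Agent.OddCyclic.GamLoc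

universe u

variable {G : Type u} [Group G]

namespace Ru

variable {V : Subgroup G} {z : G} [Finite G]

/-- the text #12858 from section 4: every plane has a second class -/
theorem false_of_second (h : Ru V z)
    (hsec : ∀ E, Pl V z E → ∃ v : G, v * v = 1 ∧ (∀ g : G, g * z * g⁻¹ ≠ v) ∧
      ∀ i : G, i * i = 1 → i ≠ 1 → i * v = v * i →
        i ∈ E ∨ ∀ g : G, g * z * g⁻¹ * i = i * (g * z * g⁻¹) → g * z * g⁻¹ ∈ E) : False := by
  refine h.false_of fun E hE g => ?_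
  obtain ⟨v, hv, hvz, h4⟩ := hsec E hE
  exact NOThree.Ru.exists_comm_of_second (h.xx (Pt.refl z)) h.z_ne hv hvz h4 g

end Ru

end Cfsg.Agent.Omega.RuShape.Base

end
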