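import Cfsg.Agent.Mrg.Omega.NOne.DZero

section


/-!
# NO-1, THEOREM D0+ (#12107, #12381): the instance (helper537)

`G` of characteristic 2 type, `S` a Sylow 2-subgroup with `Ω₁ Z(S) = ⟨z (0, 0)⟩`, `S ≤ M ≤ N(V)`,
`V = N₁ ⊗ N₂` of order 16 with the nine singular vectors `z (a, b) = a ⊗ b` permuted by `M`, `M`
inducing at least `S₃ × S₃` (`V = O₄⁺(2)`-module).  If `V ≰ O₂(C(z (0, 0)))` and `O₂(C(z (0, 0)))`
induces exactly `U U' = ⟨t_a⟩ × ⟨t_b⟩` on `V`, then `O₂(C(z (0, 0)))` is extraspecial: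
`Large (o2 (centralizer {z (0, 0)})) (z (0, 0))`.

The preamble is helper746's shortcut (S1) of #13123: `V` would stabilise `Q > Q* > Z(Q*) > 1`.
-/

set_option autoImplicit false

namespace Cfsg.Agent.Omega.NOne.DPlusPts

open Subgroup Cfsg Cfsg.Agent.ZN
open Cfsg.Agent.MinSimple.VModule (o2_isPGroup)
open Cfsg.Agent.Omega.NOne.QuadPts (conj_comm comm_conj)
open Cfsg.Agent.Omega.NOne.DZeroPts (CC QQ mem_CC CC_eq QQ_conj conj_mem_iff mem_CC_conj mem_QQ_conj
  QQ_le QQ_norm z_mem_QQ)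
open Cfsg.Agent.Omega.NOne.DPlus
open scoped Pointwise

universe u

variable {G : Type u} [Group G]

theorem inv_comm {c x : G} (hc : c * x = x * c) : c⁻¹ * x = x * c⁻¹ := by
  rw [inv_mul_eq_iff_eq_mul, ← mul_assoc, hc, mul_assoc, mul_inv_cancel, mul_one]

/-- The stabiliser of a chain `O₂(C(x)) ≥ R ≥ Z ≥ 1` lies in `O₂(C(x))`. -/
theorem chain3 [Finite G] {x : G} {R Z : Subgroup G}
    (char2 : ∀ g, g * x = x * g → (∀ y ∈ QQ x, g * y = y * g) → g ∈ QQ x)
    (hR : R ≤ QQ x) (hZR : Z ≤ R)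
    (nR : ∀ c, c * x = x * c → ∀ y ∈ R, c * y * c⁻¹ ∈ R)
    (nZ : ∀ c, c * x = x * c → ∀ y ∈ Z, c * y * c⁻¹ ∈ Z)
    {v : G} (hv : v * x = x * v) (h1 : ∀ q ∈ QQ x, v * q * v⁻¹ * q⁻¹ ∈ R)
    (h2 : ∀ u ∈ R, v * u * v⁻¹ * u⁻¹ ∈ Z) (h3 : ∀ w ∈ Z, v * w = w * v) : v ∈ QQ x := by
  let B : Subgroup G :=
    { carrier := {g | g ∈ CC x ∧ (∀ q ∈ QQ x, g * q * g⁻¹ * q⁻¹ ∈ R) ∧
        (∀ u ∈ R, g * u * g⁻¹ * u⁻¹ ∈ Z) ∧ ∀ w ∈ Z, g * w = w * g}
      one_mem' := ⟨one_mem _, fun u _ => by simp, fun q _ => by simp, fun w _ => by simp⟩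
      mul_mem' := by
        rintro a b ⟨ha0, ha1, ha2, ha3⟩ ⟨hb0, hb1, hb2, hb3⟩
        refine ⟨mul_mem ha0 hb0, fun q hq => ?_, fun u hu => ?_, fun w hw => ?_⟩
        · have e : a * b * q * (a * b)⁻¹ * q⁻¹ =
              (a * (b * q * b⁻¹ * q⁻¹) * a⁻¹) * (a * q * a⁻¹ * q⁻¹) := by group
          rw [e]
          exact mul_mem (nR a (mem_CC.1 ha0) _ (hb1 q hq)) (ha1 q hq)
        · have e : a * b * u * (a * b)⁻¹ * u⁻¹ =
              (a * (b * u * b⁻¹ * u⁻¹) * a⁻¹) * (a * u * a⁻¹ * u⁻¹) := by group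
          rw [e]
          exact mul_mem (nZ a (mem_CC.1 ha0) _ (hb2 u hu)) (ha2 u hu)
        · calc a * b * w = a * (b * w) := by group
            _ = (a * w) * b := by rw [hb3 w hw]; group
            _ = w * (a * b) := by rw [ha3 w hw]; group
      inv_mem' := by
        rintro a ⟨ha0, ha1, ha2, ha3⟩
        have hai := inv_comm (mem_CC.1 ha0)
        refine ⟨inv_mem ha0, fun q hq => ?_, fun u hu => ?_, fun w hw => inv_comm (ha3 w hw)⟩
        · have e : a⁻¹ * q * a⁻¹⁻¹ * q⁻¹ = a⁻¹ * (a * q * a⁻¹ * q⁻¹)⁻¹ * a⁻¹⁻¹ := by group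
          rw [e]
          exact nR _ hai _ (inv_mem (ha1 q hq))
        · have e : a⁻¹ * u * a⁻¹⁻¹ * u⁻¹ = a⁻¹ * (a * u * a⁻¹ * u⁻¹)⁻¹ * a⁻¹⁻¹ := by group
          rw [e]
          exact nZ _ hai _ (inv_mem (ha2 u hu)) }
  have pR : IsPGroup 2 R := (o2_isPGroup (CC x)).to_le hR
  have pZ : IsPGroup 2 Z := pR.to_le hZR
  have hB : B ≤ QQ x := by
    refine le_o2 (fun g hg => hg.1) ?_ ?_
    · rintro ⟨g, hg⟩
      obtain ⟨hg0, hg1, hg2, hg3⟩ := hg
      obtain ⟨k, hk⟩ := LemmaT.exists_pow_comm pZ hg3 hg2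
      have hgB : g ^ 2 ^ k ∈ B := pow_mem (show g ∈ B from ⟨hg0, hg1, hg2, hg3⟩) _
      obtain ⟨l, hl⟩ := LemmaT.exists_pow_comm pR hk hgB.2.1
      have h5 : (g ^ 2 ^ k) ^ 2 ^ l ∈ QQ x :=
        char2 _ (mem_CC.1 (pow_mem hgB.1 _)) hl
      obtain ⟨n, hn⟩ := LemmaT.exists_pow_eq_one (o2_isPGroup (CC x))
      refine ⟨k + l + n, Subtype.ext ?_⟩
      change g ^ 2 ^ (k + l + n) = 1
      rw [pow_add, pow_add, pow_mul, pow_mul]
      exact hn _ h5
    · have key : ∀ c ∈ CC x, ∀ g ∈ B, c * g * c⁻¹ ∈ B := by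
        rintro c hc g ⟨hg0, hg1, hg2, hg3⟩
        have hc' := mem_CC.1 hc
        have hci := inv_comm hc'
        refine ⟨mul_mem (mul_mem hc hg0) (inv_mem hc), fun q hq => ?_, fun u hu => ?_,
          fun w hw => ?_⟩
        · have h6 := nR c hc' _ (hg1 _ (QQ_norm hci hq))
          have e : c * g * c⁻¹ * q * (c * g * c⁻¹)⁻¹ * q⁻¹ =
              c * (g * (c⁻¹ * q * c⁻¹⁻¹) * g⁻¹ * (c⁻¹ * q * c⁻¹⁻¹)⁻¹) * c⁻¹ := by group
          rw [e]; exact h6
        · have h6 := nZ c hc' _ (hg2 _ (nR _ hci u hu))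
          have e : c * g * c⁻¹ * u * (c * g * c⁻¹)⁻¹ * u⁻¹ =
              c * (g * (c⁻¹ * u * c⁻¹⁻¹) * g⁻¹ * (c⁻¹ * u * c⁻¹⁻¹)⁻¹) * c⁻¹ := by group
          rw [e]; exact h6
        · have h6 := hg3 _ (nZ _ hci w hw)
          calc c * g * c⁻¹ * w = c * (g * (c⁻¹ * w * c⁻¹⁻¹)) * c⁻¹ := by group
            _ = c * ((c⁻¹ * w * c⁻¹⁻¹) * g) * c⁻¹ := by rw [h6]
            _ = w * (c * g * c⁻¹) := by group
      intro c hc
      rw [mem_normalizer_iff]
      intro g
      refine ⟨key c hc g, fun hg => ?_⟩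
      have h6 := key c⁻¹ (inv_mem hc) _ hg
      have e : c⁻¹ * (c * g * c⁻¹) * c⁻¹⁻¹ = g := by group
      rwa [e] at h6
  exact hB ⟨mem_CC.2 hv, h1, h2, h3⟩

/-- `m` acts on the grid as `(x, y) ↦ (f x, g y)`. -/
def Act (z : Fin 3 × Fin 3 → G) (m : G) (f g : Fin 3 → Fin 3) : Prop :=
  ∀ x y, m * z (x, y) * m⁻¹ = z (f x, g y)

theorem Act.mul {z : Fin 3 × Fin 3 → G} {m n : G} {f g f' g' : Fin 3 → Fin 3} (h : Act z m f g)
    (h' : Act z n f' g') : Act z (m * n) (fun x => f (f' x)) (fun y => g (g' y)) := by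
  intro x y
  calc m * n * z (x, y) * (m * n)⁻¹ = m * (n * z (x, y) * n⁻¹) * m⁻¹ := by group
    _ = _ := by rw [h', h]

theorem Act.inv {z : Fin 3 × Fin 3 → G} {m : G} {σ τ : Equiv.Perm (Fin 3)} (h : Act z m σ τ) :
    Act z m⁻¹ (fun x => σ.symm x) (fun y => τ.symm y) := by
  intro x y
  have h1 := h (σ.symm x) (τ.symm y)
  rw [σ.apply_symm_apply, τ.apply_symm_apply] at h1
  rw [← h1]; group

theorem perm_t : ∀ σ : Equiv.Perm (Fin 3), ∀ a x, σ (t a (σ.symm x)) = t (σ a) x := by decide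

theorem ex_perm : ∀ a b : Fin 3, ∃ σ : Equiv.Perm (Fin 3), σ a = b := by decide

/-- The nine singular vectors of an `O₄⁺(2)`-module with `M` inducing at least `S₃ × S₃`. -/
structure Pts (M V : Subgroup G) (z : Fin 3 × Fin 3 → G) : Prop where
  mem : ∀ i, z i ∈ V
  gen : V ≤ closure (Set.range z)
  grid : Grid z
  perm : ∀ m ∈ M, ∀ i, ∃ j, m * z i * m⁻¹ = z j
  big : ∀ σ τ : Equiv.Perm (Fin 3), ∃ m ∈ M, Act z m σ τ

theorem Pts.eqOp {M V : Subgroup G} {z : Fin 3 × Fin 3 → G} (h : Pts M V z) {m : G} (hm : m ∈ M)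
    {i j i' j' : Fin 3 × Fin 3} (hij : op i j) (hi : m * z i * m⁻¹ = z i')
    (hj : m * z j * m⁻¹ = z j') : op i' j' :=
  h.grid.eqOp (h.perm m⁻¹ (inv_mem hm)) hij hi hj

/-- `V` is abelian -/
theorem Pts.abel {M V : Subgroup G} {z : Fin 3 × Fin 3 → G} (h : Pts M V z) {v w : G} (hv : v ∈ V)
    (hw : w ∈ V) : v * w = w * v := by
  have h1 : ∀ v ∈ closure (Set.range z), ∀ i, v * z i = z i * v := by
    intro v hv i
    induction hv using closure_induction with
    | mem x hx => obtain ⟨j, rfl⟩ := hx; exact h.grid.comm j i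
    | one => simp
    | mul a b _ _ ha hb =>
      calc a * b * z i = a * (b * z i) := by group
        _ = (a * z i) * b := by rw [hb]; group
        _ = z i * (a * b) := by rw [ha]; group
    | inv a _ ha => exact inv_comm ha
  have hw' := h.gen hw
  have hv' := h.gen hv
  clear hv hw
  induction hw' using closure_induction with
  | mem x hx => obtain ⟨j, rfl⟩ := hx; exact h1 v hv' j
  | one => simp
  | mul a b _ _ ha hb =>
    calc v * (a * b) = (v * a) * b := by group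
      _ = a * (v * b) := by rw [ha]; group
      _ = a * b * v := by rw [hb]; group
  | inv a _ ha => exact (inv_comm ha.symm).symm

/-- `⟨(z i)^⊥ ^ C(z i)⟩` -/
def QS (z : Fin 3 × Fin 3 → G) (i : Fin 3 × Fin 3) : Subgroup G :=
  closure {y | ∃ c ∈ CC (z i), ∃ j, ¬ op i j ∧ y = c * z j * c⁻¹}

theorem mem_QS {z : Fin 3 × Fin 3 → G} {i j : Fin 3 × Fin 3} (hij : ¬ op i j) : z j ∈ QS z i :=
  subset_closure ⟨1, one_mem _, j, hij, by group⟩

theorem QS_norm {z : Fin 3 × Fin 3 → G} {i : Fin 3 × Fin 3} {c x : G} (hc : c * z i = z i * c)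
    (hy : x ∈ QS z i) : c * x * c⁻¹ ∈ QS z i := by
  unfold QS at hy ⊢
  induction hy using closure_induction with
  | mem y hy =>
    obtain ⟨d, hd, j, hj, rfl⟩ := hy
    exact subset_closure ⟨c * d, mul_mem (mem_CC.2 hc) hd, j, hj, by group⟩
  | one => simp
  | mul a b _ _ ha hb =>
    have e : c * (a * b) * c⁻¹ = (c * a * c⁻¹) * (c * b * c⁻¹) := by group
    rw [e]; exact mul_mem ha hb
  | inv a _ ha =>
    have e : c * a⁻¹ * c⁻¹ = (c * a * c⁻¹)⁻¹ := by group
    rw [e]; exact inv_mem ha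

theorem QS_conj {M V : Subgroup G} {z : Fin 3 × Fin 3 → G} (h : Pts M V z) {m : G} (hm : m ∈ M)
    {i i' : Fin 3 × Fin 3} (hi : m * z i * m⁻¹ = z i') {y : G} (hy : y ∈ QS z i) :
    m * y * m⁻¹ ∈ QS z i' := by
  unfold QS at hy
  induction hy using closure_induction with
  | mem y hy =>
    obtain ⟨c, hc, j, hj, rfl⟩ := hy
    obtain ⟨j', hj'⟩ := h.perm m hm j
    have hi' : m⁻¹ * z i' * m⁻¹⁻¹ = z i := by rw [← hi]; group
    have hj'' : m⁻¹ * z j' * m⁻¹⁻¹ = z j := by rw [← hj']; group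
    refine subset_closure ⟨m * c * m⁻¹, ?_, j', fun H => hj (h.eqOp (inv_mem hm) H hi' hj''), ?_⟩
    · rw [← hi]; exact mem_CC_conj.2 hc
    · rw [← hj']; group
  | one => simp
  | mul a b _ _ ha hb =>
    have e : m * (a * b) * m⁻¹ = (m * a * m⁻¹) * (m * b * m⁻¹) := by group
    rw [e]; exact mul_mem ha hb
  | inv a _ ha =>
    have e : m * a⁻¹ * m⁻¹ = (m * a * m⁻¹)⁻¹ := by group
    rw [e]; exact inv_mem ha

/-- local data at the point `z i` -/
structure Loc (M V : Subgroup G) (z : Fin 3 × Fin 3 → G) (T : Subgroup G) (i : Fin 3 × Fin 3) :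
    Prop where
  TM : T ≤ M
  pg : IsPGroup 2 T
  cz : ∀ t ∈ T, t * z i = z i * t
  QT : QQ (z i) ≤ T
  Z : ∀ x ∈ T, (∀ s ∈ T, x * s = s * x) → x * x = 1 → x = 1 ∨ x = z i
  char2 : ∀ g, g * z i = z i * g → (∀ x ∈ QQ (z i), g * x = x * g) → g ∈ QQ (z i)
  VQ : ¬ V ≤ QQ (z i)
  act : ∀ q ∈ QQ (z i), Act z q id id ∨ Act z q id (t i.2) ∨ Act z q (t i.1) id ∨
    Act z q (t i.1) (t i.2)
  ar : ∃ q ∈ QQ (z i), Act z q id (t i.2)
  ac : ∃ q ∈ QQ (z i), Act z q (t i.1) id

/-- transport of the local data -/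
theorem Loc.conj {M V : Subgroup G} {z : Fin 3 × Fin 3 → G} {T : Subgroup G} {i : Fin 3 × Fin 3}
    (h : Loc M V z T i) (hMV : M ≤ normalizer (V : Set G)) {m : G} (hm : m ∈ M)
    {σ τ : Equiv.Perm (Fin 3)} (hz : Act z m σ τ) :
    Loc M V z (MulAut.conj m • T) (σ i.1, τ i.2) := by
  have hij : m * z i * m⁻¹ = z (σ i.1, τ i.2) := hz i.1 i.2
  have hVm : ∀ {v}, v ∈ V ↔ m * v * m⁻¹ ∈ V := fun {v} => mem_normalizer_iff.1 (hMV hm) v
  have back : ∀ y : G, ∃ x, y = m * x * m⁻¹ := fun y => ⟨m⁻¹ * y * m, by group⟩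
  have hcomm : ∀ {a b : G}, m * a * m⁻¹ * (m * b * m⁻¹) = m * b * m⁻¹ * (m * a * m⁻¹) ↔
      a * b = b * a := by
    intro a b
    have e1 : m * a * m⁻¹ * (m * b * m⁻¹) = m * (a * b) * m⁻¹ := by group
    have e2 : m * b * m⁻¹ * (m * a * m⁻¹) = m * (b * a) * m⁻¹ := by group
    rw [e1, e2]
    exact ⟨fun h => mul_left_cancel (mul_right_cancel h), fun h => by rw [h]⟩
  have hQ : QQ (z (σ i.1, τ i.2)) = MulAut.conj m • QQ (z i) := by rw [← hij, QQ_conj]
  -- transport of actions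
  have hact : ∀ {q : G} {f g f' g' : Fin 3 → Fin 3}, Act z q f g →
      (∀ x, σ (f (σ.symm x)) = f' x) → (∀ y, τ (g (τ.symm y)) = g' y) →
      Act z (m * q * m⁻¹) f' g' := by
    intro q f g f' g' hq hf hg x y
    have h1 := ((hz.mul hq).mul hz.inv) x y
    simp only [hf, hg] at h1
    exact h1
  have id1 : ∀ x, σ (id (σ.symm x)) = id x := fun x => σ.apply_symm_apply x
  have id2 : ∀ x, τ (id (τ.symm x)) = id x := fun x => τ.apply_symm_apply x
  refine ⟨?_, ?_, ?_, ?_, ?_, ?_, ?_, ?_, ?_, ?_⟩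
  · intro y hy
    obtain ⟨x, rfl⟩ := back y
    exact mul_mem (mul_mem hm (h.TM (conj_mem_iff.1 hy))) (inv_mem hm)
  · exact h.pg.map _
  · intro y hy
    obtain ⟨x, rfl⟩ := back y
    rw [← hij]
    exact hcomm.2 (h.cz x (conj_mem_iff.1 hy))
  · intro y hy
    obtain ⟨x, rfl⟩ := back y
    rw [hQ, conj_mem_iff] at hy
    exact conj_mem_iff.2 (h.QT hy)
  · intro y hy hys hy2
    obtain ⟨x, rfl⟩ := back y
    have h1 : x * x = 1 := by
      calc x * x = m⁻¹ * (m * x * m⁻¹ * (m * x * m⁻¹)) * m := by group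
        _ = 1 := by rw [hy2]; group
    rcases h.Z x (conj_mem_iff.1 hy) (fun s hs => hcomm.1 (hys _ (conj_mem_iff.2 hs))) h1 with
      rfl | rfl
    · left; group
    · right; exact hij
  · intro y hy hys
    obtain ⟨x, rfl⟩ := back y
    rw [← hij] at hy
    rw [hQ, conj_mem_iff]
    refine h.char2 x (hcomm.1 hy) fun w hw => hcomm.1 (hys _ ?_)
    rw [hQ, conj_mem_iff]; exact hw
  · intro hV
    apply h.VQ
    intro v hv
    have h1 := hV (hVm.1 hv)
    rwa [hQ, conj_mem_iff] at h1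
  · intro y hy
    obtain ⟨x, rfl⟩ := back y
    rw [hQ, conj_mem_iff] at hy
    rcases h.act x hy with h1 | h1 | h1 | h1
    · exact Or.inl (hact h1 id1 id2)
    · exact Or.inr (Or.inl (hact h1 id1 (perm_t τ i.2)))
    · exact Or.inr (Or.inr (Or.inl (hact h1 (perm_t σ i.1) id2)))
    · exact Or.inr (Or.inr (Or.inr (hact h1 (perm_t σ i.1) (perm_t τ i.2))))
  · obtain ⟨q, hq, h1⟩ := h.ar
    exact ⟨m * q * m⁻¹, by rw [hQ]; exact conj_mem_iff.2 hq, hact h1 id1 (perm_t τ i.2)⟩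
  · obtain ⟨q, hq, h1⟩ := h.ac
    exact ⟨m * q * m⁻¹, by rw [hQ]; exact conj_mem_iff.2 hq, hact h1 (perm_t σ i.1) id2⟩

section Facts

variable {M V : Subgroup G} {z : Fin 3 × Fin 3 → G}

/-- `z j z j' ∈ O₂(C(z i))` if `z j' = q z j q⁻¹`, `q ∈ O₂(C(z i))` -/
theorem comm_mem (h : Pts M V z) {i j j' : Fin 3 × Fin 3} {q : G} (hq : q ∈ QQ (z i))
    (hj : q * z j * q⁻¹ = z j') : z j * z j' ∈ QQ (z i) := by
  have h1 : z j * q * (z j)⁻¹ ∈ QQ (z i) := QQ_norm (h.grid.comm j i) hq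
  have e : z j * z j' = z j * q * (z j)⁻¹ * q⁻¹ := by
    rw [← hj, h.grid.zinv]; group
  rw [e]
  exact mul_mem h1 (inv_mem hq)

/-- the points perpendicular to `z i` are in `O₂(C(z i))` -/
theorem E_mem (h : Pts M V z) {T : Subgroup G} {i : Fin 3 × Fin 3} (hl : Loc M V z T i)
    {j : Fin 3 × Fin 3} (hij : ¬ op i j) : z j ∈ QQ (z i) := by
  obtain ⟨a, b⟩ := i
  obtain ⟨c, d⟩ := j
  obtain ⟨q, hq, hq1⟩ := hl.ar
  obtain ⟨r, hr, hr1⟩ := hl.ac
  simp only at hq1 hr1
  by_cases hac : a = c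
  · subst hac
    obtain ⟨a', ha⟩ := ex_ne a
    -- `z (a, d) = z (a', d) z (t a a', d)`
    have h1 := comm_mem h hr (hr1 a' d)
    have h2 : z (a', d) * z (t a a', d) = z (a, d) := by
      rw [h.grid.col d a' (t a a') (Ne.symm (t_ne a a' ha)), t_symm a a', t_t]
    rw [id, h2] at h1
    exact h1
  · by_cases hbd : b = d
    · subst hbd
      obtain ⟨b', hb⟩ := ex_ne b
      have h1 := comm_mem h hq (hq1 c b')
      have h2 : z (c, b') * z (c, t b b') = z (c, b) := by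
        rw [h.grid.row c b' (t b b') (Ne.symm (t_ne b b' hb)), t_symm b b', t_t]
      rw [id, h2] at h1
      exact h1
    · exact absurd ⟨hac, hbd⟩ hij

theorem QS_le (h : Pts M V z) {T : Subgroup G} {i : Fin 3 × Fin 3} (hl : Loc M V z T i) :
    QS z i ≤ QQ (z i) := by
  unfold QS
  rw [closure_le]
  rintro y ⟨c, hc, j, hj, rfl⟩
  exact QQ_norm (mem_CC.1 hc) (E_mem h hl hj)

/-- `[O₂(C(z i)), z j] ≤ ⟨z i⟩` for `z j ⊥ z i` -/
theorem comm_E (h : Pts M V z) {T : Subgroup G} {i : Fin 3 × Fin 3} (hl : Loc M V z T i) {q : G}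
    (hq : q ∈ QQ (z i)) {j : Fin 3 × Fin 3} (hij : ¬ op i j) :
    q * z j * q⁻¹ = z j ∨ q * z j * q⁻¹ = z i * z j := by
  obtain ⟨a, b⟩ := i
  obtain ⟨c, d⟩ := j
  have hr : ∀ y, z (a, t b y) = z (a, y) ∨ z (a, t b y) = z (a, b) * z (a, y) := by
    intro y
    by_cases hy : b = y
    · subst hy; left; rw [t_self]
    · right; rw [h.grid.row a b y hy]
  have hc : ∀ x, z (t a x, b) = z (x, b) ∨ z (t a x, b) = z (a, b) * z (x, b) := by
    intro x
    by_cases hx : a = x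
    · subst hx; left; rw [t_self]
    · right; rw [h.grid.col b a x hx]
  by_cases hac : a = c
  · subst hac
    rcases hl.act q hq with h1 | h1 | h1 | h1
    · left; exact h1 a d
    · rw [h1 a d]; exact hr d
    · left; rw [h1 a d]; simp only [id, t_self]
    · rw [h1 a d]; simp only [t_self]; exact hr d
  · by_cases hbd : b = d
    · subst hbd
      rcases hl.act q hq with h1 | h1 | h1 | h1
      · left; exact h1 c b
      · left; rw [h1 c b]; simp only [id, t_self]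
      · rw [h1 c b]; exact hc c
      · rw [h1 c b]; simp only [t_self]; exact hc c
    · exact absurd ⟨hac, hbd⟩ hij

/-- `[QS, O₂(C(z i))] ≤ ⟨z i⟩` -/
theorem comm_QS (h : Pts M V z) {T : Subgroup G} {i : Fin 3 × Fin 3} (hl : Loc M V z T i) {x : G}
    (hx : x ∈ QS z i) : ∀ y ∈ QQ (z i), x * y * x⁻¹ = y ∨ x * y * x⁻¹ = z i * y := by
  have hzz := h.grid.sq i
  have hQz : ∀ y ∈ QQ (z i), y * z i = z i * y := fun y hy => hl.cz y (hl.QT hy)
  unfold QS at hx
  induction hx using closure_induction with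
  | mem x hx =>
    obtain ⟨c, hc, j, hj, rfl⟩ := hx
    intro y hy
    have hc' := mem_CC.1 hc
    have hci := inv_comm hc'
    have hy' := QQ_norm hci hy
    have h1 := comm_E h hl hy' hj
    have h2 : z j * (c⁻¹ * y * c⁻¹⁻¹) * (z j)⁻¹ = c⁻¹ * y * c⁻¹⁻¹ ∨
        z j * (c⁻¹ * y * c⁻¹⁻¹) * (z j)⁻¹ = z i * (c⁻¹ * y * c⁻¹⁻¹) := by
      rcases h1 with h1 | h1
      · left; exact comm_conj (conj_comm h1).symm
      · right
        have h3 : (c⁻¹ * y * c⁻¹⁻¹) * z j = z i * z j * (c⁻¹ * y * c⁻¹⁻¹) := by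
          rw [← h1]; group
        have h4 : z j * (c⁻¹ * y * c⁻¹⁻¹) = z i * ((c⁻¹ * y * c⁻¹⁻¹) * z j) := by
          rw [h3]
          calc z j * (c⁻¹ * y * c⁻¹⁻¹) = 1 * (z j * (c⁻¹ * y * c⁻¹⁻¹)) := by rw [one_mul]
            _ = z i * z i * (z j * (c⁻¹ * y * c⁻¹⁻¹)) := by rw [hzz]
            _ = z i * (z i * z j * (c⁻¹ * y * c⁻¹⁻¹)) := by group
        rw [h4]; group
    have e1 : c * z j * c⁻¹ * y * (c * z j * c⁻¹)⁻¹ =
        c * (z j * (c⁻¹ * y * c⁻¹⁻¹) * (z j)⁻¹) * c⁻¹ := by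
      group
    rw [e1]
    rcases h2 with h2 | h2
    · left; rw [h2]; group
    · right
      rw [h2]
      calc c * (z i * (c⁻¹ * y * c⁻¹⁻¹)) * c⁻¹ = (c * z i) * (c⁻¹ * y) := by group
        _ = z i * y := by rw [hc']; group
  | one => intro y _; left; group
  | mul a b ha0 hb0 ha hb =>
    intro y hy
    have ha1 : a ∈ QQ (z i) := QS_le h hl ha0
    have e : a * b * y * (a * b)⁻¹ = a * (b * y * b⁻¹) * a⁻¹ := by group
    rw [e]
    rcases hb y hy with h1 | h1
    · rw [h1]; exact ha y hy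
    · rw [h1]
      have e2 : a * (z i * y) * a⁻¹ = z i * (a * y * a⁻¹) := by
        calc a * (z i * y) * a⁻¹ = (a * z i) * y * a⁻¹ := by group
          _ = z i * (a * y * a⁻¹) := by rw [hQz a ha1]; group
      rw [e2]
      rcases ha y hy with h2 | h2
      · right; rw [h2]
      · left; rw [h2, ← mul_assoc, hzz, one_mul]
  | inv a ha0 ha =>
    intro y hy
    have ha1 : a ∈ QQ (z i) := QS_le h hl ha0
    rcases ha y hy with h1 | h1
    · left
      calc a⁻¹ * y * a⁻¹⁻¹ = a⁻¹ * (a * y * a⁻¹) * a := by rw [h1]; group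
        _ = y := by group
    · right
      have h2 : a * (z i * y) * a⁻¹ = y := by
        calc a * (z i * y) * a⁻¹ = (a * z i) * y * a⁻¹ := by group
          _ = z i * (a * y * a⁻¹) := by rw [hQz a ha1]; group
          _ = y := by rw [h1, ← mul_assoc, hzz, one_mul]
      calc a⁻¹ * y * a⁻¹⁻¹ = a⁻¹ * (a * (z i * y) * a⁻¹) * a := by rw [h2]; group
        _ = z i * y := by group

/-- `[O₂(C(z i)), z k] ≤ (z i)^⊥` -/
theorem comm_pt (h : Pts M V z) {T : Subgroup G} {i : Fin 3 × Fin 3} (hl : Loc M V z T i) {q : G}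
    (hq : q ∈ QQ (z i)) (k : Fin 3 × Fin 3) : z k * q * (z k)⁻¹ * q⁻¹ ∈ QS z i := by
  obtain ⟨a, b⟩ := i
  obtain ⟨c, d⟩ := k
  have e : z (c, d) * q * (z (c, d))⁻¹ * q⁻¹ = z (c, d) * (q * z (c, d) * q⁻¹) := by
    rw [h.grid.zinv]; group
  rw [e]
  have hr : ∀ x y, z (x, y) * z (x, t b y) ∈ QS z (a, b) := by
    intro x y
    by_cases hy : b = y
    · subst hy; rw [t_self, h.grid.sq]; exact one_mem _
    · have : z (x, y) * z (x, t b y) = z (x, b) := by
        rw [h.grid.row x y (t b y) (Ne.symm (t_ne b y hy)), t_symm b y, t_t]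
      rw [this]
      exact mem_QS fun H => H.2 rfl
  have hc : ∀ x y, z (x, y) * z (t a x, y) ∈ QS z (a, b) := by
    intro x y
    by_cases hx : a = x
    · subst hx; rw [t_self, h.grid.sq]; exact one_mem _
    · have : z (x, y) * z (t a x, y) = z (a, y) := by
        rw [h.grid.col y x (t a x) (Ne.symm (t_ne a x hx)), t_symm a x, t_t]
      rw [this]
      exact mem_QS fun H => H.1 rfl
  rcases hl.act q hq with h1 | h1 | h1 | h1
  · rw [h1 c d]; simp only [id, h.grid.sq]; exact one_mem _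
  · rw [h1 c d]; exact hr c d
  · rw [h1 c d]; exact hc c d
  · rw [h1 c d]
    have e2 : z (c, d) * z (t a c, t b d) =
        (z (c, d) * z (c, t b d)) * (z (c, t b d) * z (t a c, t b d)) := by
      calc z (c, d) * z (t a c, t b d) =
          z (c, d) * 1 * z (t a c, t b d) := by group
        _ = z (c, d) * (z (c, t b d) * z (c, t b d)) * z (t a c, t b d) := by rw [h.grid.sq]
        _ = _ := by group
    simp only
    rw [e2]
    exact mul_mem (hr c d) (hc c (t b d))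

/-- `QS` induces all of `U U'`. -/
theorem exists_types [Finite G] (h : Pts M V z) {T : Subgroup G} {i : Fin 3 × Fin 3}
    (hl : Loc M V z T i) : (∃ u ∈ QS z i, Act z u id (t i.2)) ∧ ∃ u ∈ QS z i, Act z u (t i.1) id := by
  by_contra hcon
  apply hl.VQ
  have hQS := QS_le h hl
  -- types
  have t1 : ∀ u ∈ QS z i, ∀ v ∈ QS z i, Act z u id (t i.2) → ¬ Act z v (t i.1) id :=
    fun u hu v hv h1 h2 => hcon ⟨⟨u, hu, h1⟩, ⟨v, hv, h2⟩⟩
  have t2 : ∀ u ∈ QS z i, ∀ v ∈ QS z i, Act z u id (t i.2) → ¬ Act z v (t i.1) (t i.2) := by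
    intro u hu v hv h1 h2
    refine hcon ⟨⟨u, hu, h1⟩, ⟨u * v, mul_mem hu hv, ?_⟩⟩
    intro x y
    have h3 := (h1.mul h2) x y
    simpa [t_t] using h3
  have t3 : ∀ u ∈ QS z i, ∀ v ∈ QS z i, Act z u (t i.1) id → ¬ Act z v (t i.1) (t i.2) := by
    intro u hu v hv h1 h2
    refine hcon ⟨⟨u * v, mul_mem hu hv, ?_⟩, ⟨u, hu, h1⟩⟩
    intro x y
    have h3 := (h1.mul h2) x y
    simpa [t_t] using h3
  -- the commutators `[z k, u]` are centralised by `QS`
  have hcz : ∀ u ∈ QS z i, ∀ v ∈ QS z i, ∀ x y,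
      v * (z (x, y) * (u * z (x, y) * u⁻¹)) = z (x, y) * (u * z (x, y) * u⁻¹) * v := by
    intro u hu v hv x y
    -- if `v` has the same type as `u`
    have same : ∀ f g : Fin 3 → Fin 3, (∀ x, f (f x) = x) → (∀ x, g (g x) = x) → Act z u f g →
        Act z v f g → v * (z (x, y) * (u * z (x, y) * u⁻¹)) =
          z (x, y) * (u * z (x, y) * u⁻¹) * v := by
      intro f g hf hg h1 h2
      apply conj_comm
      rw [h1 x y]
      calc v * (z (x, y) * z (f x, g y)) * v⁻¹ =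
          (v * z (x, y) * v⁻¹) * (v * z (f x, g y) * v⁻¹) := by group
        _ = z (f x, g y) * z (x, y) := by rw [h2, h2, hf, hg]
        _ = z (x, y) * z (f x, g y) := h.grid.comm _ _
    have triv : Act z v id id → v * (z (x, y) * (u * z (x, y) * u⁻¹)) =
        z (x, y) * (u * z (x, y) * u⁻¹) * v := by
      intro h2
      obtain ⟨k, hk⟩ := h.perm u (hl.TM (hl.QT (hQS hu))) (x, y)
      apply conj_comm
      rw [hk]
      calc v * (z (x, y) * z k) * v⁻¹ = (v * z (x, y) * v⁻¹) * (v * z k * v⁻¹) := by group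
        _ = z (x, y) * z k := by rw [h2 x y, h2 k.1 k.2]; rfl
    have triv' : Act z u id id → v * (z (x, y) * (u * z (x, y) * u⁻¹)) =
        z (x, y) * (u * z (x, y) * u⁻¹) * v := by
      intro h1
      rw [h1 x y]
      simp only [id, h.grid.sq, mul_one, one_mul]
    rcases hl.act u (hQS hu) with h1 | h1 | h1 | h1
    · exact triv' h1
    all_goals
      rcases hl.act v (hQS hv) with h2 | h2 | h2 | h2
      · exact triv h2
      all_goals
        first
        | exact same _ _ (fun _ => rfl) (t_t _) h1 h2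
        | exact same _ _ (t_t _) (fun _ => rfl) h1 h2
        | exact same _ _ (t_t _) (t_t _) h1 h2
        | exact absurd h2 (t1 u hu v hv h1)
        | exact absurd h1 (t1 v hv u hu h2)
        | exact absurd h2 (t2 u hu v hv h1)
        | exact absurd h1 (t2 v hv u hu h2)
        | exact absurd h2 (t3 u hu v hv h1)
        | exact absurd h1 (t3 v hv u hu h2)
  -- the elements of `Z(QS)` centralise all points
  have hZ : ∀ w ∈ QS z i ⊓ centralizer (QS z i : Set G), ∀ k, w * z k = z k * w := by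
    intro w hw k
    obtain ⟨hw1, hw2⟩ := mem_inf.1 hw
    rw [mem_centralizer_iff] at hw2
    obtain ⟨a, b⟩ := i
    obtain ⟨a', ha⟩ := ex_ne a
    obtain ⟨b', hb⟩ := ex_ne b
    have e1 := hw2 _ (mem_QS (z := z) (i := (a, b)) (j := (a, b')) fun H => H.1 rfl)
    have e2 := hw2 _ (mem_QS (z := z) (i := (a, b)) (j := (a', b)) fun H => H.2 rfl)
    have f1 : w * z (a, b') * w⁻¹ = z (a, b') := comm_conj e1.symm
    have f2 : w * z (a', b) * w⁻¹ = z (a', b) := comm_conj e2.symm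
    rcases hl.act w (hQS hw1) with h1 | h1 | h1 | h1
    · have h3 := h1 k.1 k.2
      exact conj_comm h3
    · exfalso
      rw [h1 a b'] at f1
      exact t_ne b b' hb (congrArg Prod.snd (h.grid.inj f1))
    · exfalso
      rw [h1 a' b] at f2
      exact t_ne a a' ha (congrArg Prod.fst (h.grid.inj f2))
    · exfalso
      rw [h1 a b'] at f1
      exact t_ne b b' hb (congrArg Prod.snd (h.grid.inj f1))
  have hall : ∀ k, z k ∈ QQ (z i) := by
    intro k
    refine chain3 (R := QS z i) (Z := QS z i ⊓ centralizer (QS z i : Set G)) hl.char2 hQS inf_le_left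
      (fun c hc y hy => QS_norm hc hy) ?_ (h.grid.comm k i) (fun q hq => comm_pt h hl hq k) ?_
      (fun w hw => (hZ w hw k).symm)
    · intro c hc y hy
      obtain ⟨hy1, hy2⟩ := mem_inf.1 hy
      rw [mem_centralizer_iff] at hy2
      refine mem_inf.2 ⟨QS_norm hc hy1, ?_⟩
      rw [mem_centralizer_iff]
      intro u hu
      have h6 := hy2 _ (QS_norm (inv_comm hc) hu)
      calc u * (c * y * c⁻¹) = c * ((c⁻¹ * u * c⁻¹⁻¹) * y) * c⁻¹ := by group
        _ = c * (y * (c⁻¹ * u * c⁻¹⁻¹)) * c⁻¹ := by rw [h6]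
        _ = c * y * c⁻¹ * u := by group
    · intro u hu
      refine mem_inf.2 ⟨?_, ?_⟩
      · exact mul_mem (QS_norm (h.grid.comm k i) hu) (inv_mem hu)
      · rw [mem_centralizer_iff]
        intro v hv
        have e : z k * u * (z k)⁻¹ * u⁻¹ = z k * (u * z k * u⁻¹) := by
          rw [h.grid.zinv]; group
        rw [e]
        exact hcz u hu v hv k.1 k.2
  refine h.gen.trans ?_
  rw [closure_le]
  rintro _ ⟨k, rfl⟩
  exact hall k

/-- `min` -/
theorem min_mem [Finite G] {T : Subgroup G} {i : Fin 3 × Fin 3} (hl : Loc M V z T i)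
    {Y : Subgroup G} (hY : Y ≤ QQ (z i))
    (hn : ∀ m ∈ M, m * z i = z i * m → ∀ y ∈ Y, m * y * m⁻¹ ∈ Y) (hne : Y ≠ ⊥) : z i ∈ Y := by
  have hYT : Y ≤ T := hY.trans hl.QT
  have : Fact (Nat.Prime 2) := ⟨Nat.prime_two⟩
  have : Group.IsNilpotent T := hl.pg.isNilpotent
  have hN : (Y.subgroupOf T).Normal := ⟨fun y hy t => by
    rw [mem_subgroupOf] at hy ⊢
    exact hn t (hl.TM t.2) (hl.cz t t.2) y hy⟩
  have hNb : Y.subgroupOf T ≠ ⊥ := by
    intro h1
    apply hne
    rw [eq_bot_iff]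
    intro y hy
    have h2 : (⟨y, hYT hy⟩ : T) ∈ Y.subgroupOf T := mem_subgroupOf.2 hy
    rw [h1, mem_bot] at h2
    exact mem_bot.2 (congrArg Subtype.val h2)
  have h1 := Cfsg.Agent.Lib.NormalAbelian.normal_inf_center_ne_bot (Y.subgroupOf T) hNb
  obtain ⟨⟨x, hxT⟩, hx, hx1⟩ : ∃ x : T, x ∈ Y.subgroupOf T ⊓ center T ∧ x ≠ 1 := by
    by_contra hcon
    push Not at hcon
    exact h1 (eq_bot_iff.2 fun x hx => mem_bot.2 (hcon x hx))
  have hx1' : x ≠ 1 := fun h => hx1 (Subtype.ext h)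
  obtain ⟨hxY, hxZ⟩ := mem_inf.1 hx
  rw [mem_subgroupOf] at hxY
  have hxc : ∀ s ∈ T, x * s = s * x := by
    intro s hs
    have := mem_center_iff.1 hxZ ⟨s, hs⟩
    exact (congrArg Subtype.val this).symm
  -- an involution in `⟨x⟩`
  obtain ⟨k, hk⟩ := (IsPGroup.iff_orderOf.1 hl.pg) ⟨x, hxT⟩
  have hk' : orderOf x = 2 ^ k := by
    rw [← hk, ← orderOf_submonoid]
  have hk0 : k ≠ 0 := by
    rintro rfl
    rw [pow_zero, orderOf_eq_one_iff] at hk'
    exact hx1' hk'
  obtain ⟨k, rfl⟩ := Nat.exists_eq_succ_of_ne_zero hk0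
  have hy2 : x ^ 2 ^ k * x ^ 2 ^ k = 1 := by
    rw [← pow_add, ← two_mul, ← pow_succ', ← Nat.succ_eq_add_one, ← hk']
    exact pow_orderOf_eq_one x
  have hy1 : x ^ 2 ^ k ≠ 1 := by
    intro h5
    have h6 := orderOf_dvd_of_pow_eq_one h5
    rw [hk', Nat.succ_eq_add_one, Nat.pow_dvd_pow_iff_le_right (by norm_num)] at h6
    omega
  rcases hl.Z (x ^ 2 ^ k) (pow_mem hxT _) (fun s hs => (show Commute x s from hxc s hs).pow_left _) hy2
    with h5 | h5
  · exact absurd h5 hy1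
  · rw [← h5]; exact pow_mem hxY _

/-- The configuration `DP`. -/
theorem dp_of_loc [Finite G] (h : Pts M V z) (hMV : M ≤ normalizer (V : Set G)) {T₀ : Subgroup G}
    {i₀ : Fin 3 × Fin 3} (h0 : Loc M V z T₀ i₀) : DP M z (fun i => QQ (z i)) (fun i => QS z i) := by
  have hloc : ∀ i, ∃ T, Loc M V z T i := by
    intro i
    obtain ⟨σ, hσ⟩ := ex_perm i₀.1 i.1
    obtain ⟨τ, hτ⟩ := ex_perm i₀.2 i.2
    obtain ⟨m, hm, hmz⟩ := h.big σ τ
    have h1 := h0.conj hMV hm hmz
    rw [hσ, hτ] at h1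
    exact ⟨_, h1⟩
  choose T hT using hloc
  exact
    { inj := h.grid.inj
      ne_one := h.grid.ne_one
      sq := h.grid.sq
      comm := h.grid.comm
      row := h.grid.row
      col := h.grid.col
      QM := fun i => (hT i).QT.trans (hT i).TM
      perm := h.perm
      eqQ := fun m _ i j hij x hx => by
        have h1 := (mem_QQ_conj (g := m)).2 hx
        rwa [hij] at h1
      eqQs := fun m hm i j hij x hx => QS_conj h hm hij hx
      nQ := fun i c hc x hx => QQ_norm hc hx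
      nQs := fun i c hc x hx => QS_norm hc hx
      le := fun i => QS_le h (hT i)
      zmem := fun i => mem_QS fun H => H.1 rfl
      Qz := fun i x hx => (hT i).cz x ((hT i).QT hx)
      comQ := fun i x hx y hy => by
        rcases comm_QS h (hT i) hx y hy with h1 | h1
        · exact Or.inl (conj_comm h1)
        · right
          calc x * y = x * y * x⁻¹ * x := by group
            _ = z i * (y * x) := by rw [h1]; group
      pair := fun i j hij => mem_QS hij
      sr := fun a b => (exists_types h (hT (a, b))).1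
      sc := fun a b => (exists_types h (hT (a, b))).2
      min := fun i Y hY hn hne => min_mem (hT i) hY hn hne }

end Facts

/-- The local data at `z i` -/
theorem loc_of [Finite G] (hG : IsCharacteristicTwoType G) (S : Sylow 2 G) {M V : Subgroup G}
    {z : Fin 3 × Fin 3 → G} {i : Fin 3 × Fin 3} (h : Pts M V z) (hSM : (S : Subgroup G) ≤ M)
    (hVS : V ≤ (S : Subgroup G)) (hzS : ∀ s ∈ (S : Subgroup G), s * z i = z i * s)
    (hZ : ∀ x ∈ (S : Subgroup G), (∀ s ∈ (S : Subgroup G), x * s = s * x) → x * x = 1 →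
      x = 1 ∨ x = z i)
    (hVQ : ¬ V ≤ o2 (centralizer ({z i} : Set G)))
    (act : ∀ q ∈ o2 (centralizer ({z i} : Set G)), Act z q id id ∨ Act z q id (t i.2) ∨
      Act z q (t i.1) id ∨ Act z q (t i.1) (t i.2))
    (ar : ∃ q ∈ o2 (centralizer ({z i} : Set G)), Act z q id (t i.2))
    (ac : ∃ q ∈ o2 (centralizer ({z i} : Set G)), Act z q (t i.1) id) :
    Loc M V z (S : Subgroup G) i := by
  have e : QQ (z i) = o2 (centralizer ({z i} : Set G)) := by rw [QQ, CC_eq]
  have hSF : (S : Subgroup G) ≤ CC (z i) := fun s hs => mem_CC.2 (hzS s hs)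
  have hSF' : (S : Subgroup G) ≤ normalizer ((zpowers (z i) : Subgroup G) : Set G) :=
    hSF.trans (LemmaT.centralizer_le_normalizer' _)
  have hF : IsPGroup 2 (zpowers (z i)) := by
    refine S.isPGroup'.to_le ?_
    rw [zpowers_le]
    exact hVS (h.mem i)
  have hF1 : (zpowers (z i) : Subgroup G) ≠ ⊥ := by
    rw [Ne, zpowers_eq_bot]; exact h.grid.ne_one i
  refine ⟨hSM, S.isPGroup', hzS, LemmaT.o2_centralizer_le S hSF', hZ, ?_, ?_, ?_, ?_, ?_⟩
  · intro g hg hgx
    refine LemmaT.char2_centralizer hG hF hF1 (mem_inf.2 ⟨mem_CC.2 hg, ?_⟩)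
    rw [mem_centralizer_iff]
    exact fun x hx => (hgx x hx).symm
  · rwa [e]
  · rwa [e]
  · rwa [e]
  · rwa [e]

open Cfsg.Agent.Co2Type.Quad in
/-- **THEOREM D0+.** -/
theorem large [Finite G] (hG : IsCharacteristicTwoType G) (S : Sylow 2 G) {M V : Subgroup G}
    {z : Fin 3 × Fin 3 → G} {i : Fin 3 × Fin 3} (h : Pts M V z) (hMV : M ≤ normalizer (V : Set G))
    (hSM : (S : Subgroup G) ≤ M)
    (hVS : V ≤ (S : Subgroup G)) (hzS : ∀ s ∈ (S : Subgroup G), s * z i = z i * s)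
    (hZ : ∀ x ∈ (S : Subgroup G), (∀ s ∈ (S : Subgroup G), x * s = s * x) → x * x = 1 →
      x = 1 ∨ x = z i)
    (hVQ : ¬ V ≤ o2 (centralizer ({z i} : Set G)))
    (act : ∀ q ∈ o2 (centralizer ({z i} : Set G)), Act z q id id ∨ Act z q id (t i.2) ∨
      Act z q (t i.1) id ∨ Act z q (t i.1) (t i.2))
    (ar : ∃ q ∈ o2 (centralizer ({z i} : Set G)), Act z q id (t i.2))
    (ac : ∃ q ∈ o2 (centralizer ({z i} : Set G)), Act z q (t i.1) id) :
    Large (o2 (centralizer ({z i} : Set G))) (z i) := by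
  have h0 := loc_of hG S h hSM hVS hzS hZ hVQ act ar ac
  have h2 := (dp_of_loc h hMV h0).large i h0.char2
  have e : QQ (z i) = o2 (centralizer ({z i} : Set G)) := by rw [QQ, CC_eq]
  rwa [e] at h2

end Cfsg.Agent.Omega.NOne.DPlusPts

end

section


/-!
# NO-1, `V = O₄⁺(2)`: coordinates (helper537)

`V = N₁ ⊗ N₂` as the group of bit vectors `Bool⁴`: `phi z : Bool⁴ → G`, `z p = phi z (vec p)`.  The
elements of `M` fixing `z (0, 0)` act as one of the eight elements `act8 b i j` of `D₈`.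
-/

set_option autoImplicit false

namespace Cfsg.Agent.Omega.NOne.PlusVec

open Subgroup
open Cfsg.Agent.Omega.NOne.QuadPts (conj_comm comm_conj)
open Cfsg.Agent.Omega.NOne.DPlus
open Cfsg.Agent.Omega.NOne.DPlusPts

universe u

variable {G : Type u} [Group G]

/-- bit vectors -/
abbrev B4 : Type := Bool × Bool × Bool × Bool

/-- sum of bit vectors -/
def add (v w : B4) : B4 := (v.1 ^^ w.1, v.2.1 ^^ w.2.1, v.2.2.1 ^^ w.2.2.1, v.2.2.2 ^^ w.2.2.2)

/-- the zero vector -/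
def o : B4 := (false, false, false, false)

/-- the vector `z (0, 0)` -/
def z0 : B4 := (true, false, false, false)

/-- the nonsingular vector `e₀` -/
def e0 : B4 := (false, true, true, false)

/-- the nonsingular vector `e₀ z` -/
def e1 : B4 := (true, true, true, false)

/-- the vector `a ⊗ b` -/
def vec : Fin 3 × Fin 3 → B4
  | (0, 0) => (true, false, false, false)
  | (0, 1) => (false, true, false, false)
  | (0, 2) => (true, true, false, false)
  | (1, 0) => (false, false, true, false)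
  | (1, 1) => (false, false, false, true)
  | (1, 2) => (false, false, true, true)
  | (2, 0) => (true, false, true, false)
  | (2, 1) => (false, true, false, true)
  | (2, 2) => (true, true, true, true)

/-- a power with exponent a bit -/
def pw (x : G) (b : Bool) : G := if b then x else 1

theorem pw_xor {x : G} (hx : x * x = 1) (a b : Bool) : pw x (a ^^ b) = pw x a * pw x b := by
  cases a <;> cases b <;> simp [pw, hx]

theorem pw_comm {x y : G} (h : x * y = y * x) (a b : Bool) : pw x a * pw y b = pw y b * pw x a := by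
  cases a <;> cases b <;> simp [pw, h]

theorem conj_pw (g x : G) (a : Bool) : g * pw x a * g⁻¹ = pw (g * x * g⁻¹) a := by
  cases a <;> simp [pw]

/-- the vector with coordinates `v` -/
def phi (z : Fin 3 × Fin 3 → G) (v : B4) : G :=
  pw (z (0, 0)) v.1 * pw (z (0, 1)) v.2.1 * pw (z (1, 0)) v.2.2.1 * pw (z (1, 1)) v.2.2.2

section grid

variable {z : Fin 3 × Fin 3 → G}

theorem phi_o : phi z o = 1 := by simp [phi, o, pw]

theorem phi_add (h : Grid z) (v w : B4) : phi z (add v w) = phi z v * phi z w := by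
  obtain ⟨a, b, c, d⟩ := v
  obtain ⟨a', b', c', d'⟩ := w
  simp only [phi, add]
  rw [pw_xor (h.sq _), pw_xor (h.sq _), pw_xor (h.sq _), pw_xor (h.sq _)]
  have e1 := pw_comm (h.comm (0, 0) (0, 1)) a' b
  have e2 := pw_comm (h.comm (0, 1) (1, 0)) b' c
  have e3 := pw_comm (h.comm (0, 0) (1, 0)) a' c
  have e4 := pw_comm (h.comm (1, 0) (1, 1)) c' d
  have e5 := pw_comm (h.comm (0, 1) (1, 1)) b' d
  have e6 := pw_comm (h.comm (0, 0) (1, 1)) a' d
  generalize pw (z (0, 0)) a = A at *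
  generalize pw (z (0, 0)) a' = A' at *
  generalize pw (z (0, 1)) b = B at *
  generalize pw (z (0, 1)) b' = B' at *
  generalize pw (z (1, 0)) c = C at *
  generalize pw (z (1, 0)) c' = C' at *
  generalize pw (z (1, 1)) d = D at *
  generalize pw (z (1, 1)) d' = D' at *
  calc A * A' * (B * B') * (C * C') * (D * D') = A * (A' * B) * B' * C * C' * D * D' := by group
    _ = A * B * A' * (B' * C) * C' * D * D' := by rw [e1]; group
    _ = A * B * (A' * C) * B' * (C' * D) * D' := by rw [e2]; group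
    _ = A * B * C * A' * (B' * D) * C' * D' := by rw [e3, e4]; group
    _ = A * B * C * (A' * D) * B' * C' * D' := by rw [e5]; group
    _ = A * B * C * D * (A' * B' * C' * D') := by rw [e6]; group

theorem phi_vec (h : Grid z) (p : Fin 3 × Fin 3) : phi z (vec p) = z p := by
  have r01 : z (0, 0) * z (0, 1) = z (0, 2) := h.row 0 0 1 (by decide)
  have c01 : z (0, 0) * z (1, 0) = z (2, 0) := h.col 0 0 1 (by decide)
  have r1 : z (1, 0) * z (1, 1) = z (1, 2) := h.row 1 0 1 (by decide)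
  have c1 : z (0, 1) * z (1, 1) = z (2, 1) := h.col 1 0 1 (by decide)
  have c2 : z (0, 2) * z (1, 2) = z (2, 2) := h.col 2 0 1 (by decide)
  obtain ⟨a, b⟩ := p
  fin_cases a <;> fin_cases b
  · simp [phi, vec, pw]
  · simp [phi, vec, pw]
  · simp [phi, vec, pw, r01]
  · simp [phi, vec, pw]
  · simp [phi, vec, pw]
  · simp [phi, vec, pw, r1]
  · simp [phi, vec, pw, c01]
  · simp [phi, vec, pw, c1]
  · simp only [phi, vec, pw, if_true]
    show z (0, 0) * z (0, 1) * z (1, 0) * z (1, 1) = z (2, 2)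
    rw [mul_assoc, r1, r01, c2]

theorem vec_cases : ∀ v : B4, v = o ∨ (∃ p, v = vec p) ∨ ∃ p q, op p q ∧ v = add (vec p) (vec q) := by
  decide

theorem phi_ne (h : Grid z) {v : B4} (hv : v ≠ o) : phi z v ≠ 1 := by
  rcases vec_cases v with rfl | ⟨p, rfl⟩ | ⟨p, q, hpq, rfl⟩
  · exact absurd rfl hv
  · rw [phi_vec h]; exact h.ne_one p
  · rw [phi_add h, phi_vec h, phi_vec h]
    intro e
    have e2 := eq_inv_of_mul_eq_one_left e
    rw [h.zinv] at e2
    have e3 := h.inj e2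
    rw [e3] at hpq
    exact hpq.1 rfl

theorem add_self : ∀ v : B4, add v v = o := by decide
theorem add_comm' : ∀ v w : B4, add v w = add w v := by decide +kernel
theorem add_eq_o : ∀ v w : B4, add v w = o → v = w := by decide +kernel

theorem phi_inj (h : Grid z) {v w : B4} (e : phi z v = phi z w) : v = w := by
  by_contra hne
  refine phi_ne h (v := add v w) (fun e' => hne (add_eq_o v w e')) ?_
  rw [phi_add h, e, ← phi_add h, add_self, phi_o]

theorem phi_sq (h : Grid z) (v : B4) : phi z v * phi z v = 1 := by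
  rw [← phi_add h, add_self, phi_o]

theorem phi_inv (h : Grid z) (v : B4) : (phi z v)⁻¹ = phi z v :=
  inv_eq_of_mul_eq_one_left (phi_sq h v)

theorem phi_comm (h : Grid z) (v w : B4) : phi z v * phi z w = phi z w * phi z v := by
  rw [← phi_add h, ← phi_add h, add_comm']

/-- every element of `V` is a `phi z v` -/
theorem exists_phi {M V : Subgroup G} (h : Pts M V z) {x : G} (hx : x ∈ V) : ∃ v, x = phi z v := by
  have hx' := h.gen hx
  clear hx
  induction hx' using closure_induction with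
  | mem x hx =>
    obtain ⟨p, rfl⟩ := hx
    exact ⟨vec p, (phi_vec h.grid p).symm⟩
  | one => exact ⟨o, phi_o.symm⟩
  | mul a b _ _ ha hb =>
    obtain ⟨v, rfl⟩ := ha
    obtain ⟨w, rfl⟩ := hb
    exact ⟨add v w, (phi_add h.grid v w).symm⟩
  | inv a _ ha =>
    obtain ⟨v, rfl⟩ := ha
    exact ⟨v, phi_inv h.grid v⟩

theorem phi_mem {M V : Subgroup G} (h : Pts M V z) (v : B4) : phi z v ∈ V := by
  have hp : ∀ p b, pw (z p) b ∈ V := by
    intro p b
    cases b
    · exact one_mem _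
    · exact h.mem p
  exact mul_mem (mul_mem (mul_mem (hp _ _) (hp _ _)) (hp _ _)) (hp _ _)

/-- the linear map given by the images of the basis vectors -/
def lin (π : Fin 3 × Fin 3 → Fin 3 × Fin 3) (v : B4) : B4 :=
  add (add (add (if v.1 then vec (π (0, 0)) else o) (if v.2.1 then vec (π (0, 1)) else o))
    (if v.2.2.1 then vec (π (1, 0)) else o)) (if v.2.2.2 then vec (π (1, 1)) else o)

/-- `m` acts on the points by `π` -/
def Has (z : Fin 3 × Fin 3 → G) (m : G) (π : Fin 3 × Fin 3 → Fin 3 × Fin 3) : Prop :=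
  ∀ p, m * z p * m⁻¹ = z (π p)

theorem Has.mul {m n : G} {π ρ : Fin 3 × Fin 3 → Fin 3 × Fin 3} (h : Has z m π) (h' : Has z n ρ) :
    Has z (m * n) (fun p => π (ρ p)) := by
  intro p
  calc m * n * z p * (m * n)⁻¹ = m * (n * z p * n⁻¹) * m⁻¹ := by group
    _ = _ := by rw [h', h]

theorem Has.conj_phi (hz : Grid z) {m : G} {π : Fin 3 × Fin 3 → Fin 3 × Fin 3} (h : Has z m π) (v : B4) :
    m * phi z v * m⁻¹ = phi z (lin π v) := by
  have key : ∀ p (b : Bool), m * pw (z p) b * m⁻¹ = phi z (if b then vec (π p) else o) := by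
    intro p b
    rw [conj_pw, h]
    cases b
    · simp [pw, phi_o]
    · simp [pw, phi_vec hz]
  rw [lin, phi_add hz, phi_add hz, phi_add hz, ← key, ← key, ← key, ← key, PlusVec.phi]
  group

theorem Has.unique (hz : Grid z) {m : G} {π ρ : Fin 3 × Fin 3 → Fin 3 × Fin 3} (h : Has z m π)
    (h' : Has z m ρ) : π = ρ := by
  funext p
  apply hz.inj
  rw [← h, ← h']

end grid

/-- the eight elements of `D₈` -/
def act8 (b i j : Bool) (p : Fin 3 × Fin 3) : Fin 3 × Fin 3 :=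
  (if i then t 0 (if b then p.2 else p.1) else (if b then p.2 else p.1),
    if j then t 0 (if b then p.1 else p.2) else (if b then p.1 else p.2))

theorem act8_inj : ∀ b i j b' i' j' : Bool, (∀ p, act8 b i j p = act8 b' i' j' p) →
    b = b' ∧ i = i' ∧ j = j' := by decide +kernel

theorem act8_mul : ∀ b i j b' i' j' : Bool, ∀ p, act8 b i j (act8 b' i' j' p) =
    act8 (b ^^ b') (i ^^ (if b then j' else i')) (j ^^ (if b then i' else j')) p := by
  decide +kernel

theorem act8_id : ∀ p, act8 false false false p = p := by decide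

theorem act8_fix : ∀ b i j, act8 b i j (0, 0) = (0, 0) := by decide

theorem perm_cases : ∀ σ : Equiv.Perm (Fin 3), σ 0 = 0 → (∀ x, σ x = x) ∨ ∀ x, σ x = t 0 x := by
  decide

end Cfsg.Agent.Omega.NOne.PlusVec

end
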